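import Groth.Agent.PolLib.Ker
import Mathlib.RingTheory.IntegralClosure.Algebra.Basic

/-! The characteristic polynomial of an element for a law with values in the base ring. -/

universe u

open scoped TensorProduct

namespace Groth.Agent.PolLib

open PolLaw Polynomial

variable {A : Type u} [CommRing A] {B : Type u} [CommRing B] [Algebra A B] {d : ℕ}
  (F : MulLaw A B A d)

theorem mu_eq_rid {R : Type u} [CommRing R] [Algebra A R] (g : A →ₐ[A] R) (z : R ⊗[A] A) :
    mu g z = TensorProduct.rid A R z := by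
  induction z using TensorProduct.induction_on with
  | zero => simp
  | tmul r a =>
    rw [Subsingleton.elim g (Algebra.ofId A R)]
    simp [Algebra.smul_def, mul_comm]
  | add a b ha hb => simp [ha, hb]

theorem evl_eq_rid {R : Type u} [CommRing R] [Algebra A R] (g : A →ₐ[A] R) (z : R ⊗[A] B) :
    evl F g z = TensorProduct.rid A R (F.law.toFun' R z) := mu_eq_rid g _

/-- The characteristic polynomial of `b`. -/
noncomputable def chi (b : B) : A[X] := charX F (AlgHom.id A A) ((1 : A) ⊗ₜ[A] b)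

theorem chi_eq (b : B) : chi F b = TensorProduct.rid A A[X]
    (F.law.toFun' A[X] ((1 : A[X]) ⊗ₜ[A] b - X ⊗ₜ[A] (1 : B))) := by
  rw [chi, charX, rB_tmul, map_one, evl_eq_rid]

theorem aeval_chi_mem_ker (b : B) : aeval b (chi F b) ∈ PolLaw.ker F.law := by
  rw [mem_ker_iff_evl]
  intro R _ _ g x w
  have h1 : (1 : R) ⊗ₜ[A] b = rB B (Algebra.ofId A R) ((1 : A) ⊗ₜ[A] b) := by simp
  have h2 := charX_nat F (AlgHom.id A A) (Algebra.ofId A R) (Subsingleton.elim _ g)
    ((1 : A) ⊗ₜ[A] b)
  have h3 : (1 : R) ⊗ₜ[A] aeval b (chi F b) =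
      rB B (Algebra.ofId A R) (aeval ((1 : A) ⊗ₜ[A] b) (chi F b)) := by
    have := Polynomial.aeval_algHom_apply
      (Algebra.TensorProduct.includeRight : B →ₐ[A] A ⊗[A] B) b (chi F b)
    simp only [Algebra.TensorProduct.includeRight_apply] at this
    rw [this, rB_tmul, map_one]
  rw [h3, rB_aeval, chi, ← h2, ← h1]
  exact evl_cayleyHamilton F g _ x w

theorem chi_of_mem_ker {b : B} (hb : b ∈ PolLaw.ker F.law) : chi F b = (-X) ^ d := by
  have h : (1 : A) ⊗ₜ[A] b ∈ PolLaw.kerBC F.law A :=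
    map_ker_le_kerBC F A (Ideal.mem_map_of_mem _ hb)
  have := charX_of_mem_kerBC F (AlgHom.id A A) h (AlgHom.id A A)
  rwa [rB_id] at this

theorem chi_monic (b : B) : ((-1) ^ d * chi F b).Monic := monic_charX F _ _

theorem mem_radical_span_chi {b : B} (hb : b ∈ PolLaw.ker F.law) :
    b ∈ (Ideal.span (Set.range fun b : B => aeval b (chi F b))).radical := by
  refine ⟨d, ?_⟩
  have h : aeval b (chi F b) ∈ Ideal.span (Set.range fun b : B => aeval b (chi F b)) :=
    Ideal.subset_span ⟨b, rfl⟩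
  rw [chi_of_mem_ker F hb, map_pow, map_neg, aeval_X, neg_pow] at h
  have := Ideal.mul_mem_left _ ((-1) ^ d) h
  rwa [← mul_assoc, ← mul_pow, neg_one_mul, neg_neg, one_pow, one_mul] at this

theorem isIntegral_image : Algebra.IsIntegral A (PolLaw.image F.law) := by
  refine ⟨fun c => ?_⟩
  obtain ⟨b, rfl⟩ := Ideal.Quotient.mk_surjective c
  refine ⟨(-1) ^ d * chi F b, chi_monic F b, ?_⟩
  rw [← aeval_def, ← Ideal.Quotient.mkₐ_eq_mk A, aeval_algHom_apply, map_mul]
  rw [Ideal.Quotient.mkₐ_eq_mk, Ideal.Quotient.eq_zero_iff_mem]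
  exact Ideal.mul_mem_left _ _ (aeval_chi_mem_ker F b)

end Groth.Agent.PolLib
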