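import Groth.Agent.PolLib.Gamma
import Mathlib.RingTheory.Finiteness.Basic
import Mathlib.RingTheory.IntegralClosure.Algebra.Basic
import Mathlib.RingTheory.Invariant.Basic
import Mathlib.RingTheory.Adjoin.Tower
import Mathlib.LinearAlgebra.TensorProduct.Finiteness

/-! Finiteness properties of divided powers and of symmetric tensors. -/

universe u v w

open scoped TensorProduct

namespace Groth.Agent.PolLib

open PolLaw

variable {A : Type u} [CommRing A] {B : Type u} [CommRing B] [Algebra A B] {d : ℕ}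
  {C : Type u} [CommRing C] [Algebra A C]

theorem exists_eq_sum_tmul {n : ℕ} (g : Fin n → B) (hg : Submodule.span A (Set.range g) = ⊤)
    {S : Type u} [CommSemiring S] [Algebra A S] (z : S ⊗[A] B) :
    ∃ a : Fin n → S, z = ∑ i, a i ⊗ₜ[A] g i := by
  induction z using TensorProduct.induction_on with
  | zero => exact ⟨0, by simp⟩
  | add x y hx hy =>
    obtain ⟨a, rfl⟩ := hx
    obtain ⟨b, rfl⟩ := hy
    exact ⟨a + b, by simp [TensorProduct.add_tmul, Finset.sum_add_distrib]⟩
  | tmul s x =>
    obtain ⟨c, rfl⟩ := (Submodule.mem_span_range_iff_exists_fun A).mp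
      (hg ▸ Submodule.mem_top : x ∈ Submodule.span A (Set.range g))
    exact ⟨fun i => c i • s, by simp [TensorProduct.tmul_sum, TensorProduct.smul_tmul]⟩

theorem moduleFinite_gamma {γ : MulLaw A B C d} (hγ : IsGammaD γ) [Module.Finite A B] :
    Module.Finite A C := by
  obtain ⟨n, g, hg⟩ := Module.Finite.exists_fin (R := A) (M := B)
  let z₀ : MvPolynomial (Fin n) A ⊗[A] B := ∑ i, MvPolynomial.X i ⊗ₜ[A] g i
  obtain ⟨T, hT⟩ := TensorProduct.exists_finset (ev γ _ z₀)
  refine Module.Finite.of_fg_top ?_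
  rw [← span_coeffs hγ, Submodule.fg_def]
  refine ⟨(fun p => p.2) '' (T : Set (MvPolynomial (Fin n) A × C)),
    T.finite_toSet.image _, le_antisymm (fun _ _ => span_coeffs hγ ▸ trivial)
      (Submodule.span_le.mpr ?_)⟩
  rintro _ ⟨σ, μ, z, rfl⟩
  obtain ⟨a, ha⟩ := exists_eq_sum_tmul g hg z
  have hz : z = rB B (MvPolynomial.aeval a) z₀ := by simp [z₀, ha, map_sum]
  rw [hz, ← ev_nat, hT, map_sum, map_sum]
  refine Submodule.sum_mem _ fun p hp => ?_
  rw [rB_tmul, cf_tmul]
  exact Submodule.smul_mem _ _ (Submodule.subset_span ⟨p, hp, rfl⟩)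

theorem exists_mem_range_bc {S : Type u} [CommSemiring S] [Algebra A S] (z : S ⊗[A] B) :
    ∃ s : Set B, s.Finite ∧ ∀ B' : Subalgebra A B, s ⊆ B' → ∃ z', bc B'.val S z' = z := by
  obtain ⟨T, rfl⟩ := TensorProduct.exists_finset z
  refine ⟨(fun p => p.2) '' (T : Set (S × B)), T.finite_toSet.image _, fun B' hB' => ?_⟩
  refine ⟨∑ p ∈ T.attach, p.1.1 ⊗ₜ[A] ⟨p.1.2, hB' ⟨p.1, p.2, rfl⟩⟩, ?_⟩
  rw [map_sum, ← Finset.sum_attach T]
  rfl

theorem isIntegral_gamma {γ : MulLaw A B C d} (hγ : IsGammaD γ) [Algebra.IsIntegral A B] :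
    Algebra.IsIntegral A C := by
  refine ⟨fun c => ?_⟩
  have hc : c ∈ Submodule.span A (coeffs γ) := span_coeffs hγ ▸ trivial
  suffices h : c ∈ (integralClosure A C).toSubmodule from h
  refine Submodule.span_le.mpr ?_ hc
  rintro _ ⟨σ, μ, z, rfl⟩
  obtain ⟨s, hs, hz⟩ := exists_mem_range_bc z
  let B' := Algebra.adjoin A s
  obtain ⟨z', rfl⟩ := hz B' Algebra.subset_adjoin
  have : Module.Finite A B' := Module.Finite.iff_fg.mpr
    (fg_adjoin_of_finite hs fun x _ => Algebra.IsIntegral.isIntegral x)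
  obtain ⟨C', _, _, γ', hγ'⟩ := exists_isGammaD A B' d
  obtain ⟨f, hf, -⟩ := hγ' C (MulLaw.precomp γ B'.val)
  have : Module.Finite A C' := moduleFinite_gamma hγ'
  rw [← ev_precomp, ← postcomp_eq_iff.mp hf, cf_bc]
  exact (IsIntegral.of_finite A (cf μ (ev γ' _ z'))).map f

section Invariant

variable (A B)

/-- The action of permutations on a tensor power by algebra maps. -/
noncomputable def permMonoidHom (d : ℕ) :
    Equiv.Perm (Fin d) →* ((⨂[A] _ : Fin d, B) →+* (⨂[A] _ : Fin d, B)) where
  toFun σ := (SymTen.perm A B d σ).toRingHom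
  map_one' := RingHom.ext fun t => by
    show SymTen.perm A B d 1 t = t
    induction t using PiTensorProduct.induction_on with
    | smul_tprod r f => rw [map_smul, SymTen.perm_tprod]; rfl
    | add x y hx hy => rw [map_add, hx, hy]
  map_mul' σ τ := RingHom.ext fun t => by
    show SymTen.perm A B d (σ * τ) t = SymTen.perm A B d σ (SymTen.perm A B d τ t)
    induction t using PiTensorProduct.induction_on with
    | smul_tprod r f =>
      rw [map_smul, map_smul, map_smul, SymTen.perm_tprod, SymTen.perm_tprod, SymTen.perm_tprod]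
      rfl
    | add x y hx hy => rw [map_add, hx, hy, map_add, map_add]

/-- The action of permutations on a tensor power. -/
noncomputable abbrev permAction (d : ℕ) :
    MulSemiringAction (Equiv.Perm (Fin d)) (⨂[A] _ : Fin d, B) :=
  MulSemiringAction.compHom _ (permMonoidHom A B d)

theorem isIntegral_over_TS (d : ℕ) :
    Algebra.IsIntegral (SymTen.TS A B d) (⨂[A] _ : Fin d, B) := by
  let _ := permAction A B d
  have : Algebra.IsInvariant (SymTen.TS A B d) (⨂[A] _ : Fin d, B) (Equiv.Perm (Fin d)) :=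
    ⟨fun t ht => ⟨⟨t, fun σ => by rw [← SymTen.perm_apply]; exact ht σ⟩, rfl⟩⟩
  exact Algebra.IsInvariant.isIntegral _ _ (Equiv.Perm (Fin d))

variable {A B}

theorem finiteType_piTensor [Algebra.FiniteType A B] (d : ℕ) :
    Algebra.FiniteType A (⨂[A] _ : Fin d, B) := by
  classical
  obtain ⟨s, hs⟩ := Algebra.FiniteType.out (R := A) (A := B)
  let G := (Finset.univ ×ˢ s).image
    fun p : Fin d × B => PiTensorProduct.singleAlgHom (R := A) (A := fun _ : Fin d => B) p.1 p.2
  refine ⟨⟨G, eq_top_iff.mpr fun t _ => ?_⟩⟩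
  induction t using PiTensorProduct.induction_on with
  | add x y hx hy => exact add_mem (hx trivial) (hy trivial)
  | smul_tprod r f =>
    refine Subalgebra.smul_mem _ ?_ r
    rw [← Finset.univ_prod_mulSingle f, PiTensorProduct.tprod_prod]
    refine Subalgebra.prod_mem _ fun j _ => ?_
    have hj : f j ∈ (Algebra.adjoin A (G : Set _)).comap
        (PiTensorProduct.singleAlgHom (R := A) (A := fun _ : Fin d => B) j) := by
      refine Algebra.adjoin_le ?_ (hs ▸ trivial : f j ∈ Algebra.adjoin A (s : Set B))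
      intro x hx
      exact Algebra.subset_adjoin (Finset.mem_image.mpr
        ⟨(j, x), Finset.mem_product.mpr ⟨Finset.mem_univ _, hx⟩, rfl⟩)
    simpa [PiTensorProduct.singleAlgHom_apply] using hj

theorem finiteType_TS [IsNoetherianRing A] [Algebra.FiniteType A B] (d : ℕ) :
    Algebra.FiniteType A (SymTen.TS A B d) := by
  have := finiteType_piTensor (A := A) (B := B) d
  have := isIntegral_over_TS A B d
  have : Algebra.FiniteType (SymTen.TS A B d) (⨂[A] _ : Fin d, B) :=
    Algebra.FiniteType.of_restrictScalars_finiteType A _ _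
  have : Module.Finite (SymTen.TS A B d) (⨂[A] _ : Fin d, B) := Algebra.IsIntegral.finite
  refine ⟨fg_of_fg_of_fg A (SymTen.TS A B d) (⨂[A] _ : Fin d, B) Algebra.FiniteType.out
    Module.Finite.fg_top ?_⟩
  exact Subtype.val_injective

end Invariant


theorem finiteType_TS_mvPolynomial (A : Type u) [CommRing A] (n d : ℕ) :
    Algebra.FiniteType A (SymTen.TS A (MvPolynomial (Fin n) A) d) := by
  classical
  let P₀ := MvPolynomial (Fin n) ℤ
  let P := MvPolynomial (Fin n) A
  let T := ⨂[A] _ : Fin d, P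
  let b₀ := MvPolynomial.basisMonomials (Fin n) ℤ
  let b := MvPolynomial.basisMonomials (Fin n) A
  let i : P₀ →ₐ[ℤ] P := (MvPolynomial.map (Int.castRingHom A)).toIntAlgHom
  let h : (⨂[ℤ] _ : Fin d, P₀) →ₐ[ℤ] T :=
    PiTensorProduct.liftAlgHom
      (((PiTensorProduct.tprod A).restrictScalars ℤ).compLinearMap fun _ => i.toLinearMap)
      (by simp [T, PiTensorProduct.one_def, Pi.one_def])
      (by intro x y; simp [T, Pi.mul_def])
  have hh : ∀ c, h (beta b₀ d c) = beta b d c := by
    intro c
    rw [beta_apply, beta_apply]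
    simp only [h, PiTensorProduct.liftAlgHom_apply, PiTensorProduct.lift.tprod,
      MultilinearMap.compLinearMap_apply, AlgHom.toLinearMap_apply,
      MultilinearMap.coe_restrictScalars]
    congr 1
    funext k
    show MvPolynomial.map (Int.castRingHom A) (b₀ (c k)) = b (c k)
    simp [b₀, b, MvPolynomial.map_monomial]
  have horb : ∀ q : Orb (Fin n →₀ ℕ) d, h (SymTen.TS ℤ P₀ d |>.val (orb b₀ q)) =
      (SymTen.TS A P d).val (orb b q) := by
    intro q
    rw [val_orb, val_orb, map_sum]
    exact Finset.sum_congr rfl fun c _ => hh c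
  obtain ⟨s, hs⟩ := (finiteType_TS (A := ℤ) (B := P₀) d).out
  let G : Finset T := s.image fun t => h t.1
  have hG : ∀ g ∈ G, g ∈ SymTen.TS A P d := by
    intro g hg
    obtain ⟨t, -, rfl⟩ := Finset.mem_image.mp hg
    clear hg
    have ht : t ∈ Submodule.span ℤ (Set.range (orb b₀ (d := d))) := span_orb b₀ ▸ trivial
    induction ht using Submodule.span_induction with
    | zero => simp
    | add u v _ _ hu hv => simpa [map_add] using add_mem hu hv
    | smul a u _ hu =>
      have : h ((a • u : SymTen.TS ℤ P₀ d) : ⨂[ℤ] _ : Fin d, P₀) = a • h u.1 := map_zsmul h a u.1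
      rw [this]
      exact zsmul_mem hu a
    | mem u hu =>
      obtain ⟨q, rfl⟩ := hu
      exact (horb q).symm ▸ (orb b q).2
  let Z := Algebra.adjoin A (G : Set T)
  have hZ : ∀ q, ((orb b q : SymTen.TS A P d) : T) ∈ Z := by
    intro q
    have h1 : ∀ t : SymTen.TS ℤ P₀ d, h t.1 ∈ Z := by
      intro t
      have ht : t ∈ Algebra.adjoin ℤ (s : Set (SymTen.TS ℤ P₀ d)) := hs ▸ trivial
      induction ht using Algebra.adjoin_induction with
      | mem x hx => exact Algebra.subset_adjoin (Finset.mem_image_of_mem _ hx)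
      | algebraMap r => rw [Subalgebra.coe_algebraMap, AlgHom.commutes, eq_intCast]
                        exact intCast_mem Z r
      | add x y _ _ hx hy => simpa [map_add] using add_mem hx hy
      | mul x y _ _ hx hy => simpa [map_mul] using mul_mem hx hy
    rw [← show h (orb b₀ q).1 = (orb b q).1 from horb q]
    exact h1 _
  have heq : Z = SymTen.TS A P d := by
    refine le_antisymm (Algebra.adjoin_le hG) fun t ht => ?_
    have h2 : (⟨t, ht⟩ : SymTen.TS A P d) ∈ Submodule.span A (Set.range (orb b (d := d))) :=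
      span_orb b ▸ trivial
    suffices h3 : (⟨t, ht⟩ : SymTen.TS A P d) ∈ (Z.comap (SymTen.TS A P d).val).toSubmodule from h3
    refine Submodule.span_le.mpr ?_ h2
    rintro _ ⟨q, rfl⟩
    exact hZ q
  exact (Subalgebra.fg_iff_finiteType _).mp ⟨G, heq⟩

theorem finiteType_gamma {γ : MulLaw A B C d} (hγ : IsGammaD γ) [Algebra.FiniteType A B] :
    Algebra.FiniteType A C := by
  classical
  obtain ⟨n, π, hπ⟩ := Algebra.FiniteType.iff_quotient_mvPolynomial''.mp
    (inferInstance : Algebra.FiniteType A B)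
  let e : MvPolynomial (Fin n) A →ₐ[A] B := π
  have := finiteType_TS_mvPolynomial A n d
  exact Algebra.FiniteType.of_surjective
    (classHom d ((MvPolynomial.basisMonomials (Fin n) A).reindex Equiv.ulift.{u}.symm)
      (MulLaw.precomp γ e))
    (classHom_surjective hγ _ e hπ)

end Groth.Agent.PolLib
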