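import Groth.Agent.PolLib.InducedLaw
import Groth.Agent.PolLib.Finite
import Mathlib.RingTheory.FinitePresentation
import Mathlib.RingTheory.TensorProduct.Basic
import Mathlib.Data.Int.Cast.Lemmas
import Mathlib.RingTheory.FiniteStability

/-! Divided powers of a finitely presented algebra are finitely presented. -/

universe u

open scoped TensorProduct

namespace Groth.Agent.PolLib

open PolLaw

section BaseRing

variable {A₀ A : Type u} [CommRing A₀] [CommRing A] [Algebra A₀ A]
  {P₀ P : Type u} [CommRing P₀] [Algebra A₀ P₀] [CommRing P] [Algebra A P] [Algebra A₀ P]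
  [IsScalarTower A₀ A P] {κ : Type u} (b₀ : Module.Basis κ A₀ P₀) (b : Module.Basis κ A P)
  (i : P₀ →ₐ[A₀] P) {d : ℕ}

variable (A) in
/-- The map of tensor powers along a change of base ring. -/
noncomputable def tpMap (i : P₀ →ₐ[A₀] P) (d : ℕ) :
    (⨂[A₀] _ : Fin d, P₀) →ₐ[A₀] ⨂[A] _ : Fin d, P :=
  PiTensorProduct.liftAlgHom
    (((PiTensorProduct.tprod A).restrictScalars A₀).compLinearMap fun _ => i.toLinearMap)
    (by simp [PiTensorProduct.one_def, Pi.one_def])
    (by intro x y; simp [Pi.mul_def])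

theorem tpMap_tprod (f : Fin d → P₀) :
    tpMap A i d (PiTensorProduct.tprod A₀ f) = PiTensorProduct.tprod A (fun k => i (f k)) := by
  simp [tpMap]

variable (hi : ∀ k, i (b₀ k) = b k)

include hi in
theorem tpMap_orb (q : Orb κ d) :
    tpMap A i d ((SymTen.TS A₀ P₀ d).val (orb b₀ q)) = (SymTen.TS A P d).val (orb b q) := by
  rw [val_orb, val_orb, map_sum]
  refine Finset.sum_congr rfl fun c _ => ?_
  rw [beta_apply, beta_apply, tpMap_tprod]
  simp only [hi]

include b₀ b hi in
theorem tpMap_mem (t : SymTen.TS A₀ P₀ d) :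
    tpMap A i d ((SymTen.TS A₀ P₀ d).val t) ∈ SymTen.TS A P d := by
  have ht : t ∈ Submodule.span A₀ (Set.range (orb b₀ (d := d))) := span_orb b₀ ▸ trivial
  induction ht using Submodule.span_induction with
  | zero => simp
  | add u v _ _ hu hv => rw [map_add, map_add]; exact add_mem hu hv
  | smul a u _ hu =>
    rw [map_smul, map_smul, ← algebraMap_smul A a]
    exact Subalgebra.smul_mem _ hu _
  | mem u hu =>
    obtain ⟨q, rfl⟩ := hu
    rw [tpMap_orb b₀ b i hi]
    exact (orb b q).2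

theorem coord_val_orb {R : Type u} [CommRing R] {M : Type u} [CommRing M] [Algebra R M]
    (e : Module.Basis κ R M) [DecidableEq (Orb κ d)] (q q' : Orb κ d) :
    (beta e d).coord (rep q') ((SymTen.TS R M d).val (orb e q)) = if q = q' then 1 else 0 := by
  classical
  rw [val_orb, map_sum]
  simp only [Module.Basis.coord_apply, Module.Basis.repr_self, Finsupp.single_apply,
    Finset.sum_ite_eq', mem_fib, cls_rep, eq_comm (a := q')]

/-- The orbit sums as a basis. -/
noncomputable def orbBasis {R : Type u} [CommRing R] {M : Type u} [CommRing M] [Algebra R M]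
    (e : Module.Basis κ R M) (d : ℕ) : Module.Basis (Orb κ d) R (SymTen.TS R M d) :=
  Module.Basis.mk (v := orb e) (by
    classical
    rw [linearIndependent_iff]
    intro l hl
    ext q
    have h := congrArg (fun t => (beta e d).coord (rep q) ((SymTen.TS R M d).val t)) hl
    simp only [Finsupp.linearCombination_apply, Finsupp.sum, map_sum, map_smul, map_zero,
      coord_val_orb, smul_eq_mul, mul_ite, mul_one, mul_zero, Finset.sum_ite_eq',
      Finsupp.mem_support_iff] at h
    rw [Finsupp.zero_apply]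
    by_contra hne
    rw [if_pos hne] at h
    exact hne h)
    (span_orb e).ge

include b₀ b hi in
theorem exists_baseChange_TS (d : ℕ) :
    ∃ Φ : A ⊗[A₀] SymTen.TS A₀ P₀ d →ₐ[A] SymTen.TS A P d, Function.Bijective Φ ∧
      ∀ t, (SymTen.TS A P d).val (Φ (1 ⊗ₜ[A₀] t)) = tpMap A i d ((SymTen.TS A₀ P₀ d).val t) := by
  let h : SymTen.TS A₀ P₀ d →ₐ[A₀] ⨂[A] _ : Fin d, P :=
    (tpMap A i d).comp (SymTen.TS A₀ P₀ d).val
  let L : A ⊗[A₀] SymTen.TS A₀ P₀ d →ₐ[A] ⨂[A] _ : Fin d, P :=
    Algebra.TensorProduct.lift (Algebra.ofId A _) h fun _ _ => Commute.all _ _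
  have hL : ∀ z, L z ∈ SymTen.TS A P d := by
    intro z
    induction z using TensorProduct.induction_on with
    | zero => simp
    | add u v hu hv => rw [map_add]; exact add_mem hu hv
    | tmul a t =>
      simp only [L, Algebra.TensorProduct.lift_tmul, h, AlgHom.comp_apply]
      exact mul_mem ((SymTen.TS A P d).algebraMap_mem a) (tpMap_mem b₀ b i hi t)
  let Φ := L.codRestrict (SymTen.TS A P d) hL
  have hΦ : ∀ t, (SymTen.TS A P d).val (Φ (1 ⊗ₜ[A₀] t)) =
      tpMap A i d ((SymTen.TS A₀ P₀ d).val t) := fun t => by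
    show L (1 ⊗ₜ[A₀] t) = _
    simp [L, h]
  refine ⟨Φ, ?_, hΦ⟩
  have hb : ∀ q, Φ (Algebra.TensorProduct.basis A (orbBasis b₀ d) q) = orbBasis b d q := by
    intro q
    rw [Algebra.TensorProduct.basis_apply, orbBasis, orbBasis, Module.Basis.mk_apply,
      Module.Basis.mk_apply]
    exact Subtype.val_injective ((hΦ _).trans (tpMap_orb b₀ b i hi q))
  have he : Φ.toLinearMap =
      ((Algebra.TensorProduct.basis A (orbBasis b₀ d)).equiv (orbBasis b d)
        (Equiv.refl _)).toLinearMap :=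
    (Algebra.TensorProduct.basis A (orbBasis b₀ d)).ext fun q => by
      rw [AlgHom.toLinearMap_apply, hb, LinearEquiv.coe_coe, Module.Basis.equiv_apply,
        Equiv.refl_apply]
  have : (Φ : _ → _) = ((Algebra.TensorProduct.basis A (orbBasis b₀ d)).equiv (orbBasis b d)
      (Equiv.refl _)) := by
    funext z
    exact DFunLike.congr_fun he z
  rw [this]
  exact LinearEquiv.bijective _

theorem tpMap_cf {J : Type u} [Fintype J] [DecidableEq J] {σ : Type u} (e : J → σ →₀ ℕ)
    (p : J → P₀) (μ : σ →₀ ℕ) :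
    tpMap A i d ((SymTen.TS A₀ P₀ d).val (cf μ (ev (tau d b₀) _
        (∑ j, MvPolynomial.monomial (e j) (1 : A₀) ⊗ₜ[A₀] p j)))) =
      (SymTen.TS A P d).val (cf μ (ev (tau d b) _
        (∑ j, MvPolynomial.monomial (e j) (1 : A) ⊗ₜ[A] i (p j)))) := by
  classical
  rw [← cf_bc μ (SymTen.TS A₀ P₀ d).val, ← cf_bc μ (SymTen.TS A P d).val, val_tau, val_tau, tpowLaw_sum, tpowLaw_sum, map_sum, map_sum, map_sum]
  refine Finset.sum_congr rfl fun c _ => ?_
  rw [cf_tmul, cf_tmul, map_smul, tpMap_tprod, ← MvPolynomial.monomial_sum_one,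
    ← MvPolynomial.monomial_sum_one, MvPolynomial.coeff_monomial, MvPolynomial.coeff_monomial]
  split_ifs <;> simp

end BaseRing

section Rel

variable {A : Type u} [CommRing A] {P : Type u} [CommRing P] [Algebra A P] {B : Type u}
  [CommRing B] [Algebra A B] {κ : Type u} (b : Module.Basis κ A P) {d : ℕ}

/-- The exponents of the two generic elements. -/
noncomputable def genExp (s : Finset κ) (j : s ⊕ s) : κ ⊕ κ →₀ ℕ :=
  Finsupp.single (Sum.map Subtype.val Subtype.val j) 1

/-- Coefficients of `x + w f` against those of `x`, on generic elements of finite support. -/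
def genRel (f : P) : Set (SymTen.TS A P d) :=
  {t | ∃ (s : Finset κ) (μ : κ ⊕ κ →₀ ℕ), t = cf μ (ev (tau d b) _
      (∑ j : s ⊕ s, MvPolynomial.monomial (genExp s j) (1 : A) ⊗ₜ[A]
        Sum.elim (fun k : s => b k) (fun k : s => b k * f) j)) -
    cf μ (ev (tau d b) _
      (∑ j : s ⊕ s, MvPolynomial.monomial (genExp s j) (1 : A) ⊗ₜ[A]
        Sum.elim (fun k : s => b k) (fun _ : s => (0 : P)) j))}

theorem gen_eq (s : Finset κ) (f : P) :
    (∑ j : s ⊕ s, MvPolynomial.monomial (genExp s j) (1 : A) ⊗ₜ[A]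
        Sum.elim (fun k : s => b k) (fun k : s => b k * f) j) =
      (∑ k ∈ s, (MvPolynomial.X (Sum.inl k) : MvPolynomial (κ ⊕ κ) A) ⊗ₜ[A] b k) +
        (∑ k ∈ s, (MvPolynomial.X (Sum.inr k) : MvPolynomial (κ ⊕ κ) A) ⊗ₜ[A] b k) *
          (1 ⊗ₜ[A] f) := by
  rw [Fintype.sum_sum_type, Finset.sum_mul]
  congr 1
  · exact Finset.sum_coe_sort s fun k =>
      (MvPolynomial.X (Sum.inl k) : MvPolynomial (κ ⊕ κ) A) ⊗ₜ[A] b k
  · refine Eq.trans ?_ (Finset.sum_coe_sort s fun k =>
      (MvPolynomial.X (Sum.inr k) : MvPolynomial (κ ⊕ κ) A) ⊗ₜ[A] b k * (1 ⊗ₜ[A] f))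
    refine Finset.sum_congr rfl fun k _ => ?_
    rw [Algebra.TensorProduct.tmul_mul_tmul, mul_one]
    rfl

variable (π : P →ₐ[A] B) (hπ : Function.Surjective π) (F : Set P)
  (hF : Ideal.span F = RingHom.ker π)

include hπ hF in
theorem ker_classHom {C : Type u} [CommRing C] [Algebra A C] [DecidableEq κ]
    {γ : MulLaw A B C d} (hγ : IsGammaD γ) :
    RingHom.ker (classHom d b (MulLaw.precomp γ π)) = Ideal.span (⋃ f ∈ F, genRel b f) := by
  classical
  refine le_antisymm (fun t ht => ?_) (Ideal.span_le.mpr ?_)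
  · obtain ⟨Q, _, _, q, -, hq0⟩ :=
      exists_quot (A := A) (Ideal.span (⋃ f ∈ F, genRel (d := d) b f))
    have hker : ∀ f ∈ F, f ∈ PolLaw.ker (MulLaw.postcomp q (tau d b)).law := by
      intro f hf
      refine mem_ker_of_polynomial _ fun n x w => ?_
      obtain ⟨s₁, a₁, rfl⟩ := exists_eq_rB_xu b x
      obtain ⟨s₂, a₂, rfl⟩ := exists_eq_rB_xu b w
      let s := s₁ ∪ s₂
      let a : κ ⊕ κ → MvPolynomial (Fin n) A :=
        Sum.elim (fun k => if k ∈ s₁ then a₁ k else 0) (fun k => if k ∈ s₂ then a₂ k else 0)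
      let ψ : MvPolynomial (κ ⊕ κ) A →ₐ[A] MvPolynomial (Fin n) A := MvPolynomial.aeval a
      let Z : ∀ g : P, MvPolynomial (κ ⊕ κ) A ⊗[A] P := fun g =>
        ∑ j : s ⊕ s, MvPolynomial.monomial (genExp s j) (1 : A) ⊗ₜ[A]
          Sum.elim (fun k : s => b k) (fun k : s => b k * g) j
      have hZ : ∀ g, rB P ψ (Z g) = rB P (MvPolynomial.aeval a₁) (xu b s₁) +
          rB P (MvPolynomial.aeval a₂) (xu b s₂) * (1 ⊗ₜ[A] g) := by
        intro g
        simp only [Z, gen_eq, map_add, map_mul, map_sum, rB_tmul, map_one, ψ, MvPolynomial.aeval_X,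
          a, Sum.elim_inl, Sum.elim_inr, rB_xu]
        have e1 : ∀ (u : κ → MvPolynomial (Fin n) A) (s' : Finset κ), s' ⊆ s →
            ∑ k ∈ s, (if k ∈ s' then u k else 0) ⊗ₜ[A] b k = ∑ k ∈ s', u k ⊗ₜ[A] b k := by
          intro u s' hs'
          rw [← Finset.sum_subset hs' (fun k _ hk => by rw [if_neg hk, TensorProduct.zero_tmul])]
          exact Finset.sum_congr rfl fun k hk => by rw [if_pos hk]
        rw [e1 a₁ s₁ Finset.subset_union_left, e1 a₂ s₂ Finset.subset_union_right]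
      have h0 : rB P (MvPolynomial.aeval a₁) (xu b s₁) = rB P ψ (Z 0) := by
        rw [hZ, TensorProduct.tmul_zero, mul_zero, add_zero]
      conv_rhs => rw [h0]
      rw [← hZ, ev_postcomp, ev_postcomp, ← ev_nat, ← ev_nat, ← bc_rB, ← bc_rB]
      refine congrArg _ (ext_cf fun μ => ?_)
      rw [cf_bc, cf_bc, ← sub_eq_zero, ← map_sub]
      refine (hq0 _).mpr (Ideal.subset_span (Set.mem_biUnion hf ⟨s, μ, ?_⟩))
      simp [Z]
    have hst : Stable (MulLaw.postcomp q (tau d b)) π := by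
      refine stable_of_ker_le _ π hπ fun u hu => ?_
      have h1 : u ∈ Ideal.span F := hF ▸ RingHom.mem_ker.mpr hu
      exact (Ideal.span_le (I := PolLaw.ker (MulLaw.postcomp q (tau d b)).law)).mpr hker h1
    obtain ⟨f, hf, -⟩ := hγ Q (descend _ π hπ hst)
    have hfc : f.comp (classHom d b (MulLaw.precomp γ π)) = q := by
      refine (eq_classHom d b (MulLaw.postcomp q (tau d b)) fun S _ _ x => ?_).trans
        (eq_classHom d b (MulLaw.postcomp q (tau d b)) fun S _ _ x => (ev_postcomp _ _ _).symm).symm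
      rw [← bc_bc, classHom_tau, ev_precomp, postcomp_eq_iff.mp hf, ev_descend]
    rw [← hq0, ← hfc, AlgHom.comp_apply, RingHom.mem_ker.mp ht, map_zero]
  · intro t ht
    obtain ⟨f, hf, s, μ, rfl⟩ : ∃ f ∈ F, t ∈ genRel b f := by simpa using ht
    have hf0 : π f = 0 := RingHom.mem_ker.mp (hF ▸ Ideal.subset_span hf : f ∈ RingHom.ker π)
    rw [SetLike.mem_coe, RingHom.mem_ker, map_sub, sub_eq_zero, ← cf_bc, ← cf_bc, classHom_tau,
      classHom_tau, ev_precomp, ev_precomp]
    congr 2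
    simp only [map_sum, bc_tmul]
    refine Finset.sum_congr rfl fun j _ => ?_
    rcases j with j | j <;> simp [hf0]

end Rel

theorem finitePresentation_gamma {A : Type u} [CommRing A] {B : Type u} [CommRing B] [Algebra A B]
    {C : Type u} [CommRing C] [Algebra A C] {d : ℕ} {γ : MulLaw A B C d} (hγ : IsGammaD γ)
    [Algebra.FinitePresentation A B] : Algebra.FinitePresentation A C := by
  classical
  obtain ⟨n, π, hπ, S, hS⟩ :=
    (Algebra.FinitePresentation.out : ∃ (n : ℕ) (f : MvPolynomial (Fin n) A →ₐ[A] B),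
      Function.Surjective f ∧ (RingHom.ker f).FG)
  let A₀ : Subalgebra ℤ A := Algebra.adjoin ℤ
    ((S.biUnion fun f => f.support.image f.coeff : Finset A) : Set A)
  have hA₀ : Algebra.FiniteType ℤ A₀ :=
    (Subalgebra.fg_iff_finiteType _).mp (Subalgebra.fg_adjoin_finset _)
  have : IsNoetherianRing A₀ := Algebra.FiniteType.isNoetherianRing ℤ A₀
  let P₀ := MvPolynomial (Fin n) A₀
  let P := MvPolynomial (Fin n) A
  let b₀ := (MvPolynomial.basisMonomials (Fin n) A₀).reindex Equiv.ulift.{u}.symm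
  let b := (MvPolynomial.basisMonomials (Fin n) A).reindex Equiv.ulift.{u}.symm
  let i : P₀ →ₐ[A₀] P := MvPolynomial.mapAlgHom (Algebra.ofId A₀ A)
  have hi : ∀ k, i (b₀ k) = b k := fun k => by
    simp only [i, b₀, b, Module.Basis.reindex_apply, MvPolynomial.coe_basisMonomials]
    show MvPolynomial.map _ _ = _
    rw [MvPolynomial.map_monomial]
    simp
  have hlift : ∀ f ∈ S, ∃ f₀ : P₀, i f₀ = f := by
    intro f hf
    have hc : f ∈ Set.range (MvPolynomial.map (algebraMap A₀ A)) := by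
      rw [MvPolynomial.mem_range_map_iff_coeffs_subset]
      intro c hc
      obtain ⟨μ, hμ, rfl⟩ := Finset.mem_image.mp (Finset.mem_coe.mp hc)
      exact ⟨⟨_, Algebra.subset_adjoin (Finset.mem_biUnion.mpr
        ⟨f, hf, Finset.mem_image_of_mem _ hμ⟩)⟩, rfl⟩
    obtain ⟨f₀, hf₀⟩ := hc
    exact ⟨f₀, hf₀⟩
  choose! l hl using hlift
  obtain ⟨Φ, hΦ, hΦ1⟩ := exists_baseChange_TS b₀ b i hi d
  have := finiteType_TS (A := A₀) (B := P₀) d
  have : IsNoetherianRing (SymTen.TS A₀ P₀ d) := Algebra.FiniteType.isNoetherianRing A₀ _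
  have : Algebra.FinitePresentation A₀ (SymTen.TS A₀ P₀ d) :=
    Algebra.FinitePresentation.of_finiteType.mp inferInstance
  have : Algebra.FinitePresentation A (A ⊗[A₀] SymTen.TS A₀ P₀ d) :=
    Algebra.FinitePresentation.baseChange A
  have hTS : Algebra.FinitePresentation A (SymTen.TS A P d) :=
    Algebra.FinitePresentation.equiv (AlgEquiv.ofBijective Φ hΦ)
  refine Algebra.FinitePresentation.of_surjective (f := classHom d b (MulLaw.precomp γ π))
    (classHom_surjective hγ b π hπ) ?_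
  show (RingHom.ker (classHom d b (MulLaw.precomp γ π))).FG
  rw [ker_classHom b π hπ (S : Set P) hS hγ]
  let ρ : SymTen.TS A₀ P₀ d →+* SymTen.TS A P d :=
    Φ.toRingHom.comp (Algebra.TensorProduct.includeRight :
      SymTen.TS A₀ P₀ d →ₐ[A₀] A ⊗[A₀] SymTen.TS A₀ P₀ d).toRingHom
  have hρ : ∀ t, (SymTen.TS A P d).val (ρ t) = tpMap A i d ((SymTen.TS A₀ P₀ d).val t) := hΦ1
  have himg : ρ '' (⋃ f ∈ S, genRel b₀ (l f)) = ⋃ f ∈ S, genRel (d := d) b f := by
    rw [Set.image_iUnion₂]
    refine Set.iUnion_congr fun f => Set.iUnion_congr fun hf => ?_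
    have key : ∀ (s : Finset (ULift.{u} (Fin n →₀ ℕ))) μ,
        ρ (cf μ (ev (tau d b₀) _
            (∑ j : s ⊕ s, MvPolynomial.monomial (genExp s j) (1 : A₀) ⊗ₜ[A₀]
              Sum.elim (fun k : s => b₀ k) (fun k : s => b₀ k * l f) j)) -
          cf μ (ev (tau d b₀) _
            (∑ j : s ⊕ s, MvPolynomial.monomial (genExp s j) (1 : A₀) ⊗ₜ[A₀]
              Sum.elim (fun k : s => b₀ k) (fun _ : s => (0 : P₀)) j))) =
        cf μ (ev (tau d b) _
            (∑ j : s ⊕ s, MvPolynomial.monomial (genExp s j) (1 : A) ⊗ₜ[A]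
              Sum.elim (fun k : s => b k) (fun k : s => b k * f) j)) -
          cf μ (ev (tau d b) _
            (∑ j : s ⊕ s, MvPolynomial.monomial (genExp s j) (1 : A) ⊗ₜ[A]
              Sum.elim (fun k : s => b k) (fun _ : s => (0 : P)) j)) := by
      intro s μ
      apply Subtype.val_injective
      rw [← Subalgebra.coe_val, hρ]
      refine Eq.trans ?_ ((SymTen.TS A P d).val.map_sub _ _).symm
      rw [map_sub, map_sub, tpMap_cf b₀ b i, tpMap_cf b₀ b i]
      have e1 : (fun j : s ⊕ s => i (Sum.elim (fun k : s => b₀ k) (fun k : s => b₀ k * l f) j)) =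
          Sum.elim (fun k : s => b k) (fun k : s => b k * f) := by
        funext j; rcases j with j | j <;> simp [hi, hl f hf]
      have e2 : (fun j : s ⊕ s => i (Sum.elim (fun k : s => b₀ k) (fun _ : s => (0 : P₀)) j)) =
          Sum.elim (fun k : s => b k) (fun _ : s => (0 : P)) := by
        funext j; rcases j with j | j <;> simp [hi]
      simp only [funext_iff] at e1 e2
      simp only [e1, e2]
      rfl
    ext t
    constructor
    · rintro ⟨_, ⟨s, μ, rfl⟩, rfl⟩
      exact ⟨s, μ, key s μ⟩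
    · rintro ⟨s, μ, rfl⟩
      exact ⟨_, ⟨s, μ, rfl⟩, key s μ⟩
  show (Ideal.span (⋃ f ∈ S, genRel (d := d) b f)).FG
  rw [← himg, ← Ideal.map_span]
  exact Ideal.FG.map (IsNoetherian.noetherian _) ρ

end Groth.Agent.PolLib
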