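import Groth.Agent.PolLib.FlatGamma
import Mathlib.RingTheory.Flat.EquationalCriterion

/-! Symmetric tensors of a flat module are flat. -/

universe u v w

open scoped TensorProduct

namespace Groth.Agent.PolLib

variable {A : Type u} [CommRing A] {M : Type u} [AddCommGroup M] [Module A M] {d : ℕ}

theorem exists_invariant_lift_family [Module.Flat A M] {l : ℕ} (z : Fin l → ⨂[A]^d M)
    (hz : ∀ a σ, PiTensorProduct.reindex A (fun _ : Fin d => M) σ (z a) = z a) :
    ∃ (n : ℕ) (g : (Fin n → A) →ₗ[A] M) (t : Fin l → ⨂[A]^d (Fin n → A)),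
      (∀ a σ, PiTensorProduct.reindex A (fun _ : Fin d => Fin n → A) σ (t a) = t a) ∧
        ∀ a, tp d g (t a) = z a := by
  classical
  choose m g t ht hgt using fun a => exists_invariant_lift (z a) (hz a)
  let e := Fintype.equivFin (Σ a, Fin (m a))
  let G : (Fin (Fintype.card (Σ a, Fin (m a))) → A) →ₗ[A] M :=
    (Pi.basisFun A _).constr A fun k => g (e.symm k).1 (Pi.basisFun A _ (e.symm k).2)
  let i : ∀ a, (Fin (m a) → A) →ₗ[A] (Fin (Fintype.card (Σ a, Fin (m a))) → A) := fun a =>
    (Pi.basisFun A _).constr A fun k => Pi.basisFun A _ (e ⟨a, k⟩)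
  have hi : ∀ a, G.comp (i a) = g a := fun a => (Pi.basisFun A _).ext fun k => by
    simp only [G, i, LinearMap.comp_apply, Module.Basis.constr_basis]
    rw [Equiv.symm_apply_apply]
  refine ⟨_, G, fun a => tp d (i a) (t a), fun a σ => by rw [← tp_reindex, ht], fun a => ?_⟩
  rw [← LinearMap.comp_apply, ← tp_comp, hi, hgt]

theorem eq_sum_orb {m : ℕ} [Fintype (Orb (Fin m) d)] (T : ⨂[A]^d (Fin m → A))
    (hT : ∀ σ, PiTensorProduct.reindex A (fun _ : Fin d => Fin m → A) σ T = T) :
    T = ∑ q : Orb (Fin m) d, (beta (Pi.basisFun A (Fin m)) d).coord (rep q) T •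
      (SymTen.TS A (Fin m → A) d).val (orb (Pi.basisFun A (Fin m)) q) := by
  classical
  refine (beta (Pi.basisFun A (Fin m)) d).ext_elem fun c => ?_
  simp only [map_sum, map_smul, Finsupp.finsetSum_apply, Finsupp.smul_apply, val_orb,
    Module.Basis.repr_self, Finsupp.single_apply, smul_eq_mul, Finset.sum_ite_eq', mul_ite, mul_one,
    mul_zero, mem_fib]
  rw [Finset.sum_ite_eq]
  simp only [Finset.mem_univ, if_true]
  obtain ⟨σ, hσ⟩ := cls_eq_iff.mp (cls_rep (cls c))
  show (beta (Pi.basisFun A (Fin m)) d).coord c T = (beta (Pi.basisFun A (Fin m)) d).coord (rep (cls c)) T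
  conv_lhs => rw [hσ, ← coord_reindex, hT]

/-- The symmetric tensors of a module, as a submodule. -/
def invSub (A : Type u) [CommRing A] (M : Type u) [AddCommGroup M] [Module A M] (d : ℕ) :
    Submodule A (⨂[A] _ : Fin d, M) :=
  ⨅ σ : Equiv.Perm (Fin d),
    LinearMap.eqLocus (PiTensorProduct.reindex A (fun _ : Fin d => M) σ).toLinearMap LinearMap.id

theorem mem_invSub {z : ⨂[A] _ : Fin d, M} :
    z ∈ invSub A M d ↔ ∀ σ, PiTensorProduct.reindex A (fun _ : Fin d => M) σ z = z := by
  simp [invSub, Submodule.mem_iInf]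

theorem flat_invSub [Module.Flat A M] : Module.Flat A (invSub A M d) := by
  classical
  refine Module.Flat.iff_forall_exists_factorization.mpr fun {l f x} hxf => ?_
  let z : Fin l → ⨂[A]^d M := fun a => (x (Finsupp.single a 1)).1
  obtain ⟨n, g, t, ht, hgt⟩ :=
    exists_invariant_lift_family z fun a => mem_invSub.mp (x (Finsupp.single a 1)).2
  have hf : tp d g (∑ a, f a • t a) = 0 := by
    simp only [map_sum, map_smul, hgt, z]
    have h1 : (∑ a, f a • x (Finsupp.single a 1)) = 0 := by
      simp only [← map_smul, ← map_sum]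
      simpa [Finsupp.univ_sum_single] using hxf
    simpa using congrArg Subtype.val h1
  obtain ⟨m, h, g', hg', hh⟩ := kill_finset g {()} (fun _ => ∑ a, f a • t a) fun _ _ => hf
  have hh0 : tp d h (∑ a, f a • t a) = 0 := hh () (Finset.mem_singleton_self _)
  have : Finite (Orb (Fin m) d) := Finite.of_surjective cls cls_surjective
  let _ := Fintype.ofFinite (Orb (Fin m) d)
  let e := Fintype.equivFin (Orb (Fin m) d)
  have horb : ∀ q, tp d g' ((SymTen.TS A (Fin m → A) d).val
      (orb (Pi.basisFun A (Fin m)) q)) ∈ invSub A M d := fun q => mem_invSub.mpr fun σ => by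
    rw [← tp_reindex]
    exact congrArg _ ((orb (Pi.basisFun A (Fin m)) q).2 σ)
  let co : Orb (Fin m) d → Fin l → A := fun q a =>
    (beta (Pi.basisFun A (Fin m)) d).coord (rep q) (tp d h (t a))
  let α : (Fin l →₀ A) →ₗ[A] (Fin (Fintype.card (Orb (Fin m) d)) →₀ A) :=
    Finsupp.linearCombination A fun a => Finsupp.equivFunOnFinite.symm fun k => co (e.symm k) a
  let y : (Fin (Fintype.card (Orb (Fin m) d)) →₀ A) →ₗ[A] invSub A M d :=
    Finsupp.linearCombination A fun k => ⟨_, horb (e.symm k)⟩
  refine ⟨_, α, y, Finsupp.lhom_ext' fun a => LinearMap.ext_ring (Subtype.val_injective ?_), ?_⟩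
  · simp only [LinearMap.comp_apply, Finsupp.lsingle_apply, α, Finsupp.linearCombination_single,
      one_smul, y]
    rw [Finsupp.linearCombination_apply, Finsupp.sum_fintype _ _ (by simp),
      AddSubmonoidClass.coe_finset_sum]
    refine (hgt a).symm.trans ?_
    rw [← hg', tp_comp, LinearMap.comp_apply,
      eq_sum_orb (tp d h (t a)) (fun σ => by rw [← tp_reindex, ht]), map_sum]
    rw [← e.symm.sum_comp]
    exact Finset.sum_congr rfl fun k _ => by simp [co]
  · refine Finsupp.ext fun k => ?_
    simp only [α, Finsupp.linearCombination_apply]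
    rw [Finsupp.sum_fintype _ _ (fun _ => by simp)]
    rw [Finsupp.finsetSum_apply]
    simp only [Finsupp.smul_apply, Finsupp.coe_equivFunOnFinite_symm, smul_eq_mul, co,
      Finsupp.zero_apply]
    simp only [← smul_eq_mul, ← map_smul, ← map_sum]
    rw [hh0, map_zero]

theorem flat_TS {B : Type u} [CommRing B] [Algebra A B] [Module.Flat A B] :
    Module.Flat A (SymTen.TS A B d) := by
  have := flat_invSub (A := A) (M := B) (d := d)
  have e : (SymTen.TS A B d).toSubmodule = invSub A B d :=
    Submodule.ext fun z => mem_invSub.symm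
  exact Module.Flat.of_linearEquiv (R := A) (LinearEquiv.ofEq _ _ e)

open PolLaw in
theorem flat_gamma {B : Type u} [CommRing B] [Algebra A B] {C : Type u} [CommRing C] [Algebra A C]
    {γ : MulLaw A B C d} (hγ : IsGammaD γ) [Module.Flat A B] : Module.Flat A C := by
  obtain ⟨φ, hφ⟩ := exists_gammaD_tsMap γ hγ
  have := flat_TS (A := A) (B := B) (d := d)
  exact Module.Flat.of_linearEquiv
    (AlgEquiv.ofBijective φ ⟨phi_injective_of_flat γ φ hφ hγ,
      phi_surjective_of_flat γ φ hφ⟩).toLinearEquiv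

end Groth.Agent.PolLib
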