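import Groth.Agent.PolLib.Gamma
import Groth.Prelude.Def_W4c5normfunctorschNorm
import Mathlib.LinearAlgebra.Determinant
import Mathlib.LinearAlgebra.Dimension.Free
import Mathlib.RingTheory.Finiteness.Cardinality
import Mathlib.GroupTheory.Perm.Sign
import Mathlib.LinearAlgebra.TensorProduct.Finiteness

/-! The span of tensors with two equal factors. -/

universe u

open scoped TensorProduct

namespace Groth.Agent.PolLib

open PolLaw

variable {R : Type u} [CommRing R] {P : Type u} [AddCommGroup P] [Module R P] {d : ℕ}

theorem tprod_mem_altSpan {p : Fin d → P} {i j : Fin d} (hij : i ≠ j) (h : p i = p j) :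
    PiTensorProduct.tprod R p ∈ SymTen.altSpan R P d :=
  Submodule.subset_span ⟨p, i, j, hij, h, rfl⟩

theorem tprod_add_swap_mem (p : Fin d → P) {i j : Fin d} (hij : i ≠ j) :
    PiTensorProduct.tprod R p + PiTensorProduct.tprod R (p ∘ Equiv.swap i j) ∈
      SymTen.altSpan R P d := by
  classical
  let up : P → P → Fin d → P := fun u v => Function.update (Function.update p i u) j v
  have hup : ∀ u v, up u v i = u ∧ up u v j = v := fun u v => by
    simp [up, hij]
  have hadd : PiTensorProduct.tprod R (up (p i + p j) (p i + p j)) =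
      (PiTensorProduct.tprod R (up (p i) (p i)) + PiTensorProduct.tprod R (up (p i) (p j))) +
        (PiTensorProduct.tprod R (up (p j) (p i)) + PiTensorProduct.tprod R (up (p j) (p j))) := by
    have h1 : ∀ u : P, PiTensorProduct.tprod R (up u (p i + p j)) =
        PiTensorProduct.tprod R (up u (p i)) + PiTensorProduct.tprod R (up u (p j)) := fun u =>
      MultilinearMap.map_update_add _ _ _ _ _
    have h2 : ∀ v : P, PiTensorProduct.tprod R (up (p i + p j) v) =
        PiTensorProduct.tprod R (up (p i) v) + PiTensorProduct.tprod R (up (p j) v) := fun v => by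
      simp only [up, fun u : P => Function.update_comm (β := fun _ : Fin d => P) hij u v p]
      exact MultilinearMap.map_update_add _ _ _ _ _
    rw [h1, h2 (p i), h2 (p j)]
    abel
  have e1 : up (p i) (p j) = p := by simp [up]
  have e2 : up (p j) (p i) = p ∘ Equiv.swap i j := by
    funext k
    simp only [up, Function.comp_apply, Equiv.swap_apply_def, Function.update_apply]
    by_cases hki : k = i
    · subst hki; simp [hij]
    · by_cases hkj : k = j
      · subst hkj; simp [Ne.symm hij]
      · simp [hki, hkj]
  have hm : ∀ u, PiTensorProduct.tprod R (up u u) ∈ SymTen.altSpan R P d := fun u =>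
    tprod_mem_altSpan hij ((hup u u).1.trans (hup u u).2.symm)
  rw [e1, e2] at hadd
  have h3 := sub_mem (sub_mem (hm (p i + p j)) (hm (p i))) (hm (p j))
  rw [hadd] at h3
  convert h3 using 1
  abel

theorem tprod_comp_perm_sub_mem (p : Fin d → P) (σ : Equiv.Perm (Fin d)) :
    PiTensorProduct.tprod R (p ∘ σ) - ((Equiv.Perm.sign σ : ℤ) : R) • PiTensorProduct.tprod R p ∈
      SymTen.altSpan R P d := by
  classical
  induction σ using Equiv.Perm.swap_induction_on generalizing p with
  | one => simp
  | swap_mul f x y hxy ih =>
    have h1 := ih (p ∘ Equiv.swap x y)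
    have h2 := Submodule.smul_mem _ ((Equiv.Perm.sign f : ℤ) : R) (tprod_add_swap_mem (R := R) p hxy)
    have e : p ∘ ⇑(Equiv.swap x y * f) = (p ∘ Equiv.swap x y) ∘ f := rfl
    rw [e, Equiv.Perm.sign_mul, Equiv.Perm.sign_swap hxy]
    convert add_mem h1 h2 using 1
    rw [smul_add]
    simp only [neg_mul, one_mul, Units.val_neg, Int.cast_neg, neg_smul]
    abel

theorem mem_altSpan_of_swap_basis {κ : Type u} (b : Module.Basis κ R P) {i j : Fin d}
    (hij : i ≠ j) (z : ⨂[R] _ : Fin d, P)
    (hz : PiTensorProduct.reindex R (fun _ : Fin d => P) (Equiv.swap i j) z = z) :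
    z ∈ SymTen.altSpan R P d := by
  classical
  let β : Module.Basis (Fin d → κ) R (⨂[R] _ : Fin d, P) := Basis.piTensorProduct fun _ : Fin d => b
  have hβ : ∀ c, β c = PiTensorProduct.tprod R fun k => b (c k) := fun c =>
    Basis.piTensorProduct_apply _ c
  let Q := SymTen.altSpan R P d
  let s := Equiv.swap i j
  let le : LinearOrder κ := linearOrderOfSTO WellOrderingRel
  have hsum : z = ∑ c ∈ (β.repr z).support, β.repr z c • β c := by
    conv_lhs => rw [← β.linearCombination_repr z]
    rfl
  have hs : s.symm = s := Equiv.symm_swap i j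
  have hre : ∀ c, PiTensorProduct.reindex R (fun _ : Fin d => P) s (β c) = β (c ∘ s) := fun c => by
    rw [hβ, hβ, PiTensorProduct.reindex_tprod, hs]
    rfl
  have hcoef : ∀ c, β.repr z (c ∘ s) = β.repr z c := by
    intro c
    have e : (β.coord (c ∘ s)).comp (PiTensorProduct.reindex R (fun _ : Fin d => P) s).toLinearMap =
        β.coord c := β.ext fun c' => by
      rw [LinearMap.comp_apply, LinearEquiv.coe_coe, hre, Module.Basis.coord_apply,
        Module.Basis.coord_apply, Module.Basis.repr_self, Module.Basis.repr_self,
        Finsupp.single_apply, Finsupp.single_apply]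
      refine if_congr ⟨fun h => funext fun k => ?_, fun h => h ▸ rfl⟩ rfl rfl
      have := congrFun h (s k)
      simpa [s, Function.comp_apply, Equiv.swap_apply_self] using this
    have := DFunLike.congr_fun e z
    rw [LinearMap.comp_apply, LinearEquiv.coe_coe, hz] at this
    exact this
  let T := (β.repr z).support
  have hT : ∀ c ∈ T, c ∘ s ∈ T := fun c hc => by
    rw [Finsupp.mem_support_iff, hcoef]
    exact Finsupp.mem_support_iff.mp hc
  have hss : ∀ c : Fin d → κ, (c ∘ s) ∘ s = c := fun c => funext fun k => by
    simp [s, Function.comp_apply, Equiv.swap_apply_self]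
  rw [hsum, ← Finset.sum_filter_add_sum_filter_not T (fun c => c i = c j)]
  refine add_mem (sum_mem fun c hc => Submodule.smul_mem _ _ ?_) ?_
  · rw [hβ]
    exact tprod_mem_altSpan hij (congrArg b (Finset.mem_filter.mp hc).2)
  · rw [← Finset.sum_filter_add_sum_filter_not (T.filter fun c => ¬ c i = c j) (fun c => c i < c j)]
    have hbij : ∑ c ∈ (T.filter fun c => ¬ c i = c j).filter (fun c => ¬ c i < c j),
        β.repr z c • β c =
        ∑ c ∈ (T.filter fun c => ¬ c i = c j).filter (fun c => c i < c j),
          β.repr z c • β (c ∘ s) := by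
      refine Finset.sum_nbij' (fun c => c ∘ s) (fun c => c ∘ s) ?_ ?_ (fun c _ => hss c)
        (fun c _ => hss c) (fun c _ => by rw [hcoef, hss])
      · intro c hc
        simp only [Finset.mem_coe, Finset.mem_filter] at hc ⊢
        refine ⟨⟨hT c hc.1.1, ?_⟩, ?_⟩ <;>
          simp only [s, Function.comp_apply, Equiv.swap_apply_left, Equiv.swap_apply_right]
        · exact fun h => hc.1.2 h.symm
        · exact lt_of_le_of_ne (not_lt.mp hc.2) (Ne.symm hc.1.2)
      · intro c hc
        simp only [Finset.mem_coe, Finset.mem_filter] at hc ⊢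
        refine ⟨⟨hT c hc.1.1, ?_⟩, ?_⟩ <;>
          simp only [s, Function.comp_apply, Equiv.swap_apply_left, Equiv.swap_apply_right]
        · exact fun h => hc.1.2 h.symm
        · exact lt_asymm hc.2
    rw [hbij, ← Finset.sum_add_distrib]
    refine sum_mem fun c _ => ?_
    rw [← smul_add, hβ, hβ]
    exact Submodule.smul_mem _ _ (tprod_add_swap_mem (fun k => b (c k)) hij)

theorem mem_altSpan_of_swap [Module.Projective R P] {i j : Fin d}
    (hij : i ≠ j) (z : ⨂[R] _ : Fin d, P)
    (hz : PiTensorProduct.reindex R (fun _ : Fin d => P) (Equiv.swap i j) z = z) :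
    z ∈ SymTen.altSpan R P d := by
  classical
  let f : (P →₀ R) →ₗ[R] P := Finsupp.linearCombination R id
  obtain ⟨g, hg⟩ := Module.projective_lifting_property f LinearMap.id fun p =>
    ⟨Finsupp.single p 1, by simp [f]⟩
  let G := PiTensorProduct.map (fun _ : Fin d => g)
  let Fm := PiTensorProduct.map (fun _ : Fin d => f)
  have hG : ∀ w, G (PiTensorProduct.reindex R (fun _ : Fin d => P) (Equiv.swap i j) w) =
      PiTensorProduct.reindex R (fun _ : Fin d => P →₀ R) (Equiv.swap i j) (G w) := by
    intro w
    induction w using PiTensorProduct.induction_on with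
    | smul_tprod r p => simp [G, PiTensorProduct.map_tprod, PiTensorProduct.reindex_tprod]
    | add x y hx hy => simp only [map_add, hx, hy]
  have hFG : ∀ w, Fm (G w) = w := by
    intro w
    induction w using PiTensorProduct.induction_on with
    | smul_tprod r p =>
      simp only [Fm, G, map_smul, PiTensorProduct.map_tprod]
      congr 2
      funext k
      exact LinearMap.congr_fun hg (p k)
    | add x y hx hy => simp only [map_add, hx, hy]
  have h1 := mem_altSpan_of_swap_basis (Finsupp.basisSingleOne (R := R) (ι := P)) hij (G z)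
    (by rw [← hG, hz])
  rw [← hFG z]
  have : SymTen.altSpan R (P →₀ R) d ≤ (SymTen.altSpan R P d).comap Fm := by
    refine Submodule.span_le.mpr ?_
    rintro _ ⟨p, k, l, hkl, h, rfl⟩
    simp only [SetLike.mem_coe, Submodule.mem_comap, Fm, PiTensorProduct.map_tprod]
    exact tprod_mem_altSpan hkl (congrArg f h)
  exact this h1

variable {A : Type u} [CommRing A] [Algebra R A] [Module A P] [IsScalarTower R A P]

theorem tpowAct_tprod (a : Fin d → A) (p : Fin d → P) :
    SymTen.tpowAct R A P d (PiTensorProduct.tprod R a) (PiTensorProduct.tprod R p) =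
      PiTensorProduct.tprod R fun k => a k • p k := by
  simp [SymTen.tpowAct, PiTensorProduct.map_tprod]

theorem reindex_tpowAct (σ : Equiv.Perm (Fin d)) (a : ⨂[R] _ : Fin d, A) (x : ⨂[R] _ : Fin d, P) :
    PiTensorProduct.reindex R (fun _ : Fin d => P) σ (SymTen.tpowAct R A P d a x) =
      SymTen.tpowAct R A P d (PiTensorProduct.reindex R (fun _ : Fin d => A) σ a)
        (PiTensorProduct.reindex R (fun _ : Fin d => P) σ x) := by
  induction a using PiTensorProduct.induction_on with
  | add u v hu hv => simp only [map_add, LinearMap.add_apply, hu, hv]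
  | smul_tprod r f =>
    induction x using PiTensorProduct.induction_on with
    | add u v hu hv => simp only [map_add, hu, hv]
    | smul_tprod t p =>
      simp only [map_smul, LinearMap.smul_apply, tpowAct_tprod, PiTensorProduct.reindex_tprod]

theorem tpowAct_mem_altSpan [Module.Projective R P] (a : ⨂[R] _ : Fin d, A)
    (ha : a ∈ SymTen.TS R A d) (x : ⨂[R] _ : Fin d, P) (hx : x ∈ SymTen.altSpan R P d) :
    SymTen.tpowAct R A P d a x ∈ SymTen.altSpan R P d := by
  induction hx using Submodule.span_induction with
  | zero => simp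
  | add u v _ _ hu hv => rw [map_add]; exact add_mem hu hv
  | smul r u _ hu => rw [map_smul]; exact Submodule.smul_mem _ _ hu
  | mem u hu =>
    obtain ⟨p, i, j, hij, h, rfl⟩ := hu
    refine mem_altSpan_of_swap hij _ ?_
    rw [reindex_tpowAct, ha, PiTensorProduct.reindex_tprod]
    congr 2
    funext k
    rw [Equiv.symm_swap, Equiv.swap_apply_def]
    split_ifs with h1 h2
    · rw [h1, h]
    · rw [h2, h]
    · rfl

section Det

variable {R' : Type u} [CommRing R'] [Algebra R R'] (b : Module.Basis (Fin d) R R')

/-- The determinant as a map on the tensor power. -/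
noncomputable def detT : (⨂[R] _ : Fin d, R') →ₗ[R] R :=
  PiTensorProduct.lift b.det.toMultilinearMap

theorem detT_tprod (p : Fin d → R') : detT b (PiTensorProduct.tprod R p) = b.det p := by
  simp [detT]

theorem sub_detT_mem (x : ⨂[R] _ : Fin d, R') :
    x - detT b x • PiTensorProduct.tprod R b ∈ SymTen.altSpan R R' d := by
  classical
  let β : Module.Basis (Fin d → Fin d) R (⨂[R] _ : Fin d, R') :=
    Basis.piTensorProduct fun _ : Fin d => b
  let L : (⨂[R] _ : Fin d, R') →ₗ[R] (⨂[R] _ : Fin d, R') ⧸ SymTen.altSpan R R' d :=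
    (SymTen.altSpan R R' d).mkQ ∘ₗ
      (LinearMap.id - (LinearMap.toSpanSingleton R _ (PiTensorProduct.tprod R b)).comp (detT b))
  have hL : L = 0 := by
    refine β.ext fun c => ?_
    rw [LinearMap.zero_apply]
    refine (Submodule.Quotient.mk_eq_zero _).mpr ?_
    simp only [LinearMap.sub_apply, LinearMap.id_apply, LinearMap.comp_apply,
      LinearMap.toSpanSingleton_apply, β, Basis.piTensorProduct_apply, detT_tprod]
    by_cases hc : Function.Injective c
    · let σ := Equiv.ofBijective c (Finite.injective_iff_bijective.mp hc)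
      have hdet : b.det (fun k => b (c k)) = ((Equiv.Perm.sign σ : ℤ) : R) := by
        have h1 := b.det.map_perm b σ
        rw [Module.Basis.det_self, Units.smul_def, zsmul_one] at h1
        exact h1
      rw [hdet]
      exact tprod_comp_perm_sub_mem (b : Fin d → R') σ
    · simp only [Function.Injective, not_forall] at hc
      obtain ⟨i, j, h, hij⟩ := hc
      rw [b.det.map_eq_zero_of_eq (fun k => b (c k)) (congrArg b h) hij, zero_smul, sub_zero]
      exact tprod_mem_altSpan hij (congrArg b h)
  have := LinearMap.congr_fun hL x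
  exact (Submodule.Quotient.mk_eq_zero _).mp this

include b in
theorem tpowAct_coeff_sub_mem {C : Type u} [CommRing C] [Algebra R C] [Module.Free R R']
    [Module.Finite R R'] (hd : Module.finrank R R' = d) (γ : MulLaw R R' C d) (hγ : IsGammaD γ)
    (φ : C →ₐ[R] (⨂[R] _ : Fin d, R')) (hφ : MulLaw.postcomp φ γ = SymTen.tpowLaw R R' d)
    (π : C →ₐ[R] R) (hπ : MulLaw.postcomp π γ = normLaw R R' d hd)
    (c : C) (x : ⨂[R] _ : Fin d, R') :
    SymTen.tpowAct R R' R' d (φ c) x - π c • x ∈ SymTen.altSpan R R' d := by
  classical
  suffices key : detT b (SymTen.tpowAct R R' R' d (φ c) x) = π c * detT b x by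
    have h := sub_detT_mem b (SymTen.tpowAct R R' R' d (φ c) x - π c • x)
    rwa [map_sub, map_smul, key, smul_eq_mul, sub_self, zero_smul, sub_zero] at h
  induction x using PiTensorProduct.induction_on with
  | add u v hu hv => simp only [map_add, mul_add, hu, hv]
  | smul_tprod r p =>
    simp only [map_smul, smul_eq_mul, detT_tprod]
    rw [mul_left_comm]
    congr 1
    have hc : c ∈ Submodule.span R (coeffs γ) := span_coeffs hγ ▸ trivial
    induction hc using Submodule.span_induction with
    | zero => simp
    | add u v _ _ hu hv => simp only [map_add, LinearMap.add_apply, hu, hv, add_mul]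
    | smul a u _ hu => simp only [map_smul, LinearMap.smul_apply, hu, smul_eq_mul, mul_assoc]
    | mem u hu =>
      obtain ⟨σ, μ, z, rfl⟩ := hu
      let S := MvPolynomial σ R
      rw [← cf_bc, ← cf_bc, ← ev_postcomp, ← ev_postcomp γ π, hφ, hπ]
      obtain ⟨T, rfl⟩ := TensorProduct.exists_finset z
      set Z := ∑ t ∈ T, t.1 ⊗ₜ[R] t.2 with hZ
      let bS := Algebra.TensorProduct.basis S b
      have hbS : ∀ q : Fin d → R', bS.det (fun k => (1 : S) ⊗ₜ[R] q k) =
          algebraMap R S (b.det q) := by
        intro q
        rw [Module.Basis.det_apply, Module.Basis.det_apply, RingHom.map_det]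
        congr 1
        ext k l
        simp [bS, Module.Basis.toMatrix_apply, Algebra.smul_def]
      have h1 : bS.det (fun k => Z * (1 : S) ⊗ₜ[R] p k) =
          Algebra.norm S Z * algebraMap R S (b.det p) := by
        rw [← hbS p, Algebra.norm_apply]
        exact (bS.det_comp (Algebra.lmul S _ Z) fun k => (1 : S) ⊗ₜ[R] p k)
      have h2 : bS.det (fun k => Z * (1 : S) ⊗ₜ[R] p k) =
          ∑ c ∈ Fintype.piFinset (fun _ : Fin d => T),
            (∏ k, (c k).1) * algebraMap R S (b.det fun k => (c k).2 * p k) := by
        have e : (fun k => Z * (1 : S) ⊗ₜ[R] p k) =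
            fun k => ∑ t ∈ T, t.1 • ((1 : S) ⊗ₜ[R] (t.2 * p k)) := by
          funext k
          rw [hZ, Finset.sum_mul]
          refine Finset.sum_congr rfl fun t _ => ?_
          rw [Algebra.TensorProduct.tmul_mul_tmul, mul_one, TensorProduct.smul_tmul', smul_eq_mul,
            mul_one]
        rw [e, ← AlternatingMap.coe_multilinearMap, MultilinearMap.map_sum_finset]
        refine Finset.sum_congr rfl fun c _ => ?_
        rw [MultilinearMap.map_smul_univ, smul_eq_mul, AlternatingMap.coe_multilinearMap, hbS]
      have h3 : ev (SymTen.tpowLaw R R' d) S Z = ∑ c ∈ Fintype.piFinset (fun _ : Fin d => T),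
          (∏ k, (c k).1) ⊗ₜ[R] PiTensorProduct.tprod R (fun k => (c k).2) := by
        rw [show ev (SymTen.tpowLaw R R' d) S Z = _ from MulLaw.prodMap_toFun' _ _ _ _ _]
        simp only [hZ, map_sum, Algebra.TensorProduct.map_tmul, AlgHom.id_apply]
        rw [Finset.prod_univ_sum]
        refine Finset.sum_congr rfl fun c _ => ?_
        have : ∀ u : Finset (Fin d), (∏ k ∈ u, (c k).1 ⊗ₜ[R]
            PiTensorProduct.singleAlgHom (R := R) (A := fun _ : Fin d => R') k (c k).2) =
            (∏ k ∈ u, (c k).1) ⊗ₜ[R] ∏ k ∈ u,
              PiTensorProduct.singleAlgHom (R := R) (A := fun _ : Fin d => R') k (c k).2 := by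
          intro u
          induction u using Finset.induction_on with
          | empty => simp [Algebra.TensorProduct.one_def]
          | insert k u hk ih =>
            rw [Finset.prod_insert hk, Finset.prod_insert hk, Finset.prod_insert hk, ih,
              Algebra.TensorProduct.tmul_mul_tmul]
        rw [this]
        congr 1
        simp only [PiTensorProduct.singleAlgHom_apply, MonoidHom.mulSingle_apply]
        rw [← PiTensorProduct.tprod_prod]
        exact congrArg _ (Finset.univ_prod_mulSingle fun k => (c k).2)
      rw [h3, show ev (normLaw R R' d hd) S Z = Algebra.norm S Z ⊗ₜ[R] (1 : R) from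
        normLaw_apply R R' d hd S Z]
      simp only [map_sum, cf_tmul, LinearMap.sum_apply, map_smul, LinearMap.smul_apply,
        tpowAct_tprod, detT_tprod, smul_eq_mul, mul_one]
      have h4 := congrArg (MvPolynomial.coeff μ) (h1.symm.trans h2)
      rw [MvPolynomial.coeff_sum, MvPolynomial.algebraMap_eq, mul_comm, MvPolynomial.coeff_C_mul,
        mul_comm] at h4
      rw [cf_tmul, smul_eq_mul, mul_one, h4]
      refine Finset.sum_congr rfl fun c _ => ?_
      rw [mul_comm (∏ k, (c k).1), MvPolynomial.coeff_C_mul, mul_comm]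

end Det

end Groth.Agent.PolLib
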