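import Groth.Prelude.Def_PolLaw
import Mathlib.RingTheory.MvPolynomial.Basic
import Mathlib.LinearAlgebra.TensorProduct.Basis
import Mathlib.RingTheory.TensorProduct.MvPolynomial

/-! Generalities on multiplicative polynomial laws: base change of algebra maps, coefficients. -/

universe u v w

open scoped TensorProduct

namespace Groth.Agent.PolLib

open PolLaw

variable {A : Type u} [CommRing A] {B : Type u} [CommRing B] [Algebra A B]
  {C : Type u} [CommRing C] [Algebra A C] {D : Type u} [CommRing D] [Algebra A D]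

/-- `S ⊗ f`. -/
noncomputable def bc (f : B →ₐ[A] C) (S : Type u) [CommSemiring S] [Algebra A S] :
    S ⊗[A] B →ₐ[S] S ⊗[A] C :=
  Algebra.TensorProduct.map (AlgHom.id S S) f

/-- `ψ ⊗ B`. -/
noncomputable def rB (B : Type u) [CommRing B] [Algebra A B]
    {S S' : Type u} [CommSemiring S] [Algebra A S] [CommSemiring S'] [Algebra A S']
    (ψ : S →ₐ[A] S') : S ⊗[A] B →ₐ[A] S' ⊗[A] B :=
  Algebra.TensorProduct.map ψ (AlgHom.id A B)

section
variable {S S' S'' : Type u} [CommSemiring S] [Algebra A S] [CommSemiring S'] [Algebra A S']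
  [CommSemiring S''] [Algebra A S'']

@[simp] theorem bc_tmul (f : B →ₐ[A] C) (s : S) (b : B) :
    bc f S (s ⊗ₜ[A] b) = s ⊗ₜ[A] f b := rfl

@[simp] theorem rB_tmul (ψ : S →ₐ[A] S') (s : S) (b : B) :
    rB B ψ (s ⊗ₜ[A] b) = ψ s ⊗ₜ[A] b := rfl

theorem lTensor_eq_bc (f : B →ₐ[A] C) (x : S ⊗[A] B) : f.toLinearMap.lTensor S x = bc f S x :=
  lTensor_algHom_apply f S x

theorem rTensor_eq_rB (ψ : S →ₐ[A] S') (x : S ⊗[A] B) : ψ.toLinearMap.rTensor B x = rB B ψ x := by
  induction x using TensorProduct.induction_on with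
  | zero => simp
  | tmul a b => rfl
  | add a b ha hb => simp [ha, hb]

theorem bc_rB (f : B →ₐ[A] C) (ψ : S →ₐ[A] S') (x : S ⊗[A] B) :
    rB C ψ (bc f S x) = bc f S' (rB B ψ x) := by
  induction x using TensorProduct.induction_on with
  | zero => simp
  | tmul a b => simp
  | add a b ha hb => simp [ha, hb]

theorem bc_bc (f : B →ₐ[A] C) (g : C →ₐ[A] D) (x : S ⊗[A] B) :
    bc g S (bc f S x) = bc (g.comp f) S x := by
  induction x using TensorProduct.induction_on with
  | zero => simp
  | tmul a b => simp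
  | add a b ha hb => simp [ha, hb]

@[simp] theorem bc_id (x : S ⊗[A] B) : bc (AlgHom.id A B) S x = x := by
  induction x using TensorProduct.induction_on with
  | zero => simp
  | tmul a b => simp
  | add a b ha hb => simp [ha, hb]

theorem rB_rB (ψ : S →ₐ[A] S') (χ : S' →ₐ[A] S'') (x : S ⊗[A] B) :
    rB B χ (rB B ψ x) = rB B (χ.comp ψ) x := by
  induction x using TensorProduct.induction_on with
  | zero => simp
  | tmul a b => simp
  | add a b ha hb => simp [ha, hb]

@[simp] theorem rB_id (x : S ⊗[A] B) : rB B (AlgHom.id A S) x = x := by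
  induction x using TensorProduct.induction_on with
  | zero => simp
  | tmul a b => simp
  | add a b ha hb => simp [ha, hb]

theorem rB_smul (ψ : S →ₐ[A] S') (s : S) (x : S ⊗[A] B) : rB B ψ (s • x) = ψ s • rB B ψ x := by
  induction x using TensorProduct.induction_on with
  | zero => simp
  | tmul a b => simp [TensorProduct.smul_tmul']
  | add a b ha hb => simp [ha, hb, smul_add]

theorem bc_surjective {f : B →ₐ[A] C} (hf : Function.Surjective f) :
    Function.Surjective (bc f S) := by
  intro y
  obtain ⟨x, hx⟩ := LinearMap.lTensor_surjective (Q := S) (g := f.toLinearMap) hf y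
  exact ⟨x, by rw [← lTensor_eq_bc]; exact hx⟩

theorem bc_injective_of_leftInverse (f : B →ₐ[A] C) (g : C →ₗ[A] B)
    (h : ∀ b, g (f b) = b) : Function.Injective (bc f S) := by
  intro x y hxy
  have : ∀ z : S ⊗[A] B, g.lTensor S (bc f S z) = z := by
    intro z
    induction z using TensorProduct.induction_on with
    | zero => simp
    | tmul a b => simp [h]
    | add a b ha hb => simp [ha, hb]
  rw [← this x, ← this y, hxy]

end

section law
variable {d : ℕ} (F : MulLaw A B C d) {S S' : Type u} [CommSemiring S] [Algebra A S]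
  [CommSemiring S'] [Algebra A S']

/-- The value of a multiplicative law on a test algebra. -/
noncomputable abbrev ev (S : Type u) [CommSemiring S] [Algebra A S] (x : S ⊗[A] B) : S ⊗[A] C :=
  F.law.toFun' S x

theorem ev_nat (ψ : S →ₐ[A] S') (x : S ⊗[A] B) : rB C ψ (ev F S x) = ev F S' (rB B ψ x) := by
  rw [← rTensor_eq_rB, ← rTensor_eq_rB]
  exact congrFun (F.law.isCompat' ψ) x

@[simp] theorem ev_one : ev F S 1 = 1 := (F.mult S).1

theorem ev_mul (x y : S ⊗[A] B) : ev F S (x * y) = ev F S x * ev F S y := (F.mult S).2 x y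

theorem ev_smul (s : S) (x : S ⊗[A] B) : ev F S (s • x) = s ^ d • ev F S x := F.homog S s x

/-- A multiplicative law as a monoid map on each test algebra. -/
noncomputable def evHom (S : Type u) [CommSemiring S] [Algebra A S] : S ⊗[A] B →* S ⊗[A] C where
  toFun := ev F S
  map_one' := ev_one F
  map_mul' := ev_mul F

theorem ev_prod {κ : Type w} (t : Finset κ) (x : κ → S ⊗[A] B) :
    ev F S (∏ k ∈ t, x k) = ∏ k ∈ t, ev F S (x k) := map_prod (evHom F S) x t

theorem ev_pow (x : S ⊗[A] B) (n : ℕ) : ev F S (x ^ n) = ev F S x ^ n := map_pow (evHom F S) x n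

theorem postcomp_law (f : C →ₐ[A] D) (x : S ⊗[A] B) :
    (PolLaw.postcomp f.toLinearMap F.law).toFun' S x = bc f S (ev F S x) :=
  lTensor_eq_bc f _

theorem ev_postcomp (f : C →ₐ[A] D) (x : S ⊗[A] B) :
    ev (MulLaw.postcomp f F) S x = bc f S (ev F S x) :=
  lTensor_eq_bc f _

theorem ev_precomp {B' : Type u} [CommRing B'] [Algebra A B'] (g : B' →ₐ[A] B) (x : S ⊗[A] B') :
    ev (MulLaw.precomp F g) S x = ev F S (bc g S x) := by
  show F.law.toFun' S (g.toLinearMap.lTensor S x) = _
  rw [lTensor_eq_bc]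

end law

/-- Laws agree as soon as they agree on polynomial rings in finitely many variables. -/
theorem law_ext {M N : Type u} [AddCommGroup M] [Module A M] [AddCommGroup N] [Module A N]
    {F G : M →ₚₗ[A] N}
    (h : ∀ (n : ℕ) (p : MvPolynomial (Fin n) A ⊗[A] M),
      F.toFun' _ p = G.toFun' _ p) : F = G := by
  refine PolynomialLaw.ext (funext fun S => funext fun _ => funext fun _ => funext fun x => ?_)
  obtain ⟨n, ψ, p, rfl⟩ := PolynomialLaw.exists_lift x
  rw [← Function.comp_apply (f := F.toFun' S), ← F.isCompat' ψ,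
    ← Function.comp_apply (f := G.toFun' S), ← G.isCompat' ψ, Function.comp_apply,
    Function.comp_apply, h]

theorem mulLaw_ext {d : ℕ} {F G : MulLaw A B C d}
    (h : ∀ (S : Type u) [CommRing S] [Algebra A S] (x : S ⊗[A] B), ev F S x = ev G S x) : F = G :=
  MulLaw.ext (law_ext fun _ p => h _ p)

theorem postcomp_eq_iff {d : ℕ} {γ : MulLaw A B C d} {f : C →ₐ[A] D} {F : MulLaw A B D d} :
    PolLaw.postcomp f.toLinearMap γ.law = F.law ↔
      ∀ (S : Type u) [CommRing S] [Algebra A S] (x : S ⊗[A] B), bc f S (ev γ S x) = ev F S x := by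
  constructor
  · intro h S _ _ x
    rw [← postcomp_law γ f x, h]
  · intro h
    exact law_ext fun _ p => by rw [postcomp_law γ f p]; exact h _ p

section cf
variable {σ : Type v} {M : Type w} [AddCommGroup M] [Module A M]

/-- The coefficient at `μ` of an element of `A[σ] ⊗ M`. -/
noncomputable def cf (μ : σ →₀ ℕ) : MvPolynomial σ A ⊗[A] M →ₗ[A] M :=
  (TensorProduct.lid A M).toLinearMap.comp ((MvPolynomial.lcoeff A μ).rTensor M)

@[simp] theorem cf_tmul (μ : σ →₀ ℕ) (p : MvPolynomial σ A) (m : M) :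
    cf μ (p ⊗ₜ[A] m) = MvPolynomial.coeff μ p • m := by
  simp [cf, MvPolynomial.lcoeff_apply]

theorem ext_cf {x y : MvPolynomial σ A ⊗[A] M} (h : ∀ μ, cf μ x = cf μ y) : x = y := by
  classical
  apply (TensorProduct.equivFinsuppOfBasisLeft (MvPolynomial.basisMonomials σ A)).injective
  ext μ
  have : ∀ z : MvPolynomial σ A ⊗[A] M,
      TensorProduct.equivFinsuppOfBasisLeft (MvPolynomial.basisMonomials σ A) z μ = cf μ z := by
    intro z
    induction z using TensorProduct.induction_on with
    | zero => simp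
    | tmul p m => simp [MvPolynomial.basisMonomials]; rfl
    | add a b ha hb => simp [ha, hb]
  rw [this, this, h]

theorem cf_bc {σ : Type u} (μ : σ →₀ ℕ) (f : B →ₐ[A] C) (x : MvPolynomial σ A ⊗[A] B) :
    cf μ (bc f (MvPolynomial σ A) x) = f (cf μ x) := by
  induction x using TensorProduct.induction_on with
  | zero => simp
  | tmul p m => simp
  | add a b ha hb => simp [ha, hb]

theorem cf_bc₀ {σ : Type} (μ : σ →₀ ℕ) (f : B →ₐ[A] C) (x : MvPolynomial σ A ⊗[A] B) :
    cf μ (bc f (MvPolynomial σ A) x) = f (cf μ x) := by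
  induction x using TensorProduct.induction_on with
  | zero => simp
  | tmul p m => simp
  | add a b ha hb => simp [ha, hb]

theorem cf_lTensor {N : Type*} [AddCommGroup N] [Module A N] (μ : σ →₀ ℕ) (f : M →ₗ[A] N)
    (x : MvPolynomial σ A ⊗[A] M) : cf μ (f.lTensor (MvPolynomial σ A) x) = f (cf μ x) := by
  induction x using TensorProduct.induction_on with
  | zero => simp
  | tmul p m => simp
  | add a b ha hb => simp [ha, hb]

end cf

end Groth.Agent.PolLib
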