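import Groth.Agent.PolLib.Ker
import Groth.Agent.PolLib.Chi
import Mathlib.Algebra.DualNumber
import Mathlib.Algebra.Polynomial.Taylor
import Mathlib.RingTheory.AdjoinRoot
import Mathlib.RingTheory.Flat.Basic
import Mathlib.LinearAlgebra.TensorProduct.Pi

/-! In characteristic zero the kernel of a law is cut out by its linear part. -/

universe u

open scoped TensorProduct DualNumber

namespace Groth.Agent.PolLib

open PolLaw Polynomial

variable {A : Type u} [CommRing A] {B : Type u} [CommRing B] [Algebra A B] {d : ℕ}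
  (F : MulLaw A B A d)


section Lin

variable {R : Type u} [CommRing R] [Algebra A R]

/-- Constants in the dual numbers. -/
noncomputable def inE : R →ₐ[A] R[ε] := (TrivSqZeroExt.inlAlgHom R R R).restrictScalars A

/-- The infinitesimal element `ε ⊗ 1` times `y`. -/
noncomputable def epsMul (y : R ⊗[A] B) : R[ε] ⊗[A] B :=
  ((ε : R[ε]) ⊗ₜ[A] (1 : B)) * rB B inE y

/-- The linear part of a law. -/
noncomputable def linPart (y : R ⊗[A] B) : R :=
  TrivSqZeroExt.snd (evl F (Algebra.ofId A R[ε]) (1 + epsMul y))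

theorem evl_one_add_eps (y : R ⊗[A] B) :
    evl F (Algebra.ofId A R[ε]) (1 + epsMul y) = 1 + ε * inE (A := A) (linPart F y) := by
  let f0 : R[ε] →ₐ[A] R := (TrivSqZeroExt.fstHom R R R).restrictScalars A
  have h0 : f0 (evl F (Algebra.ofId A R[ε]) (1 + epsMul y)) = 1 := by
    rw [← evl_nat' F _ f0 (Subsingleton.elim _ (Algebra.ofId A R)), map_add, map_one, epsMul,
      map_mul, rB_tmul]
    rw [show f0 (ε : R[ε]) = 0 from DualNumber.fst_eps, TensorProduct.zero_tmul, zero_mul, add_zero,
      evl_one]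
  refine TrivSqZeroExt.ext ?_ ?_
  · rw [show TrivSqZeroExt.fst (evl F (Algebra.ofId A R[ε]) (1 + epsMul y)) = 1 from h0]
    simp [inE]
  · simp [inE, linPart]

theorem linPart_add (y y' : R ⊗[A] B) : linPart F (y + y') = linPart F y + linPart F y' := by
  have e : 1 + epsMul (y + y') = (1 + epsMul y) * (1 + epsMul y') := by
    have hz : ((ε : R[ε]) ⊗ₜ[A] (1 : B)) * ((ε : R[ε]) ⊗ₜ[A] (1 : B)) = 0 := by
      rw [Algebra.TensorProduct.tmul_mul_tmul, DualNumber.eps_mul_eps, TensorProduct.zero_tmul]
    simp only [epsMul, map_add]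
    linear_combination (-(rB B inE y * rB B inE y')) * hz
  have h := congrArg (evl F (Algebra.ofId A R[ε])) e
  rw [evl_mul, evl_one_add_eps, evl_one_add_eps, evl_one_add_eps] at h
  have h2 := congrArg TrivSqZeroExt.snd h
  simpa [inE, add_comm] using h2

theorem linPart_nat {R' : Type u} [CommRing R'] [Algebra A R'] (ψ : R →ₐ[A] R') (y : R ⊗[A] B) :
    linPart F (rB B ψ y) = ψ (linPart F y) := by
  let Ψ : R[ε] →ₐ[A] R'[ε] := DualNumber.lift
    ⟨((inE (A := A) (R := R')).comp ψ, ε), DualNumber.eps_mul_eps, fun _ => Commute.all _ _⟩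
  have hε : Ψ ε = ε := DualNumber.lift_apply_eps _
  have hin : Ψ.comp inE = (inE (A := A) (R := R')).comp ψ := AlgHom.ext fun r => by
    show Ψ (TrivSqZeroExt.inl r) = _
    simp [Ψ, DualNumber.lift_apply_inl]
  have h := congrArg Ψ (evl_one_add_eps F y)
  rw [← evl_nat' F _ Ψ (Subsingleton.elim _ (Algebra.ofId A R'[ε])), map_add, map_add, map_one,
    map_one, map_mul, hε, epsMul, map_mul, rB_tmul, hε, rB_rB, hin, ← rB_rB] at h
  rw [linPart, epsMul, h, ← AlgHom.comp_apply, hin]
  simp [inE]

theorem linPart_smul (r : R) (y : R ⊗[A] B) : linPart F (r • y) = r * linPart F y := by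
  let Ψ : R[ε] →ₐ[A] R[ε] := DualNumber.lift
    ⟨(inE (A := A) (R := R), inE (A := A) r * ε),
      by rw [mul_mul_mul_comm, DualNumber.eps_mul_eps, mul_zero], fun _ => Commute.all _ _⟩
  have hε : Ψ ε = inE (A := A) r * ε := DualNumber.lift_apply_eps _
  have hin : Ψ.comp inE = inE (A := A) (R := R) := AlgHom.ext fun s => by
    show Ψ (TrivSqZeroExt.inl s) = _
    simp [Ψ, DualNumber.lift_apply_inl, inE]
  have h := congrArg Ψ (evl_one_add_eps F y)
  have e : epsMul (r • y) = ((inE (A := A) r * ε) ⊗ₜ[A] (1 : B)) * rB B inE y := by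
    rw [epsMul, rB_smul, mul_smul_comm, ← smul_mul_assoc, TensorProduct.smul_tmul', smul_eq_mul]
  rw [← evl_nat' F _ Ψ (Subsingleton.elim _ (Algebra.ofId A R[ε])), map_add, map_add, map_one,
    map_one, map_mul, hε, epsMul, map_mul, rB_tmul, hε, rB_rB, hin, ← e, ← AlgHom.comp_apply,
    hin] at h
  rw [linPart, h]
  simp [inE, mul_comm, mul_left_comm]

theorem linPart_zero : linPart F (0 : R ⊗[A] B) = 0 := by
  simpa using linPart_smul F (0 : R) (0 : R ⊗[A] B)

theorem linPart_tmul (s : R) (b : B) :
    linPart F (s ⊗ₜ[A] b) = s * algebraMap A R (linPart F ((1 : A) ⊗ₜ[A] b)) := by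
  have h : s ⊗ₜ[A] b = s • rB B (Algebra.ofId A R) ((1 : A) ⊗ₜ[A] b) := by
    rw [rB_tmul, map_one, TensorProduct.smul_tmul', smul_eq_mul, mul_one]
  rw [h, linPart_smul, linPart_nat]
  rfl

theorem linPart_eq_zero_of_mem_kerBC {A' : Type u} [CommRing A'] [Algebra A A'] {b' : A' ⊗[A] B}
    (h : b' ∈ PolLaw.kerBC F.law A') (i : A' →ₐ[A] R) (w : R ⊗[A] B) :
    linPart F (w * rB B i b') = 0 := by
  rw [linPart, epsMul, map_mul, rB_rB, ← mul_assoc, evl_add_of_mem_kerBC F h, evl_one]
  exact TrivSqZeroExt.snd_one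

end Lin

theorem linPart_mul_eq_zero {b : B} (hb : ∀ c : B, linPart F ((1 : A) ⊗ₜ[A] (c * b)) = 0)
    {R : Type u} [CommRing R] [Algebra A R] (w : R ⊗[A] B) :
    linPart F (w * ((1 : R) ⊗ₜ[A] b)) = 0 := by
  induction w using TensorProduct.induction_on with
  | zero => rw [zero_mul, linPart_zero]
  | tmul s c =>
    rw [Algebra.TensorProduct.tmul_mul_tmul, mul_one, linPart_tmul, hb, map_zero, mul_zero]
  | add u v hu hv => rw [add_mul, linPart_add, hu, hv, add_zero]

theorem eq_of_nilpotent_aeval {R : Type u} [CommRing R] [Algebra A R] {p q : R[X]}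
    (h : ∀ (S : Type u) [CommRing S] [Algebra R S] (t : S), IsNilpotent t →
      Polynomial.aeval t p = Polynomial.aeval t q) : p = q := by
  rw [← sub_eq_zero]
  set D := p - q with hD
  have h1 : ∀ N : ℕ, (X : R[X]) ^ N ∣ D := by
    intro N
    have h2 := h (AdjoinRoot ((X : R[X]) ^ N)) (AdjoinRoot.root _)
      ⟨N, by
        rw [← AdjoinRoot.mk_X, ← map_pow, AdjoinRoot.mk_self]⟩
    rw [AdjoinRoot.aeval_eq, AdjoinRoot.aeval_eq] at h2
    rw [hD, ← AdjoinRoot.mk_eq_zero, map_sub, h2, sub_self]
  refine Polynomial.ext fun k => ?_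
  rw [Polynomial.coeff_zero]
  exact Polynomial.X_pow_dvd_iff.mp (h1 (k + 1)) k (Nat.lt_succ_self k)

variable [Algebra ℚ A]

theorem evl_one_add_eq_one {b : B} (hb : ∀ c : B, linPart F ((1 : A) ⊗ₜ[A] (c * b)) = 0)
    {R : Type u} [CommRing R] [Algebra A R] (w : R ⊗[A] B) :
    evl F (Algebra.ofId A R) (1 + w * ((1 : R) ⊗ₜ[A] b)) = 1 := by
  let cst : R →ₐ[A] R[X] := IsScalarTower.toAlgHom A R R[X]
  let y := w * ((1 : R) ⊗ₜ[A] b)
  let G : R[X] := evl F (Algebra.ofId A R[X]) (1 + ((X : R[X]) ⊗ₜ[A] (1 : B)) * rB B cst y)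
  have hG : ∀ (S : Type u) [CommRing S] [Algebra R S] [Algebra A S] [IsScalarTower A R S] (t : S),
      Polynomial.aeval t G = evl F (Algebra.ofId A S)
        (1 + (t ⊗ₜ[A] (1 : B)) * rB B (IsScalarTower.toAlgHom A R S) y) := by
    intro S _ _ _ _ t
    show ((Polynomial.aeval t).restrictScalars A) G = _
    rw [← evl_nat' F _ _ (Subsingleton.elim _ (Algebra.ofId A S)), map_add, map_one, map_mul,
      rB_tmul, rB_rB]
    rw [show ((Polynomial.aeval t).restrictScalars A).comp cst = IsScalarTower.toAlgHom A R S from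
        AlgHom.ext fun r => by simp [cst],
      show ((Polynomial.aeval t).restrictScalars A) X = t from by simp]
  have hder : Polynomial.derivative G = 0 := by
    refine eq_of_nilpotent_aeval (A := A) fun S _ _ t ht => ?_
    rw [map_zero]
    let _ : Algebra A S := ((algebraMap R S).comp (algebraMap A R)).toAlgebra
    have : IsScalarTower A R S := IsScalarTower.of_algebraMap_eq fun _ => rfl
    let i := IsScalarTower.toAlgHom A R S
    let u : S ⊗[A] B := 1 + (t ⊗ₜ[A] (1 : B)) * rB B i y
    have hu : IsUnit u := by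
      refine IsNilpotent.isUnit_one_add (Commute.isNilpotent_mul_right (Commute.all _ _) ?_)
      exact ht.map (Algebra.TensorProduct.includeLeft (R := A) (S := A) (A := S) (B := B))
    let q : S ⊗[A] B := (↑hu.unit⁻¹ : S ⊗[A] B)
    have hq : u * q = 1 := IsUnit.mul_val_inv hu
    let jE : S →ₐ[A] S[ε] := inE
    have : IsScalarTower A R S[ε] := IsScalarTower.of_algebraMap_eq fun a => by
      simp [TrivSqZeroExt.algebraMap_eq_inl', ← IsScalarTower.algebraMap_apply]
    have hi : IsScalarTower.toAlgHom A R S[ε] = jE.comp i := AlgHom.ext fun _ => rfl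
    have h1 := hG S[ε] (jE t + ε)
    rw [hi, ← rB_rB] at h1
    have e : 1 + ((jE t + ε) ⊗ₜ[A] (1 : B)) * rB B jE (rB B i y) =
        rB B jE u * (1 + epsMul (rB B i y * q)) := by
      have hq' : rB B jE u * rB B jE q = 1 := by rw [← map_mul, hq, map_one]
      simp only [epsMul, map_mul, u, map_add, map_one, rB_tmul, TensorProduct.add_tmul] at hq' ⊢
      rw [show (inE (A := A) (R := S)) = jE from rfl]
      linear_combination (-((ε : S[ε]) ⊗ₜ[A] (1 : B)) * rB B jE (rB B i y)) * hq'
    have hT : linPart F (rB B i y * q) = 0 := by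
      simp only [y, map_mul, rB_tmul, map_one]
      rw [mul_right_comm]
      exact linPart_mul_eq_zero F hb _
    rw [e, evl_mul, evl_one_add_eps, hT, map_zero, mul_zero, add_zero, mul_one,
      evl_nat' F (Algebra.ofId A S) jE (Subsingleton.elim _ _)] at h1
    have h2 := congrArg TrivSqZeroExt.snd h1
    have h3 : Polynomial.aeval (jE t + ε) G =
        jE (Polynomial.aeval t G) + jE (Polynomial.aeval t (Polynomial.derivative G)) * ε := by
      have hm : ∀ p : R[X], Polynomial.aeval (jE t) p = jE (Polynomial.aeval t p) := fun p => by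
        rw [Polynomial.aeval_def, Polynomial.aeval_def]
        exact (Polynomial.hom_eval₂ p (algebraMap R S) jE.toRingHom t).symm
      rw [← hm, ← hm, Polynomial.aeval_def, Polynomial.aeval_def, Polynomial.aeval_def,
        ← Polynomial.eval_map, ← Polynomial.eval_map, ← Polynomial.eval_map,
        ← Polynomial.derivative_map]
      exact Polynomial.eval_add_of_sq_eq_zero _ _ _ (by rw [sq, DualNumber.eps_mul_eps])
    rw [h3] at h2
    simpa [jE, inE] using h2
  have hC : G = Polynomial.C (G.coeff 0) := by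
    refine Polynomial.ext fun k => ?_
    cases k with
    | zero => rw [Polynomial.coeff_C_zero]
    | succ k =>
      rw [Polynomial.coeff_C_succ]
      have h := congrArg (Polynomial.coeff · k) hder
      simp only [Polynomial.coeff_derivative, Polynomial.coeff_zero] at h
      have hu : IsUnit ((k : R) + 1) := by
        have := ((IsUnit.mk0 ((k : ℚ) + 1) (by positivity)).map (algebraMap ℚ A)).map (algebraMap A R)
        simpa using this
      exact (IsUnit.mul_left_eq_zero hu).mp h
  have h0 : G.coeff 0 = 1 := by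
    have := hG R 0
    rw [TensorProduct.zero_tmul, zero_mul, add_zero, evl_one, ← Polynomial.coeff_zero_eq_aeval_zero]
      at this
    exact this
  have h1 := hG R 1
  rw [hC, h0, map_one, map_one, ← Algebra.TensorProduct.one_def, one_mul] at h1
  rw [show IsScalarTower.toAlgHom A R R = AlgHom.id A R from rfl, rB_id] at h1
  exact h1.symm

theorem mem_ker_of_linPart {b : B} (hb : ∀ c : B, linPart F ((1 : A) ⊗ₜ[A] (c * b)) = 0) :
    b ∈ PolLaw.ker F.law := by
  rw [mem_ker_iff_evl]
  intro R _ _ g x w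
  rw [Subsingleton.elim g (Algebra.ofId A R)]
  let cst : R →ₐ[A] R[X] := IsScalarTower.toAlgHom A R R[X]
  let xT : R[X] ⊗[A] B := 1 + ((X : R[X]) ⊗ₜ[A] (1 : B)) * rB B cst (x - 1)
  let z : R[X] ⊗[A] B := rB B cst w * ((1 : R[X]) ⊗ₜ[A] b)
  have key : evl F (Algebra.ofId A R[X]) (xT + z) = evl F (Algebra.ofId A R[X]) xT := by
    refine eq_of_nilpotent_aeval (A := A) fun S _ _ t ht => ?_
    let _ : Algebra A S := ((algebraMap R S).comp (algebraMap A R)).toAlgebra
    have : IsScalarTower A R S := IsScalarTower.of_algebraMap_eq fun _ => rfl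
    let ψ : R[X] →ₐ[A] S := (Polynomial.aeval t).restrictScalars A
    show ψ _ = ψ _
    rw [← evl_nat' F _ ψ (Subsingleton.elim _ (Algebra.ofId A S)),
      ← evl_nat' F _ ψ (Subsingleton.elim _ (Algebra.ofId A S)), map_add]
    have hu : IsUnit (rB B ψ xT) := by
      simp only [xT, map_add, map_one, map_mul, rB_tmul]
      refine IsNilpotent.isUnit_one_add (Commute.isNilpotent_mul_right (Commute.all _ _) ?_)
      have : ψ X = t := by simp [ψ]
      rw [this]
      exact ht.map (Algebra.TensorProduct.includeLeft (R := A) (S := A) (A := S) (B := B))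
    obtain ⟨v, hv⟩ := hu.exists_right_inv
    have e : rB B ψ xT + rB B ψ z =
        rB B ψ xT * (1 + (v * rB B ψ (rB B cst w)) * ((1 : S) ⊗ₜ[A] b)) := by
      simp only [z, map_mul, rB_tmul, map_one]
      linear_combination (-(rB B ψ (rB B cst w) * ((1 : S) ⊗ₜ[A] b))) * hv
    rw [e, evl_mul, evl_one_add_eq_one F hb, mul_one]
  have h := congrArg ((Polynomial.aeval (1 : R)).restrictScalars A) key
  rw [← evl_nat' F _ _ (Subsingleton.elim _ (Algebra.ofId A R)),
    ← evl_nat' F _ _ (Subsingleton.elim _ (Algebra.ofId A R))] at h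
  have hc : ((Polynomial.aeval (1 : R)).restrictScalars A).comp cst = AlgHom.id A R :=
    AlgHom.ext fun r => by simp [cst]
  simp only [xT, z, map_add, map_one, map_mul, rB_tmul, rB_rB, hc, rB_id,
    AlgHom.restrictScalars_apply, Polynomial.aeval_X, ← Algebra.TensorProduct.one_def, one_mul,
    add_sub_cancel] at h
  exact h

theorem map_ker_eq_kerBC_flat [Module.Finite A B] (A' : Type u) [CommRing A'] [Algebra A A']
    [Module.Flat A A'] :
    (PolLaw.ker F.law).map (Algebra.TensorProduct.includeRight : B →ₐ[A] A' ⊗[A] B) =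
      PolLaw.kerBC F.law A' := by
  classical
  refine le_antisymm (map_ker_le_kerBC F A') fun b' hb' => ?_
  obtain ⟨m, e, he⟩ := Module.Finite.exists_fin (R := A) (M := B)
  let L : B →ₗ[A] (Fin m → A) := LinearMap.pi fun k =>
  { toFun := fun b => linPart F ((1 : A) ⊗ₜ[A] (e k * b))
    map_add' := fun u v => by rw [mul_add, TensorProduct.tmul_add, linPart_add]
    map_smul' := fun a u => by
      rw [mul_smul_comm, TensorProduct.tmul_smul, linPart_smul, RingHom.id_apply, smul_eq_mul] }
  let L₀ : LinearMap.ker L →ₗ[A] B := (LinearMap.ker L).subtype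
  have hex : Function.Exact L₀ L := LinearMap.exact_subtype_ker_map L
  have hker : ∀ k : LinearMap.ker L, (k : B) ∈ PolLaw.ker F.law := fun k =>
    mem_ker_of_linPart F fun c => by
      have hc : c ∈ Submodule.span A (Set.range e) := he ▸ trivial
      induction hc using Submodule.span_induction with
      | zero => rw [zero_mul, TensorProduct.tmul_zero, linPart_zero]
      | add u v _ _ hu hv => rw [add_mul, TensorProduct.tmul_add, linPart_add, hu, hv, add_zero]
      | smul a u _ hu =>
        rw [smul_mul_assoc, TensorProduct.tmul_smul, linPart_smul, hu, mul_zero]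
      | mem u hu =>
        obtain ⟨j, rfl⟩ := hu
        exact congrFun (LinearMap.mem_ker.mp k.2) j
  have h0 : L.lTensor A' b' = 0 := by
    have hL : ∀ (z : A' ⊗[A] B) k, TensorProduct.rid A A'
        ((LinearMap.proj k).lTensor A' (L.lTensor A' z)) =
          linPart F (((1 : A') ⊗ₜ[A] e k) * z) := by
      intro z k
      induction z using TensorProduct.induction_on with
      | zero => simp [linPart_zero]
      | tmul a b =>
        rw [Algebra.TensorProduct.tmul_mul_tmul, one_mul, linPart_tmul]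
        simp [L, Algebra.smul_def, mul_comm]
      | add u v hu hv => simp only [map_add, mul_add, linPart_add, hu, hv]
    have hz : ∀ k, (LinearMap.proj k).lTensor A' (L.lTensor A' b') =
        (0 : A' ⊗[A] A) := fun k => by
      apply (TensorProduct.rid A A').injective
      rw [hL, map_zero]
      have := linPart_eq_zero_of_mem_kerBC F hb' (AlgHom.id A A') ((1 : A') ⊗ₜ[A] e k)
      rwa [rB_id] at this
    have hrec : ∀ v : A' ⊗[A] (Fin m → A),
        v = ∑ k, (LinearMap.single A (fun _ : Fin m => A) k).lTensor A'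
          ((LinearMap.proj k).lTensor A' v) := by
      intro v
      induction v using TensorProduct.induction_on with
      | zero => simp
      | tmul a f =>
        simp only [LinearMap.lTensor_tmul, ← TensorProduct.tmul_sum]
        congr 1
        exact (Finset.univ_sum_single f).symm
      | add u v hu hv =>
        simp only [map_add, Finset.sum_add_distrib]
        rw [← hu, ← hv]
    rw [hrec (L.lTensor A' b')]
    simp only [hz, map_zero, Finset.sum_const_zero]
  obtain ⟨u, hu⟩ := (Module.Flat.lTensor_exact A' hex b').mp h0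
  rw [← hu]
  clear hu h0 hb'
  induction u using TensorProduct.induction_on with
  | zero => simp
  | add u v hu hv => rw [map_add]; exact Ideal.add_mem _ hu hv
  | tmul a k =>
    rw [LinearMap.lTensor_tmul,
      show a ⊗ₜ[A] L₀ k = (a ⊗ₜ[A] (1 : B)) * ((1 : A') ⊗ₜ[A] (k : B)) by
        rw [Algebra.TensorProduct.tmul_mul_tmul, mul_one, one_mul]; rfl]
    exact Ideal.mul_mem_left _ _ (Ideal.mem_map_of_mem _ (hker k))

end Groth.Agent.PolLib
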