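import Groth.Agent.PolLib.Basic
import Groth.Prelude.Def_PolLaw2
import Mathlib.LinearAlgebra.TensorProduct.Prod
import Mathlib.LinearAlgebra.Determinant
import Mathlib.RingTheory.LocalRing.Module
import Mathlib.RingTheory.Spectrum.Prime.FreeLocus

/-! The determinant law of an algebra acting on a finite projective module. -/

universe u

open scoped TensorProduct

namespace Groth.Agent.PolLib

open PolLaw

variable {A : Type u} [CommRing A] {B : Type u} [CommRing B] [Algebra A B]
  {M : Type u} [AddCommGroup M] [Module A M] [Module B M] [IsScalarTower A B M]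

theorem eq_of_forall_localization {R : Type u} [CommRing R] {u v : R}
    (h : ∀ (m : Ideal R) [m.IsMaximal],
      algebraMap R (Localization.AtPrime m) u = algebraMap R (Localization.AtPrime m) v) : u = v := by
  by_contra hne
  let I : Ideal R := LinearMap.ker (LinearMap.toSpanSingleton R R (u - v))
  have hI : I ≠ ⊤ := fun hI => hne (by
    have h1 : (1 : R) ∈ I := hI ▸ Submodule.mem_top
    simpa [I, LinearMap.mem_ker, sub_eq_zero] using h1)
  obtain ⟨m, hm, hIm⟩ := Ideal.exists_le_maximal I hI
  obtain ⟨⟨c, hc⟩, hcu⟩ := (IsLocalization.eq_iff_exists m.primeCompl _).mp (h m)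
  refine hc (hIm ?_)
  simp [I, LinearMap.mem_ker, mul_sub, hcu]

theorem val_eq_of_local {F G : B →ₚₗ[A] A}
    (h : ∀ (S : Type u) [CommRing S] [IsLocalRing S] [Algebra A S] (x : S ⊗[A] B),
      F.toFun' S x = G.toFun' S x)
    (R : Type u) [CommRing R] [Algebra A R] (x : R ⊗[A] B) : F.toFun' R x = G.toFun' R x := by
  apply (TensorProduct.rid A R).injective
  refine eq_of_forall_localization fun m _ => ?_
  let ψ : R →ₐ[A] Localization.AtPrime m := IsScalarTower.toAlgHom A R _
  have hr : ∀ z : R ⊗[A] A, ψ (TensorProduct.rid A R z) =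
      TensorProduct.rid A _ (ψ.toLinearMap.rTensor A z) := by
    intro z
    induction z using TensorProduct.induction_on with
    | zero => simp
    | tmul r a => simp
    | add a b ha hb => simp [ha, hb]
  show ψ _ = ψ _
  rw [hr, hr, ← Function.comp_apply (f := ψ.toLinearMap.rTensor A), F.isCompat' ψ,
    ← Function.comp_apply (f := ψ.toLinearMap.rTensor A) (g := G.toFun' R), G.isCompat' ψ]
  exact congrArg _ (h _ _)

theorem law_ext_local {F G : B →ₚₗ[A] A}
    (h : ∀ (S : Type u) [CommRing S] [IsLocalRing S] [Algebra A S] (x : S ⊗[A] B),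
      F.toFun' S x = G.toFun' S x) : F = G :=
  law_ext fun _ p => val_eq_of_local h _ p

variable (B M) in
/-- `B × A` acting factorwise on `M × N`. -/
@[reducible] noncomputable def prodModule (N : Type u) [AddCommGroup N] [Module A N] :
    Module (B × A) (M × N) where
  smul r x := (r.1 • x.1, r.2 • x.2)
  one_smul x := Prod.ext (one_smul _ _) (one_smul _ _)
  mul_smul r r' x := Prod.ext (mul_smul _ _ _) (mul_smul _ _ _)
  smul_zero r := Prod.ext (smul_zero _) (smul_zero _)
  smul_add r x y := Prod.ext (smul_add _ _ _) (smul_add _ _ _)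
  add_smul r r' x := Prod.ext (add_smul _ _ _) (add_smul _ _ _)
  zero_smul x := Prod.ext (zero_smul _ _) (zero_smul _ _)

variable [Module.Finite A M] [Module.Projective A M]

theorem exists_det_law :
    ∃ N : B →ₚₗ[A] A, IsMult N ∧
      ∀ (S : Type u) [CommRing S] [IsLocalRing S] [Algebra A S] (x : S ⊗[A] B),
        N.toFun' S x = detAct M S x ⊗ₜ[A] (1 : A) := by
  classical
  obtain ⟨n, f, g, hf, hg, hfg⟩ := Module.Finite.exists_comp_eq_id_of_projective A M
  let K := LinearMap.ker f
  have hfg' : ∀ m, f (g m) = m := fun m => LinearMap.congr_fun hfg m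
  let e : (M × K) ≃ₗ[A] (Fin n → A) :=
  { toFun := fun p => g p.1 + p.2
    map_add' := fun p q => by simp [add_add_add_comm]
    map_smul' := fun a p => by simp
    invFun := fun v => (f v, ⟨v - g (f v), by simp [K, hfg']⟩)
    left_inv := fun p => by
      have h2 : f (p.2 : Fin n → A) = 0 := p.2.2
      refine Prod.ext ?_ (Subtype.ext ?_) <;> simp [hfg', h2]
    right_inv := fun v => by simp }
  have : Module.Free A (M × K) := Module.Free.of_equiv e.symm
  have : Module.Finite A (M × K) := Module.Finite.equiv e.symm
  have : Module.Finite A K := Module.Finite.of_surjective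
    ((LinearMap.snd A M K).comp e.symm.toLinearMap)
    (Prod.snd_surjective.comp e.symm.surjective)
  have : Module.Projective A K := Module.Projective.of_split
    (LinearMap.inr A M K) (LinearMap.snd A M K) (by ext x <;> simp)
  let _ : Module (B × A) (M × K) := prodModule B M K
  have : IsScalarTower A (B × A) (M × K) := ⟨fun a r x => Prod.ext
    (smul_assoc a r.1 x.1) (smul_assoc a r.2 x.2)⟩
  let G := detLaw (A := A) (B := B × A) (M := M × K) _ rfl
  let L : B →ₚₗ[A] A :=
  { toFun' := fun S _ _ z => G.law.toFun' S
      ((LinearMap.inl A B A).lTensor S z + (1 : S) ⊗ₜ[A] ((0, 1) : B × A))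
    isCompat' := fun {S} _ _ {S'} _ _ φ => by
      funext z
      simp only [Function.comp_apply]
      rw [rTensor_eq_rB]
      refine (ev_nat G φ _).trans ?_
      rw [map_add, rB_tmul, map_one, ← rTensor_eq_rB,
        ← LinearMap.comp_apply (LinearMap.rTensor _ _), LinearMap.rTensor_comp_lTensor,
        ← LinearMap.lTensor_comp_rTensor, LinearMap.comp_apply] }
  refine ⟨L, fun S _ _ => ⟨?_, fun x y => ?_⟩, fun S _ _ _ z => ?_⟩
  · show ev G S _ = 1
    rw [Algebra.TensorProduct.one_def, LinearMap.lTensor_tmul, ← TensorProduct.tmul_add]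
    simp [← Prod.one_eq_mk, ← Algebra.TensorProduct.one_def]
  · show ev G S _ = ev G S _ * ev G S _
    rw [← ev_mul]
    congr 1
    have h1 : ∀ z : S ⊗[A] B, (LinearMap.inl A B A).lTensor S z *
        ((1 : S) ⊗ₜ[A] ((0, 1) : B × A)) = 0 := by
      intro z
      induction z using TensorProduct.induction_on with
      | zero => simp
      | add a b ha hb => simp only [map_add, add_mul, ha, hb, add_zero]
      | tmul s b => simp [Algebra.TensorProduct.tmul_mul_tmul, Prod.mk_zero_zero]
    have h2 : ∀ x y : S ⊗[A] B, (LinearMap.inl A B A).lTensor S (x * y) =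
        (LinearMap.inl A B A).lTensor S x * (LinearMap.inl A B A).lTensor S y := by
      intro x y
      induction x using TensorProduct.induction_on with
      | zero => simp
      | add a b ha hb => simp only [add_mul, map_add, ha, hb]
      | tmul s b =>
        induction y using TensorProduct.induction_on with
        | zero => simp
        | add a b ha hb => simp only [mul_add, map_add, ha, hb]
        | tmul t c => simp [Algebra.TensorProduct.tmul_mul_tmul]
    rw [add_mul, mul_add, mul_add, h1, h2, mul_comm ((1 : S) ⊗ₜ[A] ((0, 1) : B × A)), h1,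
      Algebra.TensorProduct.tmul_mul_tmul, one_mul, Prod.mk_mul_mk, mul_zero, one_mul, add_zero,
      zero_add]
  · show detFun A (B × A) (M × K) S _ = _
    rw [detFun_eq_detAct]
    congr 1
    let E := TensorProduct.prodRight A S S M K
    have hconj : ((E : S ⊗[A] (M × K) →ₗ[S] (S ⊗[A] M) × (S ⊗[A] K)) ∘ₗ
        actEnd (M × K) S ((LinearMap.inl A B A).lTensor S z + (1 : S) ⊗ₜ[A] ((0, 1) : B × A))) ∘ₗ
        (E.symm : (S ⊗[A] M) × (S ⊗[A] K) →ₗ[S] S ⊗[A] (M × K)) =
        (actEnd M S z).prodMap LinearMap.id := by
      refine LinearMap.ext fun p => ?_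
      obtain ⟨v, rfl⟩ := E.surjective p
      simp only [LinearMap.comp_apply, LinearEquiv.coe_coe, LinearEquiv.symm_apply_apply, map_add,
        LinearMap.add_apply]
      induction v using TensorProduct.induction_on with
      | zero => simp [Prod.mk_zero_zero]
      | add a b ha hb =>
        simp only [map_add]
        rw [← ha, ← hb]
        abel
      | tmul t p =>
        obtain ⟨m, k⟩ := p
        have h2 : E (actEnd (M × K) S ((1 : S) ⊗ₜ[A] ((0, 1) : B × A)) (t ⊗ₜ[A] (m, k))) =
            (0, t ⊗ₜ[A] k) := by
          rw [actEnd_tmul_tmul, one_mul,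
            show ((0, 1) : B × A) • (m, k) = ((0 : M), k) from
              Prod.ext (zero_smul _ _) (one_smul _ _)]
          simp [E]
        have h1 : ∀ z : S ⊗[A] B,
            E (actEnd (M × K) S ((LinearMap.inl A B A).lTensor S z) (t ⊗ₜ[A] (m, k))) =
              (actEnd M S z (t ⊗ₜ[A] m), 0) := by
          intro z
          induction z using TensorProduct.induction_on with
          | zero => simp [Prod.mk_zero_zero]
          | add a b ha hb => simp only [map_add, LinearMap.add_apply, ha, hb]; simp
          | tmul s c =>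
            rw [LinearMap.lTensor_tmul, actEnd_tmul_tmul, actEnd_tmul_tmul,
              show (LinearMap.inl A B A c) • (m, k) = (c • m, (0 : K)) from
                Prod.ext rfl (zero_smul _ _)]
            simp [E]
        rw [h1, h2]
        simp [E]
    rw [detAct, ← LinearMap.det_conj _ E]
    have : Module.Free S (S ⊗[A] M) := Module.free_of_flat_of_isLocalRing
    have : Module.Free S (S ⊗[A] K) := Module.free_of_flat_of_isLocalRing
    refine (congrArg LinearMap.det hconj).trans ?_
    rw [LinearMap.det_prodMap, LinearMap.det_id, mul_one]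
    rfl

theorem detAct_smul_local (d : ℕ) (hd : ∀ p : PrimeSpectrum A, Module.rankAtStalk M p = d)
    (L : Type u) [CommRing L] [IsLocalRing L] [Algebra A L] (t : L) (y : L ⊗[A] B) :
    detAct M L (t • y) = t ^ d * detAct M L y := by
  have : Module.Free L (L ⊗[A] M) := Module.free_of_flat_of_isLocalRing
  have hrank : Module.finrank L (L ⊗[A] M) = d := by
    have h1 := congrFun (Module.rankAtStalk_eq_finrank_of_free (R := L) (M := L ⊗[A] M))
      (IsLocalRing.closedPoint L)
    rw [Module.rankAtStalk_baseChange, hd] at h1
    simpa using h1.symm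
  rw [detAct, detAct, map_smul, LinearMap.det_smul, hrank]

theorem existsUnique_det_law :
    ∃! N : B →ₚₗ[A] A, IsMult N ∧
      ∀ (S : Type u) [CommRing S] [IsLocalRing S] [Algebra A S] (x : S ⊗[A] B),
        N.toFun' S x = detAct M S x ⊗ₜ[A] (1 : A) := by
  obtain ⟨N, hm, hN⟩ := exists_det_law (A := A) (B := B) (M := M)
  exact ⟨N, ⟨hm, hN⟩, fun N' h => law_ext_local fun S _ _ _ x => (h.2 S x).trans (hN S x).symm⟩

theorem existsUnique_det_mulLaw (d : ℕ)
    (hd : ∀ p : PrimeSpectrum A, Module.rankAtStalk M p = d) :
    ∃! N : MulLaw A B A d, ∀ (S : Type u) [CommRing S] [IsLocalRing S] [Algebra A S] (x : S ⊗[A] B),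
      N.law.toFun' S x = detAct M S x ⊗ₜ[A] (1 : A) := by
  obtain ⟨N, hm, hN⟩ := exists_det_law (A := A) (B := B) (M := M)
  have hhom : IsHomog N d := by
    intro R _ _ s x
    let _ : CommRing R := RingHom.commSemiringToCommRing (algebraMap A R)
    apply (TensorProduct.rid A R).injective
    refine eq_of_forall_localization fun m _ => ?_
    let L := Localization.AtPrime m
    let ψ : R →ₐ[A] L := IsScalarTower.toAlgHom A R _
    have hr : ∀ z : R ⊗[A] A, ψ (TensorProduct.rid A R z) =
        TensorProduct.rid A L (ψ.toLinearMap.rTensor A z) := by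
      intro z
      induction z using TensorProduct.induction_on with
      | zero => simp
      | tmul r a => simp
      | add a b ha hb => simp [ha, hb]
    show ψ _ = ψ _
    have hrs : ∀ (r : R) (z : R ⊗[A] A),
        TensorProduct.rid A R (r • z) = r * TensorProduct.rid A R z := by
      intro r z
      induction z using TensorProduct.induction_on with
      | zero => simp
      | tmul t a => simp [TensorProduct.smul_tmul', mul_comm, mul_left_comm]
      | add a b ha hb => simp only [smul_add, map_add, mul_add, ha, hb]
    rw [hrs, map_mul, map_pow, hr, hr,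
      ← Function.comp_apply (f := ψ.toLinearMap.rTensor A), N.isCompat' ψ, Function.comp_apply,
      ← Function.comp_apply (f := ψ.toLinearMap.rTensor A) (g := N.toFun' R), N.isCompat' ψ,
      Function.comp_apply, rTensor_eq_rB, rTensor_eq_rB, rB_smul, hN, hN, TensorProduct.rid_tmul,
      TensorProduct.rid_tmul, one_smul, one_smul]
    exact detAct_smul_local d hd L _ _
  refine ⟨⟨N, hhom, hm⟩, hN, fun N' h => MulLaw.ext ?_⟩
  exact law_ext_local fun S _ _ _ x => (h S x).trans (hN S x).symm

end Groth.Agent.PolLib
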