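import Mathlib.RingTheory.PolynomialLaw.Basic
import Mathlib.RingTheory.MvPolynomial.Basic
import Mathlib.LinearAlgebra.TensorProduct.RightExactness
import Mathlib.LinearAlgebra.TensorProduct.Finiteness

/-! Polynomial laws are determined by, and extend from, polynomial rings in finitely many variables. -/

universe u v w

open scoped TensorProduct

namespace Groth.Agent.PolLib

open MvPolynomial

variable {A : Type u} [CommRing A] {M : Type v} [AddCommGroup M] [Module A M]
  {N : Type w} [AddCommGroup N] [Module A N]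

theorem law_ext' {F G : M →ₚₗ[A] N}
    (h : ∀ (n : ℕ) (p : MvPolynomial (Fin n) A ⊗[A] M), F.toFun' _ p = G.toFun' _ p) : F = G := by
  refine PolynomialLaw.ext (funext fun S => funext fun _ => funext fun _ => funext fun x => ?_)
  obtain ⟨n, ψ, p, rfl⟩ := PolynomialLaw.exists_lift x
  rw [← Function.comp_apply (f := F.toFun' S), ← F.isCompat' ψ,
    ← Function.comp_apply (f := G.toFun' S), ← G.isCompat' ψ, Function.comp_apply,
    Function.comp_apply, h]

theorem eq_sum_tmul {R : Type u} [CommRing R] [Algebra A R] (d : R ⊗[A] M) :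
    ∃ (l : ℕ) (k : Fin l → R) (m : Fin l → M), d = ∑ j, k j ⊗ₜ[A] m j := by
  obtain ⟨T, rfl⟩ := TensorProduct.exists_finset d
  refine ⟨T.card, fun j => (T.equivFin.symm j).1.1, fun j => (T.equivFin.symm j).1.2, ?_⟩
  exact ((T.equivFin.symm.sum_comp fun p : T => p.1.1 ⊗ₜ[A] p.1.2).trans
    (Finset.sum_coe_sort T fun p : R × M => p.1 ⊗ₜ[A] p.2)).symm

variable (T : ∀ n : ℕ, MvPolynomial (Fin n) A ⊗[A] M → MvPolynomial (Fin n) A ⊗[A] N)
  (hT : ∀ (n m : ℕ) (φ : MvPolynomial (Fin n) A →ₐ[A] MvPolynomial (Fin m) A),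
    φ.toLinearMap.rTensor N ∘ T n = T m ∘ φ.toLinearMap.rTensor M)

include hT in
theorem compat_apply {n m : ℕ} (φ : MvPolynomial (Fin n) A →ₐ[A] MvPolynomial (Fin m) A)
    (x : MvPolynomial (Fin n) A ⊗[A] M) :
    φ.toLinearMap.rTensor N (T n x) = T m (φ.toLinearMap.rTensor M x) :=
  congrFun (hT n m φ) x

include hT in
theorem family_eq_of_surjective {k : ℕ} {R : Type u} [CommRing R] [Algebra A R]
    (θ : MvPolynomial (Fin k) A →ₐ[A] R) (hθ : Function.Surjective θ)
    {a b : MvPolynomial (Fin k) A ⊗[A] M}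
    (h : θ.toLinearMap.rTensor M a = θ.toLinearMap.rTensor M b) :
    θ.toLinearMap.rTensor N (T k a) = θ.toLinearMap.rTensor N (T k b) := by
  let K := LinearMap.ker θ.toLinearMap
  have hex : Function.Exact K.subtype θ.toLinearMap := LinearMap.exact_subtype_ker_map _
  obtain ⟨z, hz⟩ := ((rTensor_exact M hex hθ) (b - a)).mp (by rw [map_sub, h, sub_self])
  obtain ⟨S, rfl⟩ := TensorProduct.exists_finset z
  let e := S.equivFin
  let l := S.card
  let kj : Fin l → MvPolynomial (Fin k) A := fun j => ((e.symm j).1.1 : K).1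
  let mj : Fin l → M := fun j => (e.symm j).1.2
  let i : MvPolynomial (Fin k) A →ₐ[A] MvPolynomial (Fin (k + l)) A :=
    MvPolynomial.rename (Fin.castAdd l)
  let e0 : MvPolynomial (Fin (k + l)) A →ₐ[A] MvPolynomial (Fin k) A :=
    MvPolynomial.aeval (Fin.append MvPolynomial.X fun _ => 0)
  let e1 : MvPolynomial (Fin (k + l)) A →ₐ[A] MvPolynomial (Fin k) A :=
    MvPolynomial.aeval (Fin.append MvPolynomial.X kj)
  let c := i.toLinearMap.rTensor M a +
    ∑ j : Fin l, (MvPolynomial.X (Fin.natAdd k j) : MvPolynomial (Fin (k + l)) A) ⊗ₜ[A] mj j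
  have hei : ∀ f : Fin l → MvPolynomial (Fin k) A,
      (MvPolynomial.aeval (Fin.append MvPolynomial.X f)).comp i = AlgHom.id A _ := fun f =>
    MvPolynomial.algHom_ext fun j => by simp [i]
  have hc0 : e0.toLinearMap.rTensor M c = a := by
    simp only [c, map_add, map_sum, LinearMap.rTensor_tmul, AlgHom.toLinearMap_apply, e0,
      MvPolynomial.aeval_X, Fin.append_right, TensorProduct.zero_tmul, Finset.sum_const_zero,
      add_zero, ← LinearMap.rTensor_comp_apply, ← AlgHom.comp_toLinearMap, hei]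
    simp
  have hc1 : e1.toLinearMap.rTensor M c = b := by
    simp only [c, map_add, map_sum, LinearMap.rTensor_tmul, AlgHom.toLinearMap_apply, e1,
      MvPolynomial.aeval_X, Fin.append_right, ← LinearMap.rTensor_comp_apply,
      ← AlgHom.comp_toLinearMap, hei]
    have : ∑ j : Fin l, kj j ⊗ₜ[A] mj j = b - a := by
      rw [← hz, map_sum]
      exact (e.symm.sum_comp fun p : S => ((p.1.1 : K).1) ⊗ₜ[A] p.1.2).trans
        (Finset.sum_coe_sort S fun p => (p.1 : K).1 ⊗ₜ[A] p.2)
    rw [this]
    simp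
  have he : θ.comp e0 = θ.comp e1 := by
    refine MvPolynomial.algHom_ext fun j => ?_
    induction j using Fin.addCases with
    | left j => simp [e0, e1]
    | right j =>
      simp only [AlgHom.comp_apply, e0, e1, MvPolynomial.aeval_X, Fin.append_right, map_zero]
      exact ((e.symm j).1.1 : K).2.symm
  rw [← hc0, ← hc1, ← compat_apply T hT e0, ← compat_apply T hT e1,
    ← LinearMap.rTensor_comp_apply, ← LinearMap.rTensor_comp_apply, ← AlgHom.comp_toLinearMap,
    ← AlgHom.comp_toLinearMap, he]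

variable {S : Type u} [CommRing S] [Algebra A S]

include hT in
theorem family_eq {k : ℕ} (θ : MvPolynomial (Fin k) A →ₐ[A] S)
    {a b : MvPolynomial (Fin k) A ⊗[A] M}
    (h : θ.toLinearMap.rTensor M a = θ.toLinearMap.rTensor M b) :
    θ.toLinearMap.rTensor N (T k a) = θ.toLinearMap.rTensor N (T k b) := by
  have hfg : θ.range.FG := by
    rw [← Algebra.map_top]
    exact Subalgebra.FG.map _ Algebra.FiniteType.out
  obtain ⟨B, hB, hfgB, hab⟩ := TensorProduct.Algebra.eq_of_fg_of_subtype_eq hfg
    (t := θ.rangeRestrict.toLinearMap.rTensor M a) (t' := θ.rangeRestrict.toLinearMap.rTensor M b)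
    (by
      rw [← LinearMap.rTensor_comp_apply, ← LinearMap.rTensor_comp_apply, ← AlgHom.comp_toLinearMap,
        AlgHom.val_comp_rangeRestrict]
      exact h)
  obtain ⟨s, hs⟩ := hfgB
  let θ' : MvPolynomial (Fin s.card) A →ₐ[A] S :=
    MvPolynomial.aeval fun j => (s.equivFin.symm j : S)
  have hr : θ'.range = B := by
    rw [← hs, ← PolynomialLaw.range_φ A s]
    rfl
  have hval : ∀ j, ∃ p, θ' p = θ (MvPolynomial.X j) := fun j => by
    have h1 : θ (MvPolynomial.X j) ∈ θ'.range := hr.symm ▸ hB ⟨_, rfl⟩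
    exact h1
  choose g hg using hval
  let G : MvPolynomial (Fin k) A →ₐ[A] MvPolynomial (Fin s.card) A := MvPolynomial.aeval g
  have hG : θ'.comp G = θ := MvPolynomial.algHom_ext fun j => by simp [G, hg]
  let π : MvPolynomial (Fin s.card) A →ₐ[A] B :=
    θ'.codRestrict B fun x => hr ▸ (⟨x, rfl⟩ : θ' x ∈ θ'.range)
  have hπ : Function.Surjective π := fun y => by
    obtain ⟨x, hx⟩ := (hr.symm ▸ y.2 : (y : S) ∈ θ'.range)
    exact ⟨x, Subtype.ext hx⟩
  have hπG : π.comp G = (Subalgebra.inclusion hB).comp θ.rangeRestrict :=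
    AlgHom.ext fun x => Subtype.ext (DFunLike.congr_fun hG x)
  have key := family_eq_of_surjective T hT π hπ (a := G.toLinearMap.rTensor M a)
    (b := G.toLinearMap.rTensor M b) (by
      simp only [← LinearMap.rTensor_comp_apply, ← AlgHom.comp_toLinearMap, hπG]
      simp only [AlgHom.comp_toLinearMap, LinearMap.rTensor_comp_apply]
      exact hab)
  rw [← compat_apply T hT G, ← compat_apply T hT G] at key
  have key' := congrArg (B.val.toLinearMap.rTensor N) key
  simp only [← LinearMap.rTensor_comp_apply, ← AlgHom.comp_toLinearMap] at key'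
  rw [← AlgHom.comp_assoc, show B.val.comp π = θ' from rfl, hG] at key'
  exact key'

include hT in
theorem family_eq₂ {n m : ℕ} (ψ : MvPolynomial (Fin n) A →ₐ[A] S)
    (χ : MvPolynomial (Fin m) A →ₐ[A] S)
    {p : MvPolynomial (Fin n) A ⊗[A] M} {q : MvPolynomial (Fin m) A ⊗[A] M}
    (h : ψ.toLinearMap.rTensor M p = χ.toLinearMap.rTensor M q) :
    ψ.toLinearMap.rTensor N (T n p) = χ.toLinearMap.rTensor N (T m q) := by
  let i : MvPolynomial (Fin n) A →ₐ[A] MvPolynomial (Fin (n + m)) A :=
    MvPolynomial.rename (Fin.castAdd m)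
  let j : MvPolynomial (Fin m) A →ₐ[A] MvPolynomial (Fin (n + m)) A :=
    MvPolynomial.rename (Fin.natAdd n)
  let θ : MvPolynomial (Fin (n + m)) A →ₐ[A] S :=
    MvPolynomial.aeval (Fin.append (fun k => ψ (MvPolynomial.X k)) fun k => χ (MvPolynomial.X k))
  have hi : θ.comp i = ψ := MvPolynomial.algHom_ext fun k => by simp [θ, i]
  have hj : θ.comp j = χ := MvPolynomial.algHom_ext fun k => by simp [θ, j]
  have key := family_eq T hT θ (a := i.toLinearMap.rTensor M p) (b := j.toLinearMap.rTensor M q)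
    (by simp only [← LinearMap.rTensor_comp_apply, ← AlgHom.comp_toLinearMap, hi, hj, h])
  rw [← compat_apply T hT i, ← compat_apply T hT j] at key
  simpa only [← LinearMap.rTensor_comp_apply, ← AlgHom.comp_toLinearMap, hi, hj] using key

include hT in
theorem exists_law : ∃ F : M →ₚₗ[A] N, ∀ n, F.toFun' (MvPolynomial (Fin n) A) = T n := by
  refine ⟨{
    toFun' := fun S _ _ z =>
      (PolynomialLaw.exists_lift z).choose_spec.choose.toLinearMap.rTensor N
        (T _ (PolynomialLaw.exists_lift z).choose_spec.choose_spec.choose)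
    isCompat' := ?_ }, fun n => funext fun z => ?_⟩
  · intro S _ _ S' _ _ φ
    funext z
    let _ : CommRing S' := RingHom.commSemiringToCommRing (algebraMap A S')
    simp only [Function.comp_apply]
    rw [← LinearMap.rTensor_comp_apply, ← AlgHom.comp_toLinearMap]
    refine family_eq₂ T hT _ _ ?_
    rw [(PolynomialLaw.exists_lift (φ.toLinearMap.rTensor M z)).choose_spec.choose_spec.choose_spec,
      AlgHom.comp_toLinearMap, LinearMap.rTensor_comp_apply,
      (PolynomialLaw.exists_lift z).choose_spec.choose_spec.choose_spec]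
  · refine (family_eq₂ T hT _ (AlgHom.id A _) (q := z) ?_).trans (by simp)
    rw [(PolynomialLaw.exists_lift z).choose_spec.choose_spec.choose_spec]
    simp

end Groth.Agent.PolLib
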