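import Groth.Agent.PolLib.Gamma
import Mathlib.LinearAlgebra.TensorProduct.Prod
import Mathlib.Algebra.Polynomial.Monic
import Mathlib.RingTheory.Polynomial.Basic

/-! Values of laws in test algebras, membership of the kernel, and Cayley–Hamilton. -/

universe u v w

open scoped TensorProduct

namespace Groth.Agent.PolLib

open PolLaw Polynomial

variable {A : Type u} [CommRing A] {B : Type u} [CommRing B] [Algebra A B]
  {C : Type u} [CommRing C] [Algebra A C] {d : ℕ} (F : MulLaw A B C d)

section Eval

variable {R R' : Type u} [CommRing R] [Algebra A R] [CommRing R'] [Algebra A R']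

/-- Evaluation of the right factor through `g`. -/
noncomputable def mu {N : Type u} [CommRing N] [Algebra A N] (g : N →ₐ[A] R) : R ⊗[A] N →ₐ[R] R :=
  Algebra.TensorProduct.lift (AlgHom.id R R) g fun _ _ => Commute.all _ _

@[simp] theorem mu_tmul {N : Type u} [CommRing N] [Algebra A N] (g : N →ₐ[A] R) (r : R) (n : N) :
    mu g (r ⊗ₜ[A] n) = r * g n := by simp [mu]

theorem mu_bc {N N' : Type u} [CommRing N] [Algebra A N] [CommRing N'] [Algebra A N']
    (f : N →ₐ[A] N') (g : N' →ₐ[A] R) (x : R ⊗[A] N) : mu g (bc f R x) = mu (g.comp f) x := by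
  induction x using TensorProduct.induction_on with
  | zero => simp
  | tmul a b => simp
  | add a b ha hb => simp [ha, hb]

theorem mu_rB {N : Type u} [CommRing N] [Algebra A N] (g : N →ₐ[A] R) (ψ : R →ₐ[A] R')
    (x : R ⊗[A] N) : mu (ψ.comp g) (rB N ψ x) = ψ (mu g x) := by
  induction x using TensorProduct.induction_on with
  | zero => simp
  | tmul a b => simp
  | add a b ha hb => simp [ha, hb]

/-- The value of a law in a test algebra receiving its target. -/
noncomputable def evl (g : C →ₐ[A] R) (x : R ⊗[A] B) : R := mu g (ev F R x)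

variable (g : C →ₐ[A] R)

theorem evl_one : evl F g 1 = 1 := by rw [evl, ev_one, map_one]

theorem evl_mul (x y : R ⊗[A] B) : evl F g (x * y) = evl F g x * evl F g y := by
  rw [evl, ev_mul, map_mul]; rfl

theorem evl_prod {κ : Type w} (t : Finset κ) (x : κ → R ⊗[A] B) :
    evl F g (∏ k ∈ t, x k) = ∏ k ∈ t, evl F g (x k) := by
  rw [evl, ev_prod, map_prod]; rfl

theorem evl_smul (r : R) (x : R ⊗[A] B) : evl F g (r • x) = r ^ d * evl F g x := by
  rw [evl, ev_smul, map_smul, smul_eq_mul]; rfl

theorem evl_scalar (r : R) : evl F g (r ⊗ₜ[A] 1) = r ^ d := by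
  rw [show r ⊗ₜ[A] (1 : B) = r • 1 by
      rw [Algebra.TensorProduct.one_def, TensorProduct.smul_tmul', smul_eq_mul, mul_one],
    evl_smul, evl_one, mul_one]

theorem evl_nat (ψ : R →ₐ[A] R') (x : R ⊗[A] B) :
    evl F (ψ.comp g) (rB B ψ x) = ψ (evl F g x) := by
  rw [evl, ← ev_nat, mu_rB]; rfl

theorem evl_nat' {g' : C →ₐ[A] R'} (ψ : R →ₐ[A] R') (h : ψ.comp g = g') (x : R ⊗[A] B) :
    evl F g' (rB B ψ x) = ψ (evl F g x) := h ▸ evl_nat F g ψ x

end Eval

section Mem

theorem exists_lift₂ (S : Type u) [CommSemiring S] [Algebra A S] (x w : S ⊗[A] B) :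
    ∃ (n : ℕ) (ψ : MvPolynomial (Fin n) A →ₐ[A] S) (x₀ w₀ : MvPolynomial (Fin n) A ⊗[A] B),
      rB B ψ x₀ = x ∧ rB B ψ w₀ = w := by
  obtain ⟨n, ψ, p, hp⟩ :=
    PolynomialLaw.exists_lift (R := A) ((TensorProduct.prodRight A A S B B).symm (x, w))
  refine ⟨n, ψ, (LinearMap.fst A B B).lTensor _ p, (LinearMap.snd A B B).lTensor _ p, ?_, ?_⟩
  all_goals
    rw [← rTensor_eq_rB, ← LinearMap.comp_apply, LinearMap.rTensor_comp_lTensor,
      ← LinearMap.lTensor_comp_rTensor, LinearMap.comp_apply, hp]
  · have : ∀ z : S ⊗[A] (B × B),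
        (TensorProduct.prodRight A A S B B z).1 = (LinearMap.fst A B B).lTensor S z := by
      intro z
      induction z using TensorProduct.induction_on with
      | zero => simp
      | tmul a b => simp
      | add a b ha hb => simp [ha, hb]
    rw [← this, LinearEquiv.apply_symm_apply]
  · have : ∀ z : S ⊗[A] (B × B),
        (TensorProduct.prodRight A A S B B z).2 = (LinearMap.snd A B B).lTensor S z := by
      intro z
      induction z using TensorProduct.induction_on with
      | zero => simp
      | tmul a b => simp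
      | add a b ha hb => simp [ha, hb]
    rw [← this, LinearEquiv.apply_symm_apply]

theorem mem_ker_iff {b : B} : b ∈ PolLaw.ker F.law ↔
    ∀ (S : Type u) [CommSemiring S] [Algebra A S] (x w : S ⊗[A] B),
      ev F S (x + w * ((1 : S) ⊗ₜ[A] b)) = ev F S x := Iff.rfl

theorem mem_ker_of_polynomial {b : B}
    (h : ∀ (n : ℕ) (x w : MvPolynomial (Fin n) A ⊗[A] B),
      ev F _ (x + w * (1 ⊗ₜ[A] b)) = ev F _ x) : b ∈ PolLaw.ker F.law := by
  intro S _ _ x w
  obtain ⟨n, ψ, x₀, w₀, rfl, rfl⟩ := exists_lift₂ S x w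
  have h1 : (1 : S) ⊗ₜ[A] b = rB B ψ (1 ⊗ₜ[A] b) := by simp
  show ev F S _ = ev F S _
  rw [h1, ← map_mul, ← map_add, ← ev_nat, ← ev_nat, h]

theorem mem_ker_iff_evl {b : B} : b ∈ PolLaw.ker F.law ↔
    ∀ (R : Type u) [CommRing R] [Algebra A R] (g : C →ₐ[A] R) (x w : R ⊗[A] B),
      evl F g (x + w * ((1 : R) ⊗ₜ[A] b)) = evl F g x := by
  constructor
  · intro h R _ _ g x w
    exact congrArg (mu g) (h R x w)
  · intro h
    refine mem_ker_of_polynomial F fun n x w => ?_
    let ι : MvPolynomial (Fin n) A →ₐ[A] MvPolynomial (Fin n) A ⊗[A] C :=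
      Algebra.TensorProduct.includeLeft
    have key : ∀ z, evl F Algebra.TensorProduct.includeRight (rB B ι z) = ev F _ z := by
      intro z
      rw [evl, ← ev_nat]
      generalize ev F _ z = v
      induction v using TensorProduct.induction_on with
      | zero => simp
      | tmul a b => simp [ι]
      | add a b ha hb => simp [ha, hb]
    rw [← key, ← key x, map_add, map_mul, rB_tmul, map_one]
    exact h _ _ _ _

theorem evl_add_of_mem_ker {b : B} (hb : b ∈ PolLaw.ker F.law)
    {R : Type u} [CommRing R] [Algebra A R] (g : C →ₐ[A] R) (x w : R ⊗[A] B) :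
    evl F g (x + w * ((1 : R) ⊗ₜ[A] b)) = evl F g x :=
  (mem_ker_iff_evl F).mp hb R g x w

theorem evl_eq_of_mem_map_ker {R : Type u} [CommRing R] [Algebra A R] (g : C →ₐ[A] R)
    {y : R ⊗[A] B} (hy : y ∈ (PolLaw.ker F.law).map
      (Algebra.TensorProduct.includeRight : B →ₐ[A] R ⊗[A] B)) (x : R ⊗[A] B) :
    evl F g (x + y) = evl F g x := by
  suffices h : ∀ a w, evl F g (a + w * y) = evl F g a by simpa using h x 1
  induction hy using Submodule.span_induction with
  | mem z hz =>
    obtain ⟨b, hb, rfl⟩ := hz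
    exact fun a w => evl_add_of_mem_ker F hb g a w
  | zero => simp
  | add u v _ _ hu hv => intro a w; rw [mul_add, ← add_assoc, hv, hu]
  | smul c u _ hu => intro a w; rw [smul_eq_mul, ← mul_assoc]; exact hu a _

theorem map_ker_le_kerBC (A' : Type u) [CommRing A'] [Algebra A A'] :
    (PolLaw.ker F.law).map (Algebra.TensorProduct.includeRight : B →ₐ[A] A' ⊗[A] B) ≤
      PolLaw.kerBC F.law A' := by
  rw [Ideal.map_le_iff_le_comap]
  intro b hb R _ _ _ _ x w
  rw [Algebra.TensorProduct.includeRight_apply, Algebra.TensorProduct.map_tmul, map_one]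
  exact hb R x w

theorem mem_kerBC_of_evl {A' : Type u} [CommRing A'] [Algebra A A'] {b' : A' ⊗[A] B}
    (h : ∀ (R : Type u) [CommRing R] [Algebra A R] (i : A' →ₐ[A] R) (g : C →ₐ[A] R)
      (x w : R ⊗[A] B), evl F g (x + w * rB B i b') = evl F g x) :
    b' ∈ PolLaw.kerBC F.law A' := by
  intro R _ _ _ _ x w
  let _ : CommRing R := RingHom.commSemiringToCommRing (algebraMap A R)
  let ι : R →ₐ[A] R ⊗[A] C := Algebra.TensorProduct.includeLeft
  have key : ∀ z, evl F Algebra.TensorProduct.includeRight (rB B ι z) = ev F R z := by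
    intro z
    rw [evl, ← ev_nat]
    generalize ev F R z = v
    induction v using TensorProduct.induction_on with
    | zero => simp
    | tmul a b => simp [ι]
    | add a b ha hb => simp [ha, hb]
  show ev F R (x + w * rB B (IsScalarTower.toAlgHom A A' R) b') = ev F R x
  rw [← key, ← key x, map_add, map_mul, rB_rB]
  exact h _ _ _ _ _

theorem evl_add_of_mem_kerBC {A' : Type u} [CommRing A'] [Algebra A A'] {b' : A' ⊗[A] B}
    (hb : b' ∈ PolLaw.kerBC F.law A') {R : Type u} [CommRing R] [Algebra A R]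
    (i : A' →ₐ[A] R) (g : C →ₐ[A] R) (x w : R ⊗[A] B) :
    evl F g (x + w * rB B i b') = evl F g x := by
  let _ := i.toRingHom.toAlgebra
  have : IsScalarTower A A' R := IsScalarTower.of_algHom i
  have hi : IsScalarTower.toAlgHom A A' R = i := AlgHom.ext fun _ => rfl
  have := hb R x w
  rw [hi] at this
  exact congrArg (mu g) this

end Mem

section CH

variable {R : Type u} [CommRing R] [Algebra A R] (g : C →ₐ[A] R)

/-- `g` followed by the inclusion of constants. -/
noncomputable def gX : C →ₐ[A] R[X] := (IsScalarTower.toAlgHom A R R[X]).comp g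

/-- The characteristic polynomial `N(β - X)` of `β : R ⊗ B`. -/
noncomputable def charX (β : R ⊗[A] B) : R[X] :=
  evl F (gX g) (rB B (IsScalarTower.toAlgHom A R R[X]) β - (X : R[X]) ⊗ₜ[A] (1 : B))

theorem rB_aeval {R' : Type u} [CommRing R'] [Algebra A R'] (ψ : R →ₐ[A] R') (p : R[X])
    (z : R ⊗[A] B) : rB B ψ (aeval z p) = aeval (rB B ψ z) (p.map ψ.toRingHom) := by
  induction p using Polynomial.induction_on' with
  | add p q hp hq => simp [hp, hq]
  | monomial n a =>
    simp only [aeval_monomial, map_mul, map_pow, map_monomial]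
    congr 1

theorem charX_lift (φ : MvPolynomial B A →ₐ[A] B) (z : R ⊗[A] MvPolynomial B A) :
    charX F g (bc φ R z) =
      evl (MulLaw.precomp F φ) (gX g)
        (rB (MvPolynomial B A) (IsScalarTower.toAlgHom A R R[X]) z - (X : R[X]) ⊗ₜ[A] 1) := by
  rw [charX, evl, evl, ev_precomp, map_sub, bc_rB, bc_tmul, map_one]

theorem negOnePow_mul_prod {W : Type u} [CommRing W] (w : Fin d → W) :
    (-1) ^ d * ∏ j, (Polynomial.C (w j) - X) = ∏ j, (X - Polynomial.C (w j)) := by
  rw [← Fin.prod_const, ← Finset.prod_mul_distrib]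
  exact Finset.prod_congr rfl fun j _ => by ring

section Universal

variable {P : Type u} [CommRing P] [Algebra A P] (R) (d)

/-- The inclusion of `R ⊗ TS^d` into `R ⊗ P^{⊗ d}`. -/
noncomputable abbrev vS : R ⊗[A] SymTen.TS A P d →ₐ[A] R ⊗[A] (⨂[A] _ : Fin d, P) :=
  (bc (SymTen.TS A P d).val R).restrictScalars A

/-- Evaluation at the `i`-th factor. -/
noncomputable def prS (i : Fin d) :
    (R ⊗[A] SymTen.TS A P d) ⊗[A] P →ₐ[A] R ⊗[A] (⨂[A] _ : Fin d, P) :=
  Algebra.TensorProduct.lift ((vS (A := A) (P := P) d R)) ((Algebra.TensorProduct.includeRight).comp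
    (PiTensorProduct.singleAlgHom (R := A) (A := fun _ : Fin d => P) i)) fun _ _ => Commute.all _ _

/-- A polynomial times a symmetric tensor, as a polynomial. -/
noncomputable def phiS : R[X] ⊗[A] SymTen.TS A P d →ₐ[A] (R ⊗[A] SymTen.TS A P d)[X] :=
  (Algebra.TensorProduct.productMap (S := (R ⊗[A] SymTen.TS A P d)[X])
    (Polynomial.mapAlgHom (Algebra.TensorProduct.includeLeft : R →ₐ[A] R ⊗[A] SymTen.TS A P d))
    ((IsScalarTower.toAlgHom A (R ⊗[A] SymTen.TS A P d) _).comp Algebra.TensorProduct.includeRight) :)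

/-- The same for all tensors. -/
noncomputable def psiS :
    R[X] ⊗[A] (⨂[A] _ : Fin d, P) →ₐ[A] (R ⊗[A] (⨂[A] _ : Fin d, P))[X] :=
  (Algebra.TensorProduct.productMap (S := (R ⊗[A] (⨂[A] _ : Fin d, P))[X])
    (Polynomial.mapAlgHom (Algebra.TensorProduct.includeLeft : R →ₐ[A] R ⊗[A] (⨂[A] _ : Fin d, P)))
    ((IsScalarTower.toAlgHom A (R ⊗[A] (⨂[A] _ : Fin d, P)) _).comp
      Algebra.TensorProduct.includeRight) :)

variable {R d} {κ : Type u} (b : Module.Basis κ A P)

/-- The universal characteristic polynomial. -/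
noncomputable def univE (β' : R ⊗[A] P) : (R ⊗[A] SymTen.TS A P d)[X] :=
  (phiS (A := A) (P := P) d R) (ev (tau d b) R[X]
    (rB P (IsScalarTower.toAlgHom A R R[X]) β' - (X : R[X]) ⊗ₜ[A] 1))

theorem vS_mu_tau (y : (R ⊗[A] SymTen.TS A P d) ⊗[A] P) :
    (vS (A := A) (P := P) d R) (mu Algebra.TensorProduct.includeRight (ev (tau d b) _ y)) = ∏ j, (prS (A := A) (P := P) d R) j y := by
  let m : (R ⊗[A] SymTen.TS A P d) ⊗[A] (⨂[A] _ : Fin d, P) →ₐ[A] R ⊗[A] (⨂[A] _ : Fin d, P) :=
    Algebra.TensorProduct.lift ((vS (A := A) (P := P) d R)) Algebra.TensorProduct.includeRight fun _ _ => Commute.all _ _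
  have h1 : ∀ z, (vS (A := A) (P := P) d R) (mu Algebra.TensorProduct.includeRight z) =
      m (bc (SymTen.TS A P d).val _ z) := by
    intro z
    induction z using TensorProduct.induction_on with
    | zero => simp
    | tmul s t => simp [m, vS, Algebra.TensorProduct.lift_tmul]
    | add a b ha hb => simp only [map_add, ha, hb]
  rw [h1, val_tau, SymTen.tpowLaw, MulLaw.prodMap_toFun']
  have hm : ∀ (t : Finset (Fin d)) (f : Fin d →
      (R ⊗[A] SymTen.TS A P d) ⊗[A] (⨂[A] _ : Fin d, P)),
      m (∏ j ∈ t, f j) = ∏ j ∈ t, m (f j) := by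
    intro t f
    induction t using Finset.cons_induction with
    | empty => simp only [Finset.prod_empty]; exact m.map_one'
    | cons j t hj ih =>
      rw [Finset.prod_cons, Finset.prod_cons, ← ih]
      exact m.map_mul' _ _
  rw [hm]
  refine Finset.prod_congr rfl fun j _ => ?_
  induction y using TensorProduct.induction_on with
  | zero => simp
  | tmul s t => simp [m, prS]
  | add a b ha hb => simp only [map_add, ha, hb]

theorem univE_map (β' : R ⊗[A] P) :
    (univE (A := A) (R := R) (d := d) b β').map ((vS (A := A) (P := P) d R)).toRingHom =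
      ∏ j, (Polynomial.C ((prS (A := A) (P := P) d R) j (rB P Algebra.TensorProduct.includeLeft β')) - X) := by
  have h1 : ∀ z : R[X] ⊗[A] SymTen.TS A P d, ((phiS (A := A) (P := P) d R) z).map ((vS (A := A) (P := P) d R)).toRingHom =
      (psiS (A := A) (P := P) d R) (bc (SymTen.TS A P d).val R[X] z) := by
    intro z
    induction z using TensorProduct.induction_on with
    | zero => simp
    | add a b ha hb => simp only [map_add, Polynomial.map_add, ha, hb]
    | tmul p t =>
      induction p using Polynomial.induction_on' with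
      | add p q hp hq => simp only [TensorProduct.add_tmul, map_add, Polynomial.map_add, hp, hq]
      | monomial n a => simp [phiS, psiS, vS, Algebra.TensorProduct.lift_tmul]
  rw [univE, h1, val_tau, SymTen.tpowLaw, MulLaw.prodMap_toFun', map_prod]
  refine Finset.prod_congr rfl fun j _ => ?_
  rw [map_sub, map_sub, Algebra.TensorProduct.map_tmul, map_one]
  congr 1
  · induction β' using TensorProduct.induction_on with
    | zero => simp
    | add a b ha hb => simp only [map_add, ha, hb]
    | tmul r p =>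
      simp [psiS, prS, vS, Algebra.TensorProduct.lift_tmul, ← Polynomial.C_mul]
  · simp [psiS, ← Algebra.TensorProduct.one_def]

end Universal

/-- Cayley–Hamilton for multiplicative laws, with the shape of the characteristic polynomial. -/
theorem evl_cayleyHamilton_and_monic (β : R ⊗[A] B) :
    (∀ x w : R ⊗[A] B, evl F g (x + w * aeval β (charX F g β)) = evl F g x) ∧
      ((-1) ^ d * charX F g β).Monic ∧
      (Nontrivial R → ((-1) ^ d * charX F g β).natDegree = d) := by
  classical
  let b := MvPolynomial.basisMonomials B A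
  let φ := classHom d b (MulLaw.precomp F (cover A B))
  let ψ : R ⊗[A] SymTen.TS A (MvPolynomial B A) d →ₐ[A] R :=
    (mu (g.comp φ)).restrictScalars A
  let ι : R →ₐ[A] R ⊗[A] SymTen.TS A (MvPolynomial B A) d := Algebra.TensorProduct.includeLeft
  let iT : SymTen.TS A (MvPolynomial B A) d →ₐ[A] R ⊗[A] SymTen.TS A (MvPolynomial B A) d :=
    Algebra.TensorProduct.includeRight
  have hv : Function.Injective (vS (A := A) (P := MvPolynomial B A) d R) :=
    retr_lTensor_injective b R
  have hψι : ψ.comp ι = AlgHom.id A R := AlgHom.ext fun r => by simp [ψ, ι]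
  have hψT : ψ.comp iT = g.comp φ := AlgHom.ext fun t => by simp [ψ, iT]
  have hψS : ∀ y, ψ (mu iT (ev (tau d b) _ y)) =
      evl F g (bc (cover A B) R (rB (MvPolynomial B A) ψ y)) := by
    intro y
    rw [← mu_rB iT ψ, hψT, ev_nat, ← mu_bc φ g, classHom_tau, ev_precomp]
    rfl
  have hround : ∀ z : R ⊗[A] MvPolynomial B A,
      rB (MvPolynomial B A) ψ (rB (MvPolynomial B A) ι z) = z := fun z => by
    rw [rB_rB, hψι, rB_id]
  obtain ⟨β', rfl⟩ := bc_surjective (S := R) (cover_surjective A B) β
  let E := univE (d := d) b β'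
  have hEψ : E.map ψ.toRingHom = charX F g (bc (cover A B) R β') := by
    rw [charX_lift, evl, ← classHom_tau d b (MulLaw.precomp F (cover A B)), mu_bc]
    show ((phiS (A := A) (P := MvPolynomial B A) d R) _).map ψ.toRingHom = mu ((gX g).comp φ) _
    generalize ev (tau d b) R[X] _ = z
    induction z using TensorProduct.induction_on with
    | zero => simp
    | add a b ha hb => simp only [map_add, Polynomial.map_add, ha, hb]
    | tmul p t =>
      have h1 : ψ (iT t) = g (φ t) := DFunLike.congr_fun hψT t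
      have h2 : ∀ r, ψ (ι r) = r := DFunLike.congr_fun hψι
      induction p using Polynomial.induction_on' with
      | add p q hp hq => simp only [TensorProduct.add_tmul, map_add, Polynomial.map_add, hp, hq]
      | monomial n a =>
        simp [phiS, gX, ψ, Algebra.TensorProduct.lift_tmul, Polynomial.monomial_mul_C]
  have hEv := univE_map (d := d) b β'
  have hmonicW : ((-1) ^ d * E).map ((vS (A := A) (P := MvPolynomial B A) d R)).toRingHom =
      ∏ j, (X - Polynomial.C ((prS (A := A) (P := MvPolynomial B A) d R) j (rB (MvPolynomial B A) ι β'))) := by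
    rw [Polynomial.map_mul, hEv, Polynomial.map_pow, Polynomial.map_neg, Polynomial.map_one]
    exact negOnePow_mul_prod _
  have hmonE : ((-1) ^ d * E).Monic :=
    Polynomial.monic_of_injective hv (hmonicW ▸ monic_prod_of_monic _ _ fun i _ => monic_X_sub_C _)
  have hchar : ((-1) ^ d * E).map ψ.toRingHom =
      (-1) ^ d * charX F g (bc (cover A B) R β') := by
    rw [Polynomial.map_mul, hEψ, Polynomial.map_pow, Polynomial.map_neg, Polynomial.map_one]
  refine ⟨fun x w => ?_, hchar ▸ hmonE.map _, fun hR => ?_⟩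
  · obtain ⟨x', rfl⟩ := bc_surjective (S := R) (cover_surjective A B) x
    obtain ⟨w', rfl⟩ := bc_surjective (S := R) (cover_surjective A B) w
    let β₁ := rB (MvPolynomial B A) ι β'
    let y := rB (MvPolynomial B A) ι x' + rB (MvPolynomial B A) ι w' * aeval β₁ E
    have h0 : ∀ j, (prS (A := A) (P := MvPolynomial B A) d R) j y = (prS (A := A) (P := MvPolynomial B A) d R) j (rB _ ι x') := by
      intro j
      have : (prS (A := A) (P := MvPolynomial B A) d R) j (aeval β₁ E) = 0 := by
        rw [aeval_def]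
        show ((prS (A := A) (P := MvPolynomial B A) d R) j).toRingHom _ = 0
        rw [Polynomial.hom_eval₂]
        have hc : ((prS (A := A) (P := MvPolynomial B A) d R) j).toRingHom.comp (algebraMap (R ⊗[A] SymTen.TS A (MvPolynomial B A) d)
            ((R ⊗[A] SymTen.TS A (MvPolynomial B A) d) ⊗[A] MvPolynomial B A)) =
            ((vS (A := A) (P := MvPolynomial B A) d R)).toRingHom :=
          RingHom.ext fun s => by
            simp [prS, Algebra.TensorProduct.algebraMap_apply, ← PiTensorProduct.one_def,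
              ← Algebra.TensorProduct.one_def]
        rw [hc, ← Polynomial.eval_map, hEv, eval_prod]
        exact Finset.prod_eq_zero (Finset.mem_univ j) (by simp [ι, β₁])
      simp only [y]
      rw [map_add, map_mul, this, mul_zero, add_zero]
    have hm : mu iT (ev (tau d b) _ y) = mu iT (ev (tau d b) _ (rB _ ι x')) :=
      hv (by
        rw [vS_mu_tau b, vS_mu_tau b]
        exact Finset.prod_congr rfl fun j _ => h0 j)
    have h2 := congrArg ψ hm
    simp only [y, β₁] at h2
    rw [hψS, hψS, hround, map_add, map_mul, hround, rB_aeval, hround, hEψ, map_add,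
      map_mul] at h2
    rw [← h2]
    congr 3
    rw [hround, Polynomial.aeval_algHom_apply]
  · have := RingHom.domain_nontrivial ψ.toRingHom
    have : Nontrivial (R ⊗[A] (⨂[A] _ : Fin d, MvPolynomial B A)) := hv.nontrivial
    rw [← hchar, hmonE.natDegree_map, ← hmonE.natDegree_map ((vS (A := A) (P := MvPolynomial B A) d R)).toRingHom, hmonicW,
      natDegree_prod_of_monic _ _ fun i _ => monic_X_sub_C _]
    simp

theorem evl_cayleyHamilton (β x w : R ⊗[A] B) :
    evl F g (x + w * aeval β (charX F g β)) = evl F g x :=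
  (evl_cayleyHamilton_and_monic F g β).1 x w

theorem monic_charX (β : R ⊗[A] B) : ((-1) ^ d * charX F g β).Monic :=
  (evl_cayleyHamilton_and_monic F g β).2.1

theorem charX_nat {R' : Type u} [CommRing R'] [Algebra A R'] (ψ : R →ₐ[A] R') {g' : C →ₐ[A] R'}
    (h : ψ.comp g = g') (β : R ⊗[A] B) :
    charX F g' (rB B ψ β) = (charX F g β).map ψ.toRingHom := by
  rw [charX, charX, ← Polynomial.coe_mapRingHom]
  have hX : (Polynomial.mapAlgHom ψ).comp (gX g) = gX g' := by
    subst h
    exact AlgHom.ext fun c => by simp [gX]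
  have h2 := evl_nat' F (gX g) (Polynomial.mapAlgHom ψ) hX
    (rB B (IsScalarTower.toAlgHom A R R[X]) β - (X : R[X]) ⊗ₜ[A] 1)
  have h3 : (Polynomial.mapAlgHom ψ).comp (IsScalarTower.toAlgHom A R R[X]) =
      (IsScalarTower.toAlgHom A R' R'[X]).comp ψ := AlgHom.ext fun r => by simp
  rw [map_sub, rB_tmul, rB_rB, h3, ← rB_rB] at h2
  simp only [Polynomial.coe_mapAlgHom, Polynomial.map_X] at h2
  exact h2

theorem charX_of_mem_kerBC {A' : Type u} [CommRing A'] [Algebra A A'] {b' : A' ⊗[A] B}
    (hb : b' ∈ PolLaw.kerBC F.law A') (i : A' →ₐ[A] R) :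
    charX F g (rB B i b') = (-X) ^ d := by
  rw [charX, rB_rB, sub_eq_add_neg, add_comm, ← one_mul (rB B _ b'),
    evl_add_of_mem_kerBC F hb, ← TensorProduct.neg_tmul, evl_scalar]

end CH

end Groth.Agent.PolLib
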