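import Groth.Agent.PolLib.Basic
import Groth.Agent.PolLib.Extend
import Groth.Agent.PolLib.Ker
import Groth.Agent.S4429
import Groth.Agent.Jacobson.FppfDescent
import Groth.Prelude.Def_PolLaw2
import Mathlib.RingTheory.Localization.FractionRing
import Mathlib.RingTheory.MvPolynomial.Localization
import Mathlib.LinearAlgebra.Charpoly.ToMatrix
import Mathlib.RingTheory.Polynomial.UniqueFactorization

/-! The determinant law of a finite module over an integrally closed domain. -/

universe u

open scoped TensorProduct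

namespace Groth.Agent.PolLib

open PolLaw

variable {A B M : Type u} [CommRing A] [CommRing B] [Algebra A B] [AddCommGroup M] [Module A M] [Module B M]
  [IsScalarTower A B M] [Module.Finite A M]

variable (M) in
/-- Determinant of the action of `x : R ⊗ B` on `R ⊗ M`. -/
noncomputable def detAct (R : Type u) [CommRing R] [Algebra A R] (x : R ⊗[A] B) : R :=
  LinearMap.det (actEnd M R x)

theorem detAct_mul (R : Type u) [CommRing R] [Algebra A R] (x y : R ⊗[A] B) :
    detAct M R (x * y) = detAct M R x * detAct M R y := by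
  simp only [detAct, map_mul]

theorem detAct_one (R : Type u) [CommRing R] [Algebra A R] : detAct M R (1 : R ⊗[A] B) = 1 := by
  simp only [detAct, map_one]

section FieldBase

variable (M)
variable (K : Type u) [Field K] [Algebra A K] (R : Type u) [CommRing R] [Algebra A R] [Algebra K R] [IsScalarTower A K R]

/-- The basis of `R ⊗ M` coming from one of `K ⊗ M`. -/
noncomputable def genBasis : Module.Basis (Fin (Module.finrank K (K ⊗[A] M))) R (R ⊗[A] M) :=
  (Algebra.TensorProduct.basis R (Module.finBasis K (K ⊗[A] M))).map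
    (TensorProduct.AlgebraTensorModule.cancelBaseChange A K R R M)

theorem genBasis_apply (i : Fin (Module.finrank K (K ⊗[A] M))) :
    genBasis M K R i = ((IsScalarTower.toAlgHom A K R).toLinearMap.rTensor M) (Module.finBasis K (K ⊗[A] M) i) := by
  rw [genBasis, Module.Basis.map_apply, Algebra.TensorProduct.basis_apply]
  generalize Module.finBasis K (K ⊗[A] M) i = z
  induction z using TensorProduct.induction_on with
  | zero => simp
  | tmul k m =>
    rw [TensorProduct.AlgebraTensorModule.cancelBaseChange_tmul, LinearMap.rTensor_tmul]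
    simp [Algebra.smul_def]
  | add a b ha hb => rw [TensorProduct.tmul_add, map_add, map_add, ha, hb]

variable {K R}

variable (K) in
theorem detAct_smul (r : R) (x : R ⊗[A] B) :
    detAct M R (r • x) = r ^ Module.finrank K (K ⊗[A] M) * detAct M R x := by
  classical
  haveI : Module.Free R (R ⊗[A] M) := .of_basis (genBasis M K R)
  rw [detAct, map_smul, LinearMap.det_smul, ← detAct]
  rcases subsingleton_or_nontrivial R with h | h
  · exact Subsingleton.elim _ _
  · rw [Module.finrank_eq_card_basis (genBasis M K R), Fintype.card_fin]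

theorem det_map {R' : Type u} [CommRing R'] [Algebra A R'] [Algebra K R'] [IsScalarTower A K R']
    (ψ : R →ₐ[A] R') (hψ : ψ.comp (IsScalarTower.toAlgHom A K R) = IsScalarTower.toAlgHom A K R') (x : R ⊗[A] B) :
    detAct M R' (rB B ψ x) = ψ (detAct M R x) := by
  classical
  unfold detAct
  rw [← LinearMap.det_toMatrix (genBasis M K R'), ← LinearMap.det_toMatrix (genBasis M K R), AlgHom.map_det]
  congr 1
  ext i j
  simp only [AlgHom.mapMatrix_apply, Matrix.map_apply, LinearMap.toMatrix_apply]
  have hb : ∀ i, ψ.toLinearMap.rTensor M (genBasis M K R i) = genBasis M K R' i := fun i => by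
    rw [genBasis_apply, genBasis_apply, ← LinearMap.rTensor_comp_apply, ← AlgHom.comp_toLinearMap, hψ]
  have hsmul : ∀ (r : R) (z : R ⊗[A] M), ψ.toLinearMap.rTensor M (r • z) = ψ r • ψ.toLinearMap.rTensor M z := by
    intro r z
    induction z using TensorProduct.induction_on with
    | zero => simp
    | tmul s m => simp [TensorProduct.smul_tmul']
    | add a b ha hb => simp only [smul_add, map_add, ha, hb]
  rw [← hb, show rB B ψ x = Algebra.TensorProduct.map ψ (AlgHom.id A B) x from rfl, ← rTensor_actEnd M ψ x]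
  conv_lhs => rw [← (genBasis M K R).sum_repr (actEnd M R x (genBasis M K R j)), map_sum]
  simp only [hsmul, hb, Module.Basis.repr_sum_self]

end FieldBase

section Normal

variable [IsDomain A] [IsIntegrallyClosed A] {d : ℕ}
variable (hd : Module.finrank (FractionRing A) (FractionRing A ⊗[A] M) = d)

local notation "K" => FractionRing A
local notation "P" n => MvPolynomial (Fin n) A
local notation "Q" n => MvPolynomial (Fin n) (FractionRing A)
local notation "L" n => FractionRing (MvPolynomial (Fin n) A)

theorem exists_det_value (n : ℕ) (x : (P n) ⊗[A] B) :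
    ∃ a : P n, algebraMap (P n) (L n) a =
      LinearMap.det (actEnd M (L n) (rB B (IsScalarTower.toAlgHom A (P n) (L n)) x)) := by
  have := Jacobson.isIntegrallyClosed_mvPolynomial A n
  let E := TensorProduct.AlgebraTensorModule.cancelBaseChange A (P n) (L n) (L n) M
  let f := actEnd M (P n) x
  have hconj : ((E : _ →ₗ[L n] _) ∘ₗ f.baseChange (L n)) ∘ₗ (E.symm : _ →ₗ[L n] _) =
      actEnd M (L n) (rB B (IsScalarTower.toAlgHom A (P n) (L n)) x) := by
    refine LinearMap.ext fun v => ?_
    obtain ⟨v, rfl⟩ := E.surjective v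
    simp only [LinearMap.comp_apply, LinearEquiv.coe_coe, LinearEquiv.symm_apply_apply]
    induction v using TensorProduct.induction_on with
    | zero => simp
    | add a b ha hb => simp only [map_add, ha, hb]
    | tmul l w =>
      rw [LinearMap.baseChange_tmul]
      induction w using TensorProduct.induction_on with
      | zero => simp
      | add a b ha hb => simp only [map_add, TensorProduct.tmul_add, ha, hb]
      | tmul p m =>
        show E (l ⊗ₜ[P n] actEnd M (P n) x (p ⊗ₜ[A] m)) = _
        rw [TensorProduct.AlgebraTensorModule.cancelBaseChange_tmul]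
        induction x using TensorProduct.induction_on with
        | zero => simp
        | add a b ha hb => simp only [map_add, LinearMap.add_apply, TensorProduct.tmul_add, ha, hb]
        | tmul q b =>
          rw [actEnd_tmul_tmul, rB_tmul, actEnd_tmul_tmul, TensorProduct.AlgebraTensorModule.cancelBaseChange_tmul]
          congr 1
          simp [Algebra.smul_def, mul_assoc, mul_comm, mul_left_comm]
  have hint := S4429.result (P n) (L n) ((P n) ⊗[A] M) f 0
  obtain ⟨a, ha⟩ := IsIntegrallyClosed.isIntegral_iff.1 hint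
  refine ⟨(-1) ^ (Module.finrank (L n) ((L n) ⊗[P n] ((P n) ⊗[A] M))) * a, ?_⟩
  rw [map_mul, map_pow, map_neg, map_one, ha, ← LinearMap.det_eq_sign_charpoly_coeff, ← hconj, LinearMap.comp_assoc,
    LinearMap.det_conj]

include hd in
theorem exists_det_mulLaw_normal :
    ∃! N : MulLaw A B A d, ∀ (n : ℕ) (x : (P n) ⊗[A] B),
      algebraMap (P n) (L n) (TensorProduct.rid A (P n) (N.law.toFun' (P n) x)) =
        LinearMap.det (actEnd M (L n) (rB B (IsScalarTower.toAlgHom A (P n) (L n)) x)) := by
  classical
  letI : ∀ n, Algebra K (L n) := fun n => FractionRing.liftAlgebra A (L n)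
  haveI : ∀ n, IsScalarTower A K (L n) := fun n => FractionRing.isScalarTower_liftAlgebra A (L n)
  let j : ∀ n, (Q n) →ₐ[A] (L n) := fun n =>
    (MvPolynomial.aeval fun i => algebraMap (P n) (L n) (MvPolynomial.X i) : (Q n) →ₐ[K] (L n)).restrictScalars A
  let ι : ∀ n, (P n) →ₐ[A] (Q n) := fun n => MvPolynomial.aeval MvPolynomial.X
  have hjι : ∀ n, (j n).comp (ι n) = IsScalarTower.toAlgHom A (P n) (L n) := fun n =>
    MvPolynomial.algHom_ext fun i => by simp [j, ι]
  have hjK : ∀ n, (j n).comp (IsScalarTower.toAlgHom A K (Q n)) = IsScalarTower.toAlgHom A K (L n) := fun n =>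
    AlgHom.ext fun k => AlgHom.commutes (MvPolynomial.aeval
      (fun i => algebraMap (P n) (L n) (MvPolynomial.X i)) : (Q n) →ₐ[K] (L n)) k
  have hjinj : ∀ n, Function.Injective (j n) := fun n => by
    letI : Algebra (P n) (Q n) := (MvPolynomial.map (algebraMap A K)).toAlgebra
    haveI : IsLocalization ((nonZeroDivisors A).map (MvPolynomial.C : A →+* P n)) (Q n) :=
      MvPolynomial.isLocalization (σ := Fin n) (nonZeroDivisors A) K
    refine IsLocalization.injective_of_map_algebraMap_zero (M := (nonZeroDivisors A).map (MvPolynomial.C : A →+* P n))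
      (Q n) (j n).toRingHom fun p hp => ?_
    have e : (algebraMap (P n) (Q n)) = (ι n).toRingHom := by
      refine MvPolynomial.ringHom_ext (fun a => ?_) (fun i => ?_)
      · show MvPolynomial.map (algebraMap A K) (MvPolynomial.C a) = _
        simp [ι, MvPolynomial.algebraMap_eq]
      · show MvPolynomial.map (algebraMap A K) (MvPolynomial.X i) = _
        simp [ι]
    rw [e] at hp ⊢
    have h1 : algebraMap (P n) (L n) p = 0 := (DFunLike.congr_fun (hjι n) p).symm.trans hp
    rw [IsFractionRing.injective (P n) (L n) (h1.trans (map_zero _).symm), map_zero]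
  choose T hT using fun (n : ℕ) (x : (P n) ⊗[A] B) => exists_det_value (M := M) n x
  have hTQ : ∀ n x, ι n (T n x) = detAct M (Q n) (rB B (ι n) x) := fun n x => by
    apply hjinj n
    refine Eq.trans ?_ (det_map M (j n) (hjK n) (rB B (ι n) x))
    rw [rB_rB, ← AlgHom.comp_apply, hjι]
    exact hT n x
  have hιinj : ∀ n, Function.Injective (ι n) := fun n p q h => IsFractionRing.injective (P n) (L n) (by
    have := congrArg (j n) h
    rwa [← AlgHom.comp_apply, ← AlgHom.comp_apply, hjι] at this)
  have hcompat : ∀ (n m : ℕ) (φ : (P n) →ₐ[A] (P m)) (x : (P n) ⊗[A] B), φ (T n x) = T m (rB B φ x) := by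
    intro n m φ x
    let φK : (Q n) →ₐ[A] (Q m) :=
      (MvPolynomial.aeval fun i => ι m (φ (MvPolynomial.X i)) : (Q n) →ₐ[K] (Q m)).restrictScalars A
    have h1 : φK.comp (ι n) = (ι m).comp φ := MvPolynomial.algHom_ext fun i => by simp [φK, ι]
    have h2 : φK.comp (IsScalarTower.toAlgHom A K (Q n)) = IsScalarTower.toAlgHom A K (Q m) :=
      AlgHom.ext fun k => AlgHom.commutes
        (MvPolynomial.aeval fun i => ι m (φ (MvPolynomial.X i)) : (Q n) →ₐ[K] (Q m)) k
    apply hιinj m
    rw [hTQ, rB_rB, ← h1, ← rB_rB, det_map M φK h2, ← hTQ, ← AlgHom.comp_apply, ← AlgHom.comp_apply, h1]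
  let T' : ∀ n, (P n) ⊗[A] B → (P n) ⊗[A] A := fun n x => (T n x) ⊗ₜ[A] (1 : A)
  obtain ⟨F, hF⟩ := exists_law T' fun n m φ => funext fun x => by
    show φ.toLinearMap.rTensor A (T n x ⊗ₜ[A] (1 : A)) = T m (φ.toLinearMap.rTensor B x) ⊗ₜ[A] (1 : A)
    rw [LinearMap.rTensor_tmul, rTensor_eq_rB, AlgHom.toLinearMap_apply, hcompat]
  have hFn : ∀ n x, F.toFun' (P n) x = T n x ⊗ₜ[A] (1 : A) := fun n x => congrFun (hF n) x
  have hnat : ∀ {S : Type u} [CommSemiring S] [Algebra A S] {n : ℕ} (ψ : (P n) →ₐ[A] S) (z : (P n) ⊗[A] B),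
      F.toFun' S (rB B ψ z) = ψ (T n z) ⊗ₜ[A] (1 : A) := by
    intro S _ _ n ψ z
    have h := congrFun (F.isCompat' ψ) z
    rw [Function.comp_apply, Function.comp_apply, hFn] at h
    rw [← rTensor_eq_rB, ← h, LinearMap.rTensor_tmul, AlgHom.toLinearMap_apply]
  have hTmul : ∀ n x y, T n (x * y) = T n x * T n y := fun n x y => by
    apply hιinj n
    rw [map_mul, hTQ, hTQ, hTQ, map_mul, detAct_mul]
  have hTone : ∀ n, T n 1 = 1 := fun n => by
    apply hιinj n
    rw [hTQ, map_one, detAct_one, map_one]
  have hTsmul : ∀ n (s : P n) x, T n (s • x) = s ^ d * T n x := fun n s x => by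
    apply hιinj n
    rw [map_mul, map_pow, hTQ, hTQ, rB_smul, detAct_smul M K, hd]
  have hmult : IsMult F := by
    intro S _ _
    refine ⟨?_, fun x y => ?_⟩
    · have h := hnat (S := S) (MvPolynomial.aeval (fun i : Fin 0 => i.elim0) : (P 0) →ₐ[A] S) 1
      rwa [map_one, hTone, map_one, ← Algebra.TensorProduct.one_def] at h
    · obtain ⟨n, ψ, x₀, y₀, rfl, rfl⟩ := exists_lift₂ S x y
      rw [← map_mul, hnat, hnat, hnat, hTmul, map_mul, Algebra.TensorProduct.tmul_mul_tmul, one_mul]
  have hhom : IsHomog F d := by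
    intro S _ _ s x
    obtain ⟨n, ψ, p, rfl⟩ := PolynomialLaw.exists_lift x
    let r : (P n) →ₐ[A] (P (n + 1)) := MvPolynomial.rename Fin.castSucc
    let ψ' : (P (n + 1)) →ₐ[A] S := MvPolynomial.aeval (Fin.snoc (fun i => ψ (MvPolynomial.X i)) s)
    have h1 : ψ'.comp r = ψ := MvPolynomial.algHom_ext fun i => by simp [ψ', r]
    have h2 : ψ' (MvPolynomial.X (Fin.last n)) = s := by simp [ψ']
    have h3 : s • rB B ψ p = rB B ψ' ((MvPolynomial.X (Fin.last n) : P (n + 1)) • rB B r p) := by
      rw [rB_smul, h2, rB_rB, h1]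
    rw [rTensor_eq_rB, h3, hnat, hTsmul, map_mul, map_pow, h2, ← hcompat, ← AlgHom.comp_apply ψ', h1, hnat,
      TensorProduct.smul_tmul', smul_eq_mul]
  refine ⟨⟨F, hhom, hmult⟩, fun n x => ?_, fun G hG => ?_⟩
  · show algebraMap (P n) (L n) (TensorProduct.rid A (P n) (F.toFun' (P n) x)) = _
    rw [hFn, TensorProduct.rid_tmul, one_smul]
    exact hT n x
  · refine MulLaw.ext (law_ext' fun n p => (TensorProduct.rid A (P n)).injective (IsFractionRing.injective (P n) (L n) ?_))
    rw [hG n p]
    show _ = algebraMap (P n) (L n) (TensorProduct.rid A (P n) (F.toFun' (P n) p))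
    rw [hFn, TensorProduct.rid_tmul, one_smul]
    exact (hT n p).symm

end Normal

end Groth.Agent.PolLib
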