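import Mathlib

/-! Divided powers of two variables as a test ring, and a functional detecting
`x^[q] y^[d-q]` outside the span of `d`-th divided powers over a finite field with `q < d`. -/

universe u

open scoped TensorProduct
open Finset

namespace Groth.Agent.PolLib

/-- Polynomials over `ℚ` with integral divided power coefficients. -/
noncomputable def dpLat : Subalgebra ℤ (Polynomial ℚ) where
  carrier := {P | ∀ n, ∃ z : ℤ, (n.factorial : ℚ) * P.coeff n = z}
  add_mem' := by
    intro P Q hP hQ n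
    obtain ⟨a, ha⟩ := hP n
    obtain ⟨b, hb⟩ := hQ n
    exact ⟨a + b, by rw [Polynomial.coeff_add, mul_add, ha, hb, Int.cast_add]⟩
  mul_mem' := by
    intro P Q hP hQ n
    choose a ha using hP
    choose b hb using hQ
    refine ⟨∑ x ∈ antidiagonal n, (n.choose x.1 : ℤ) * (a x.1 * b x.2), ?_⟩
    rw [Polynomial.coeff_mul, mul_sum, Int.cast_sum]
    refine sum_congr rfl fun x hx => ?_
    rw [HasAntidiagonal.mem_antidiagonal] at hx
    push_cast
    rw [← ha, ← hb]
    have h := Nat.choose_mul_factorial_mul_factorial (show x.1 ≤ n by omega)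
    rw [show n - x.1 = x.2 by omega] at h
    rw [← h]
    push_cast
    ring
  algebraMap_mem' := by
    intro z n
    refine ⟨if n = 0 then z else 0, ?_⟩
    rw [eq_intCast (algebraMap ℤ (Polynomial ℚ)) z, ← map_intCast (Polynomial.C : ℚ →+* _),
      Polynomial.coeff_C]
    split_ifs with h <;> simp [h]

/-- The divided power monomial. -/
noncomputable def dpE (i : ℕ) : dpLat :=
  ⟨Polynomial.monomial i (i.factorial : ℚ)⁻¹, fun n => by
    refine ⟨if n = i then 1 else 0, ?_⟩
    rw [Polynomial.coeff_monomial]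
    split_ifs with h h' h'
    · subst h; simp [Nat.factorial_ne_zero]
    · exact absurd h.symm h'
    · exact absurd h'.symm h
    · simp⟩

theorem dpE_zero : dpE 0 = 1 := Subtype.ext (by simp [dpE])

theorem dpE_mul (i j : ℕ) : dpE i * dpE j = (i + j).choose i • dpE (i + j) := by
  apply Subtype.ext
  simp only [dpE, MulMemClass.coe_mul, Polynomial.monomial_mul_monomial, AddSubmonoidClass.coe_nsmul,
    ← LinearMap.map_smul_of_tower]
  congr 1
  rw [nsmul_eq_mul, Nat.cast_choose ℚ (Nat.le_add_right i j), Nat.add_sub_cancel_left]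
  have := Nat.cast_ne_zero (R := ℚ).mpr (i + j).factorial_ne_zero
  field_simp

/-- The integral divided power coefficient. -/
noncomputable def dpCoeff (n : ℕ) : dpLat →ₗ[ℤ] ℤ where
  toFun P := (P.2 n).choose
  map_add' P Q := by
    apply Int.cast_injective (α := ℚ)
    rw [Int.cast_add, ← ((P + Q).2 n).choose_spec, ← (P.2 n).choose_spec, ← (Q.2 n).choose_spec,
      AddMemClass.coe_add, Polynomial.coeff_add, mul_add]
  map_smul' z P := by
    apply Int.cast_injective (α := ℚ)
    rw [RingHom.id_apply, smul_eq_mul, Int.cast_mul, ← ((z • P).2 n).choose_spec,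
      ← (P.2 n).choose_spec]
    show (n.factorial : ℚ) * (z • (P : Polynomial ℚ)).coeff n = _
    rw [Polynomial.coeff_smul, zsmul_eq_mul]
    ring

theorem dpCoeff_dpE (n i : ℕ) : dpCoeff n (dpE i) = if i = n then 1 else 0 := by
  apply Int.cast_injective (α := ℚ)
  show (((dpE i).2 n).choose : ℚ) = _
  rw [← ((dpE i).2 n).choose_spec]
  simp only [dpE, Polynomial.coeff_monomial]
  split_ifs with h
  · subst h; simp [Nat.factorial_ne_zero]
  · simp

variable (k : Type u) [CommRing k]

/-- Divided powers in one variable over `k`. -/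
abbrev DP1 : Type u := k ⊗[ℤ] dpLat

/-- Divided powers in two variables over `k`. -/
abbrev DP2 : Type u := DP1 k ⊗[k] DP1 k

/-- The divided power monomials in two variables. -/
noncomputable def dpE2 (x : ℕ × ℕ) : DP2 k := ((1 : k) ⊗ₜ dpE x.1) ⊗ₜ ((1 : k) ⊗ₜ dpE x.2)

theorem dpE2_zero : dpE2 k (0, 0) = 1 := by
  simp [dpE2, dpE_zero, Algebra.TensorProduct.one_def]

theorem dpE2_mul (x y : ℕ × ℕ) : dpE2 k x * dpE2 k y =
    ((x.1 + y.1).choose x.1 * (x.2 + y.2).choose x.2) • dpE2 k (x + y) := by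
  rw [dpE2, dpE2, dpE2, Algebra.TensorProduct.tmul_mul_tmul, Algebra.TensorProduct.tmul_mul_tmul,
    Algebra.TensorProduct.tmul_mul_tmul, dpE_mul, dpE_mul, one_mul]
  simp only [← smul_tmul_nat', TensorProduct.tmul_smul, ← TensorProduct.smul_tmul',
    Prod.fst_add, Prod.snd_add]
  exact (mul_nsmul _ _ _).symm
where
  smul_tmul_nat' {z : dpLat} {n : ℕ} : n • ((1 : k) ⊗ₜ[ℤ] z) = (1 : k) ⊗ₜ (n • z) :=
    (TensorProduct.tmul_smul _ _ _).symm

variable {k}

/-- The divided powers of a vector `(a, b)`. -/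
noncomputable def dpVec (n : ℕ) (v : k × k) : DP2 k :=
  ∑ x ∈ antidiagonal n, (v.1 ^ x.1 * v.2 ^ x.2) • dpE2 k x

theorem dpVec_zero (v : k × k) : dpVec 0 v = 1 := by simp [dpVec, dpE2_zero]

theorem dpVec_smul (n : ℕ) (r : k) (v : k × k) : dpVec n (r • v) = r ^ n • dpVec n v := by
  rw [dpVec, dpVec, Finset.smul_sum]
  refine sum_congr rfl fun x hx => ?_
  rw [HasAntidiagonal.mem_antidiagonal] at hx
  rw [smul_smul, ← hx]
  congr 1
  simp only [Prod.smul_fst, Prod.smul_snd, smul_eq_mul]
  ring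

theorem vec_mul_general {T : Type*} [CommRing T] [Algebra k T] (e : ℕ × ℕ → T)
    (he : ∀ x y, e x * e y = ((x.1 + y.1).choose x.1 * (x.2 + y.2).choose x.2) • e (x + y))
    (n p : ℕ) (v : k × k) :
    (∑ x ∈ antidiagonal n, (v.1 ^ x.1 * v.2 ^ x.2) • e x) *
        (∑ x ∈ antidiagonal p, (v.1 ^ x.1 * v.2 ^ x.2) • e x) =
      (n + p).choose n • ∑ x ∈ antidiagonal (n + p), (v.1 ^ x.1 * v.2 ^ x.2) • e x := by
  classical
  let g : ℕ × ℕ → ℕ × ℕ → T := fun I x =>
    (I.1.choose x.1 * I.2.choose x.2) • ((v.1 ^ I.1 * v.2 ^ I.2) • e I)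
  have hR : (n + p).choose n • ∑ x ∈ antidiagonal (n + p), (v.1 ^ x.1 * v.2 ^ x.2) • e x =
      ∑ z ∈ ((antidiagonal (n + p)) ×ˢ antidiagonal n).filter
        (fun z => z.2.1 ≤ z.1.1 ∧ z.2.2 ≤ z.1.2), g z.1 z.2 := by
    rw [sum_filter_of_ne (p := fun z : (ℕ × ℕ) × ℕ × ℕ => z.2.1 ≤ z.1.1 ∧ z.2.2 ≤ z.1.2)]
    swap
    · intro z _ hz
      by_contra hle
      apply hz
      rcases not_and_or.mp hle with h | h <;>
        simp [g, Nat.choose_eq_zero_of_lt (not_le.mp h)]
    rw [sum_product, Finset.smul_sum]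
    refine sum_congr rfl fun I hI => ?_
    rw [HasAntidiagonal.mem_antidiagonal] at hI
    simp only [g, ← Finset.sum_smul]
    rw [← Nat.add_choose_eq, hI]
  rw [hR, Finset.sum_mul_sum, ← sum_product']
  refine sum_nbij' (fun z => (z.1 + z.2, z.1)) (fun z => (z.2, (z.1.1 - z.2.1, z.1.2 - z.2.2)))
    ?_ ?_ ?_ ?_ ?_
  · intro z hz
    simp only [mem_coe, mem_product, HasAntidiagonal.mem_antidiagonal, mem_filter, Prod.fst_add,
      Prod.snd_add] at hz ⊢
    omega
  · intro z hz
    simp only [mem_coe, mem_product, HasAntidiagonal.mem_antidiagonal, mem_filter] at hz ⊢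
    omega
  · intro z hz
    ext <;> simp
  · intro z hz
    simp only [mem_coe, mem_filter] at hz
    ext <;> simp <;> omega
  · intro z _
    simp only [g, Prod.fst_add, Prod.snd_add, pow_add]
    rw [smul_mul_smul_comm, he, smul_comm]
    congr 2
    ring

theorem dpVec_mul (n p : ℕ) (v : k × k) :
    dpVec n v * dpVec p v = (n + p).choose n • dpVec (n + p) v :=
  vec_mul_general (dpE2 k) (dpE2_mul k) n p v

/-- The exponential series of a vector. -/
noncomputable def dpSeries (v : k × k) : PowerSeries (DP2 k) := PowerSeries.mk fun n => dpVec n v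

theorem dpSeries_eq (v : k × k) : dpSeries v =
    PowerSeries.mk (fun n => v.1 ^ n • dpE2 k (n, 0)) *
      PowerSeries.mk (fun n => v.2 ^ n • dpE2 k (0, n)) := by
  ext n
  rw [PowerSeries.coeff_mul, dpSeries, PowerSeries.coeff_mk, dpVec]
  refine sum_congr rfl fun x _ => ?_
  simp only [PowerSeries.coeff_mk, smul_mul_smul_comm, dpE2_mul]
  simp

theorem mk_add {R : Type*} [CommRing R] [Algebra k R] (e : ℕ → R)
    (he : ∀ i j, e i * e j = (i + j).choose i • e (i + j)) (a b : k) :
    PowerSeries.mk (fun n => (a + b) ^ n • e n) =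
      PowerSeries.mk (fun n => a ^ n • e n) * PowerSeries.mk (fun n => b ^ n • e n) := by
  ext n
  rw [PowerSeries.coeff_mul, PowerSeries.coeff_mk, (Commute.all a b).add_pow', Finset.sum_smul]
  refine sum_congr rfl fun x hx => ?_
  rw [HasAntidiagonal.mem_antidiagonal] at hx
  rw [PowerSeries.coeff_mk, PowerSeries.coeff_mk, smul_mul_smul_comm, he, hx, smul_comm,
    smul_assoc]

theorem dpVec_add (n : ℕ) (u v : k × k) :
    dpVec n (u + v) = ∑ x ∈ antidiagonal n, dpVec x.1 u * dpVec x.2 v := by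
  have h : dpSeries (u + v) = dpSeries u * dpSeries v := by
    rw [dpSeries_eq, dpSeries_eq, dpSeries_eq, Prod.fst_add, Prod.snd_add,
      mk_add (fun i => dpE2 k (i, 0)) (fun i j => by simp [dpE2_mul]) u.1 v.1,
      mk_add (fun i => dpE2 k (0, i)) (fun i j => by simp [dpE2_mul]) u.2 v.2]
    ring
  have := congrArg (PowerSeries.coeff n) h
  rwa [PowerSeries.coeff_mul, dpSeries, PowerSeries.coeff_mk, sum_congr rfl (fun x _ => by
    rw [dpSeries, dpSeries, PowerSeries.coeff_mk, PowerSeries.coeff_mk])] at this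

variable (k)

/-- The coefficient functional in one variable. -/
noncomputable def dp1Coeff (n : ℕ) : DP1 k →ₗ[k] k :=
  (Algebra.TensorProduct.rid ℤ k k).toLinearMap ∘ₗ (dpCoeff n).baseChange k

theorem dp1Coeff_dpE (n i : ℕ) : dp1Coeff k n ((1 : k) ⊗ₜ dpE i) = if i = n then 1 else 0 := by
  simp [dp1Coeff, dpCoeff_dpE]

/-- The coefficient functional in two variables. -/
noncomputable def dp2Coeff (x : ℕ × ℕ) : DP2 k →ₗ[k] k :=
  (TensorProduct.lid k k).toLinearMap ∘ₗ TensorProduct.map (dp1Coeff k x.1) (dp1Coeff k x.2)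

theorem dp2Coeff_dpE2 (x y : ℕ × ℕ) : dp2Coeff k x (dpE2 k y) = if y = x then 1 else 0 := by
  simp only [dp2Coeff, dpE2, LinearMap.comp_apply, LinearEquiv.coe_coe, TensorProduct.map_tmul,
    TensorProduct.lid_tmul, dp1Coeff_dpE, smul_eq_mul]
  by_cases h : y = x
  · subst h; simp
  · rw [if_neg h]
    rcases not_and_or.mp (mt Prod.ext_iff.mpr h) with h1 | h1 <;> simp [h1]

theorem dp2Coeff_dpVec (x : ℕ × ℕ) (v : k × k) :
    dp2Coeff k x (dpVec (x.1 + x.2) v) = v.1 ^ x.1 * v.2 ^ x.2 := by
  rw [dpVec, map_sum, sum_eq_single x (fun y _ hy => by simp [dp2Coeff_dpE2, hy])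
    (fun h => absurd (HasAntidiagonal.mem_antidiagonal.mpr rfl) h), map_smul, dp2Coeff_dpE2, if_pos rfl,
    smul_eq_mul, mul_one]

variable {A M : Type u} [CommRing A] [AddCommGroup M] [Module A M] [Algebra A k]

/-- The test map on the divided power algebra attached to a linear map to `k × k`. -/
noncomputable def dpTest (φ : M →ₗ[A] k × k) : DividedPowerAlgebra A M →ₐ[A] DP2 k :=
  DividedPowerAlgebra.lift' (f := fun x => dpVec x.1 (φ x.2))
    (fun m => dpVec_zero _)
    (fun n r m => by
      dsimp only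
      rw [map_smul, ← algebraMap_smul k r (φ m), dpVec_smul, ← map_pow, algebraMap_smul])
    (fun n p m => dpVec_mul n p (φ m))
    (fun n u v => by
      dsimp only
      rw [map_add, dpVec_add])

theorem dp_mul_dp_notMem_span {F : Type u} [Field F] [Finite F] [Algebra A F]
    (φ : M →ₗ[A] F × F) {x y : M} (hx : φ x = (1, 0)) (hy : φ y = (0, 1)) {d : ℕ}
    (hd : Nat.card F < d) :
    DividedPowerAlgebra.dp A (Nat.card F) x * DividedPowerAlgebra.dp A (d - Nat.card F) y ∉
      Submodule.span A (Set.range (DividedPowerAlgebra.dp A d : M → DividedPowerAlgebra A M)) := by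
  intro hmem
  set q := Nat.card F with hq
  have hq1 : 1 < q := Finite.one_lt_card
  let Λ : DP2 F →ₗ[F] F := dp2Coeff F (q, d - q) - dp2Coeff F (1, d - 1)
  let Φ : DividedPowerAlgebra A M →ₗ[A] F := (Λ.restrictScalars A) ∘ₗ (dpTest F φ).toLinearMap
  have hsp : Submodule.span A
      (Set.range (DividedPowerAlgebra.dp A d : M → DividedPowerAlgebra A M)) ≤
        LinearMap.ker Φ := by
    rw [Submodule.span_le, Set.range_subset_iff]
    intro m
    simp only [SetLike.mem_coe, LinearMap.mem_ker, Φ, LinearMap.comp_apply,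
      LinearMap.restrictScalars_apply, AlgHom.toLinearMap_apply, dpTest,
      DividedPowerAlgebra.lift'_apply_dp, Λ, LinearMap.sub_apply]
    have h1 := dp2Coeff_dpVec F (q, d - q) (φ m)
    have h2 := dp2Coeff_dpVec F (1, d - 1) (φ m)
    dsimp only at h1 h2
    rw [show q + (d - q) = d by omega] at h1
    rw [show 1 + (d - 1) = d by omega] at h2
    rw [h1, h2]
    set a := (φ m).1
    set b := (φ m).2
    have ha : a ^ q = a := by
      cases nonempty_fintype F
      rw [hq, Nat.card_eq_fintype_card, FiniteField.pow_card]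
    have hb : b ^ (d - q) = b ^ (d - 1) := by
      cases nonempty_fintype F
      rcases eq_or_ne b 0 with hb | hb
      · rw [hb, zero_pow (by omega), zero_pow (by omega)]
      · rw [show d - 1 = (d - q) + (q - 1) by omega, pow_add, hq, Nat.card_eq_fintype_card,
          FiniteField.pow_card_sub_one_eq_one b hb, mul_one]
    rw [ha, hb, pow_one, sub_self]
  have h0 := hsp hmem
  have e1 : ∀ n, dpVec n ((1 : F), (0 : F)) = dpE2 F (n, 0) := fun n => by
    rw [dpVec, sum_eq_single (n, 0) (fun z hz hne => by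
      rw [HasAntidiagonal.mem_antidiagonal] at hz
      have : z.2 ≠ 0 := fun h => hne (Prod.ext (by simp; omega) (by simpa using h))
      simp [this]) (fun h => absurd (by simp) h)]
    simp
  have e2 : ∀ n, dpVec n ((0 : F), (1 : F)) = dpE2 F (0, n) := fun n => by
    rw [dpVec, sum_eq_single (0, n) (fun z hz hne => by
      rw [HasAntidiagonal.mem_antidiagonal] at hz
      have : z.1 ≠ 0 := fun h => hne (Prod.ext (by simpa using h) (by simp; omega))
      simp [this]) (fun h => absurd (by simp) h)]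
    simp
  simp only [LinearMap.mem_ker, Φ, LinearMap.comp_apply, LinearMap.restrictScalars_apply,
    AlgHom.toLinearMap_apply, map_mul, dpTest, DividedPowerAlgebra.lift'_apply_dp, hx, hy, e1, e2,
    dpE2_mul] at h0
  simp [Λ, dp2Coeff_dpE2, hq1.ne'] at h0

end Groth.Agent.PolLib
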