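import Groth.Agent.PolLib.DpSpan
import Groth.Agent.PolLib.DpTarget

/-! Converse: spanning by `d`-th divided powers forces large residue fields or cyclicity. -/

universe u

namespace Groth.Agent.PolLib

variable {A M : Type u} [CommRing A] [AddCommGroup M] [Module A M]

theorem cyclic_localized_of_fibre_span [Module.Finite A M] (P : Ideal A) [P.IsPrime] (m₀ : M)
    (h : (⊤ : Submodule A M) ≤ Submodule.span A {m₀} ⊔ P • ⊤) :
    ∃ x : LocalizedModule P.primeCompl M, Submodule.span (Localization.AtPrime P) {x} = ⊤ := by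
  let N := Submodule.span A ({m₀} : Set M)
  have hQ : (⊤ : Submodule A (M ⧸ N)) ≤ P • ⊤ := by
    have := Submodule.map_mono (f := N.mkQ) h
    rwa [Submodule.map_top, Submodule.range_mkQ, Submodule.map_sup, Submodule.map_smul'',
      Submodule.map_top, Submodule.range_mkQ, show N.map N.mkQ = ⊥ from Submodule.mkQ_map_self N,
      bot_sup_eq] at this
  obtain ⟨r, hr1, hr⟩ := Submodule.exists_sub_one_mem_and_smul_eq_zero_of_fg_of_le_smul P ⊤
    Module.Finite.fg_top hQ
  have hrP : r ∉ P := fun hm => by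
    refine (inferInstance : P.IsPrime).ne_top (P.eq_top_iff_one.mpr ?_)
    have := P.sub_mem hm hr1
    rwa [sub_sub_cancel] at this
  have hsm : ∀ m : M, ∃ a : A, a • m₀ = r • m := fun m => by
    have := hr (Submodule.Quotient.mk m) trivial
    rw [← Submodule.Quotient.mk_smul, Submodule.Quotient.mk_eq_zero] at this
    exact Submodule.mem_span_singleton.mp this
  refine ⟨LocalizedModule.mk m₀ 1, eq_top_iff.mpr fun z _ => ?_⟩
  induction z using LocalizedModule.induction_on with
  | _ m t =>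
    obtain ⟨a, ha⟩ := hsm m
    refine Submodule.mem_span_singleton.mpr
      ⟨Localization.mk a (⟨r, hrP⟩ * t), ?_⟩
    rw [LocalizedModule.mk_smul_mk, LocalizedModule.mk_eq]
    refine ⟨1, ?_⟩
    simp only [Submonoid.smul_def, Submonoid.coe_mul, Submonoid.coe_one, one_smul, mul_one, ha]
    rw [mul_smul, smul_comm]

theorem residue_card_or_cyclic [Module.Finite A M] (d : ℕ)
    (h : dpSpan A M d = PolLaw.gammaPiece A M d) (p : PrimeSpectrum A) :
    (d : Cardinal) ≤ Cardinal.mk p.asIdeal.ResidueField ∨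
      ∃ x : LocalizedModule p.asIdeal.primeCompl M,
        Submodule.span (Localization.AtPrime p.asIdeal) {x} = ⊤ := by
  classical
  by_cases hcard : (d : Cardinal) ≤ Cardinal.mk p.asIdeal.ResidueField
  · exact Or.inl hcard
  right
  haveI : Finite p.asIdeal.ResidueField :=
    Cardinal.lt_aleph0_iff_finite.mp ((not_le.mp hcard).trans Cardinal.natCast_lt_aleph0)
  rw [← Nat.cast_card, Nat.cast_le, not_le] at hcard
  haveI : Finite (A ⧸ p.asIdeal) :=
    Finite.of_injective _ p.asIdeal.injective_algebraMap_quotient_residueField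
  haveI : p.asIdeal.IsMaximal := Ideal.Quotient.maximal_of_isField _ (Finite.isField_of_domain _)
  letI : Field (A ⧸ p.asIdeal) := Ideal.Quotient.field _
  rw [← Nat.card_eq_of_bijective _ p.asIdeal.bijective_algebraMap_quotient_residueField] at hcard
  by_contra hnc
  let V := M ⧸ (p.asIdeal • ⊤ : Submodule A M)
  let π : M →ₗ[A] V := Submodule.mkQ _
  have hπ : Function.Surjective π := Submodule.mkQ_surjective _
  have hspan : ∀ m₀ : M, Submodule.span (A ⧸ p.asIdeal) {π m₀} ≠ ⊤ := fun m₀ htop => by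
    refine hnc (cyclic_localized_of_fibre_span p.asIdeal m₀ fun m _ => ?_)
    obtain ⟨c, hc⟩ := Submodule.mem_span_singleton.mp (htop.symm ▸ Submodule.mem_top : π m ∈ _)
    obtain ⟨a, rfl⟩ := Ideal.Quotient.mk_surjective c
    change π (a • m₀) = π m at hc
    rw [← sub_add_cancel m (a • m₀)]
    refine Submodule.add_mem _ (Submodule.mem_sup_right ?_)
      (Submodule.mem_sup_left (Submodule.smul_mem _ _ (Submodule.mem_span_singleton_self m₀)))
    rw [← Submodule.Quotient.eq]
    exact hc.symm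
  obtain ⟨x, hx0⟩ : ∃ x : M, π x ≠ 0 := by
    by_contra! hz
    refine hspan 0 (eq_top_iff.mpr fun v _ => ?_)
    obtain ⟨m, rfl⟩ := hπ v
    simp [hz m]
  obtain ⟨y, hy⟩ : ∃ y : M, π y ∉ Submodule.span (A ⧸ p.asIdeal) {π x} := by
    by_contra! hz
    refine hspan x (eq_top_iff.mpr fun v _ => ?_)
    obtain ⟨m, rfl⟩ := hπ v
    exact hz m
  let L : ((A ⧸ p.asIdeal) × (A ⧸ p.asIdeal)) →ₗ[A ⧸ p.asIdeal] V :=
    (LinearMap.toSpanSingleton _ V (π x)).coprod (LinearMap.toSpanSingleton _ V (π y))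
  have hL : LinearMap.ker L = ⊥ := by
    refine LinearMap.ker_eq_bot'.mpr fun z hz => ?_
    simp only [L, LinearMap.coprod_apply, LinearMap.toSpanSingleton_apply] at hz
    have h2 : z.2 = 0 := by
      by_contra h2
      refine hy ((Submodule.smul_mem_iff _ h2).mp ?_)
      rw [eq_neg_of_add_eq_zero_right hz]
      exact neg_mem (Submodule.smul_mem _ _ (Submodule.mem_span_singleton_self _))
    rw [h2, zero_smul, add_zero] at hz
    exact Prod.ext ((smul_eq_zero.mp hz).resolve_right hx0) h2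
  obtain ⟨ψ, hψ⟩ := L.exists_leftInverse_of_injective hL
  let φ : M →ₗ[A] (A ⧸ p.asIdeal) × (A ⧸ p.asIdeal) := ψ.restrictScalars A ∘ₗ π
  have hφx : φ x = (1, 0) := by
    have := LinearMap.congr_fun hψ ((1, 0) : (A ⧸ p.asIdeal) × (A ⧸ p.asIdeal))
    simpa [L, φ] using this
  have hφy : φ y = (0, 1) := by
    have := LinearMap.congr_fun hψ ((0, 1) : (A ⧸ p.asIdeal) × (A ⧸ p.asIdeal))
    simpa [L, φ] using this
  refine dp_mul_dp_notMem_span φ hφx hφy hcard ?_
  change _ ∈ dpSpan A M d
  rw [h]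
  refine Submodule.subset_span ⟨2, ![Nat.card (A ⧸ p.asIdeal), d - Nat.card (A ⧸ p.asIdeal)],
    ![x, y], ?_, ?_⟩
  · simp; omega
  · simp

end Groth.Agent.PolLib
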