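import Groth.Prelude.Def_PolLaw
import Mathlib

/-! The span of the `d`-th divided powers inside the degree-`d` piece. -/

universe u

namespace Groth.Agent.PolLib

open DividedPowerAlgebra

variable {A M : Type u} [CommRing A] [AddCommGroup M] [Module A M]

/-- Saturation of a submodule at a submonoid. -/
def satAt (T : Submonoid A) {N : Type u} [AddCommGroup N] [Module A N] (W : Submodule A N) :
    Submodule A N where
  carrier := {g | ∃ s ∈ T, s • g ∈ W}
  zero_mem' := ⟨1, T.one_mem, by simp⟩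
  add_mem' := by
    rintro a b ⟨s, hs, ha⟩ ⟨t, ht, hb⟩
    refine ⟨s * t, T.mul_mem hs ht, ?_⟩
    rw [smul_add]
    refine W.add_mem ?_ ?_
    · rw [mul_comm, mul_smul]
      exact W.smul_mem t ha
    · rw [mul_smul]
      exact W.smul_mem s hb
  smul_mem' := by
    rintro c a ⟨s, hs, ha⟩
    exact ⟨s, hs, by rw [smul_comm]; exact W.smul_mem c ha⟩

theorem mem_satAt_of_smul {T : Submonoid A} {N : Type u} [AddCommGroup N] [Module A N]
    {W : Submodule A N} {g : N} {s : A} (hs : s ∈ T) (h : s • g ∈ satAt T W) : g ∈ satAt T W := by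
  obtain ⟨t, ht, h⟩ := h
  exact ⟨t * s, T.mul_mem ht hs, by rwa [mul_smul]⟩

theorem vandermonde_mem_satAt {T : Submonoid A} {N : Type u} [AddCommGroup N] [Module A N]
    {W : Submodule A N} {n : ℕ} (c : Fin n → A) (hc : ∀ i j, i < j → c j - c i ∈ T)
    (v : Fin n → N) (h : ∀ i, ∑ b : Fin n, c i ^ (b : ℕ) • v b ∈ satAt T W) (b : Fin n) :
    v b ∈ satAt T W := by
  classical
  let V := Matrix.vandermonde c
  have hdet : V.det ∈ T := by
    rw [Matrix.det_vandermonde]
    exact T.prod_mem fun i _ => T.prod_mem fun j hj => hc i j (Finset.mem_Ioi.mp hj)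
  have key : V.det • v b = ∑ i, V.adjugate b i • ∑ b' : Fin n, c i ^ (b' : ℕ) • v b' := by
    simp_rw [Finset.smul_sum, smul_smul]
    rw [Finset.sum_comm]
    simp_rw [← Finset.sum_smul]
    have h1 : ∀ b' : Fin n, ∑ i, V.adjugate b i * c i ^ (b' : ℕ) = if b = b' then V.det else 0 := by
      intro b'
      have h2 := congrFun (congrFun (Matrix.adjugate_mul V) b) b'
      simpa [Matrix.mul_apply, Matrix.one_apply, V] using h2
    simp [h1]
  refine mem_satAt_of_smul hdet ?_
  rw [key]
  exact Submodule.sum_mem _ fun i _ => Submodule.smul_mem _ _ (h i)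

/-- The span of the `d`-th divided powers. -/
noncomputable abbrev dpSpan (A M : Type u) [CommRing A] [AddCommGroup M] [Module A M] (d : ℕ) :
    Submodule A (DividedPowerAlgebra A M) :=
  Submodule.span A (Set.range (dp A d : M → DividedPowerAlgebra A M))

theorem dpSpan_le_gammaPiece (d : ℕ) : dpSpan A M d ≤ PolLaw.gammaPiece A M d := by
  rw [Submodule.span_le, Set.range_subset_iff]
  intro m
  exact Submodule.subset_span ⟨1, fun _ => d, fun _ => m, by simp, by simp⟩

theorem dp_mul_prod_mem_satAt (T : Submonoid A) {d : ℕ} (c : Fin d → A)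
    (hc : ∀ i j, i < j → c j - c i ∈ T) : ∀ (n : ℕ) (e : ℕ) (x : M) (k : Fin n → ℕ)
    (m : Fin n → M), e + ∑ i, k i = d →
      dp A e x * ∏ i, dp A (k i) (m i) ∈ satAt T (dpSpan A M d) := by
  intro n
  induction n with
  | zero =>
    intro e x k m h
    simp at h
    subst h
    refine ⟨1, T.one_mem, ?_⟩
    have hx : dp A e x ∈ dpSpan A M e := Submodule.subset_span ⟨x, rfl⟩
    simpa using hx
  | succ n ih =>
    intro e x k m h
    rw [Fin.sum_univ_succ] at h
    rw [Fin.prod_univ_succ]
    set rest := ∏ i : Fin n, dp A (k i.succ) (m i.succ) with hrest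
    set N := e + k 0 with hN
    have hih : ∀ y, dp A N y * rest ∈ satAt T (dpSpan A M d) := fun y =>
      ih N y _ _ (by omega)
    rcases Nat.eq_zero_or_pos e with he | he
    · rw [he, dp_zero, one_mul]
      have := hih (m 0)
      rwa [hN, he, zero_add] at this
    have hNd : N ≤ d := by omega
    let v : Fin N → DividedPowerAlgebra A M := fun b =>
      dp A (b : ℕ) (m 0) * dp A (N - b) x * rest
    have hv : ∀ i : Fin N,
        ∑ b : Fin N, c (Fin.castLE hNd i) ^ (b : ℕ) • v b ∈ satAt T (dpSpan A M d) := fun i => by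
      have h1 := hih (c (Fin.castLE hNd i) • m 0 + x)
      rw [dp_add, Finset.Nat.sum_antidiagonal_eq_sum_range_succ
          (fun p q => dp A p (c (Fin.castLE hNd i) • m 0) * dp A q x), Finset.sum_range_succ,
        add_mul, Nat.sub_self, dp_zero, mul_one, dp_smul, smul_mul_assoc] at h1
      have h2 := (Submodule.add_mem_iff_left _ (Submodule.smul_mem _ _ (hih (m 0)))).mp h1
      rw [Finset.sum_mul] at h2
      rw [Fin.sum_univ_eq_sum_range
        (fun b => c (Fin.castLE hNd i) ^ b • (dp A b (m 0) * dp A (N - b) x * rest))]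
      simpa only [dp_smul, smul_mul_assoc] using h2
    have := vandermonde_mem_satAt (fun i => c (Fin.castLE hNd i))
      (fun i j hij => hc _ _ hij) v hv ⟨k 0, by omega⟩
    simp only [v] at this
    rw [show N - k 0 = e by omega] at this
    rwa [← mul_assoc, mul_comm (dp A e x)]

theorem gammaPiece_le_satAt_of_points (T : Submonoid A) {d : ℕ} (c : Fin d → A)
    (hc : ∀ i j, i < j → c j - c i ∈ T) :
    PolLaw.gammaPiece A M d ≤ satAt T (dpSpan A M d) := by
  rw [PolLaw.gammaPiece, Submodule.span_le]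
  rintro _ ⟨n, k, m, hk, rfl⟩
  have := dp_mul_prod_mem_satAt T c hc n 0 0 k m (by omega)
  rwa [dp_zero, one_mul] at this

theorem gammaPiece_le_satAt_of_cyclic (T : Submonoid A) {d : ℕ} (m₀ : M)
    (h : ∀ m : M, ∃ u ∈ T, ∃ a : A, u • m = a • m₀) :
    PolLaw.gammaPiece A M d ≤ satAt T (dpSpan A M d) := by
  classical
  rw [PolLaw.gammaPiece, Submodule.span_le]
  rintro _ ⟨n, k, m, hk, rfl⟩
  choose u hu a ha using fun i => h (m i)
  refine mem_satAt_of_smul (T.prod_mem fun i (_ : i ∈ Finset.univ) => T.pow_mem (hu i) (k i)) ?_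
  have h1 : (∏ i, u i ^ k i) • ∏ i, dp A (k i) (m i) =
      (∏ i, a i ^ k i) • ((Nat.multinomial Finset.univ k : DividedPowerAlgebra A M) * dp A d m₀) := by
    rw [← hk, ← prod_dp, Algebra.smul_def, map_prod, ← Finset.prod_mul_distrib, Algebra.smul_def,
      map_prod, ← Finset.prod_mul_distrib]
    exact Finset.prod_congr rfl fun i _ => by
      rw [← Algebra.smul_def, ← dp_smul, ha, dp_smul, Algebra.smul_def]
  rw [h1, ← nsmul_eq_mul]
  have h2 : dp A d m₀ ∈ satAt T (dpSpan A M d) :=
    ⟨1, T.one_mem, by rw [one_smul]; exact Submodule.subset_span ⟨m₀, rfl⟩⟩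
  exact Submodule.smul_mem _ _ (nsmul_mem h2 _)

theorem exists_cyclic_of_localized (T : Submonoid A) (x : LocalizedModule T M)
    (hx : Submodule.span (Localization T) {x} = ⊤) :
    ∃ m₀ : M, ∀ m : M, ∃ u ∈ T, ∃ a : A, u • m = a • m₀ := by
  induction x using LocalizedModule.induction_on with
  | _ m₀ s =>
    refine ⟨m₀, fun m => ?_⟩
    have hm : LocalizedModule.mk m 1 ∈ Submodule.span (Localization T) {LocalizedModule.mk m₀ s} := by
      rw [hx]; trivial
    obtain ⟨r, hr⟩ := Submodule.mem_span_singleton.mp hm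
    obtain ⟨⟨a, t⟩, rfl⟩ : ∃ p : A × T, Localization.mk p.1 p.2 = r := by
      induction r using Localization.induction_on with
      | _ p => exact ⟨p, rfl⟩
    rw [LocalizedModule.mk_smul_mk, LocalizedModule.mk_eq] at hr
    obtain ⟨u, hu⟩ := hr
    refine ⟨(u : A) * ((t : A) * s), T.mul_mem u.2 (T.mul_mem t.2 s.2), (u : A) * a, ?_⟩
    simp only [Submonoid.smul_def, Submonoid.coe_mul, Submonoid.coe_one, one_smul] at hu
    rw [mul_smul ((u : T) : A), mul_smul ((u : T) : A), ← hu]

theorem dpSpan_eq_gammaPiece_of_units {d : ℕ} (c : Fin d → A)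
    (hc : ∀ i j, i < j → IsUnit (c j - c i)) : dpSpan A M d = PolLaw.gammaPiece A M d := by
  refine le_antisymm (dpSpan_le_gammaPiece d) fun g hg => ?_
  obtain ⟨s, hs, h⟩ := gammaPiece_le_satAt_of_points (IsUnit.submonoid A) c hc hg
  obtain ⟨w, rfl⟩ := hs
  simpa [smul_smul] using Submodule.smul_mem _ (↑w⁻¹ : A) h

theorem dpSpan_eq_gammaPiece_of_primes (d : ℕ)
    (h : ∀ p : PrimeSpectrum A, (d : Cardinal) ≤ Cardinal.mk p.asIdeal.ResidueField ∨
      ∃ x : LocalizedModule p.asIdeal.primeCompl M,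
        Submodule.span (Localization.AtPrime p.asIdeal) {x} = ⊤) :
    dpSpan A M d = PolLaw.gammaPiece A M d := by
  classical
  refine le_antisymm (dpSpan_le_gammaPiece d) fun g hg => ?_
  let J : Ideal A := (dpSpan A M d).comap (LinearMap.toSpanSingleton A _ g)
  suffices J = ⊤ by simpa [J] using (J.eq_top_iff_one.mp this)
  by_contra hne
  obtain ⟨P, hP, hJP⟩ := J.exists_le_maximal hne
  suffices g ∈ satAt P.primeCompl (dpSpan A M d) by
    obtain ⟨s, hs, hsg⟩ := this
    exact hs (hJP (show s ∈ J by simpa [J] using hsg))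
  rcases h ⟨P, hP.isPrime⟩ with hcard | ⟨x, hx⟩
  · obtain ⟨e⟩ : Nonempty (Fin d ↪ P.ResidueField) := by
      rw [← Cardinal.lift_mk_le']
      simpa using hcard
    choose c hc using fun i => P.algebraMap_residueField_surjective (e i)
    refine gammaPiece_le_satAt_of_points P.primeCompl c (fun i j hij => ?_) hg
    intro hmem
    rw [SetLike.mem_coe, ← P.algebraMap_residueField_eq_zero, map_sub, hc, hc, sub_eq_zero] at hmem
    exact hij.ne' (e.injective hmem)
  · obtain ⟨m₀, hm₀⟩ := exists_cyclic_of_localized P.primeCompl x hx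
    exact gammaPiece_le_satAt_of_cyclic P.primeCompl m₀ hm₀ hg

end Groth.Agent.PolLib
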