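import Groth.Agent.PolLib.Polar
import Mathlib.RingTheory.Flat.Basic
import Mathlib.LinearAlgebra.TensorProduct.Vanishing
import Mathlib.LinearAlgebra.TensorPower.Basic

/-! For a flat algebra, symmetric tensors are divided powers. -/

universe u v w

open scoped TensorProduct

namespace Groth.Agent.PolLib

open PolLaw

variable {A : Type u} [CommRing A]

section Modules

variable {F G B : Type u} [AddCommGroup F] [Module A F] [AddCommGroup G] [Module A G]
  [AddCommGroup B] [Module A B]

/-- The tensor power of a linear map. -/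
noncomputable def tp (d : ℕ) (f : F →ₗ[A] B) : (⨂[A]^d F) →ₗ[A] (⨂[A]^d B) :=
  PiTensorProduct.map fun _ => f

@[simp] theorem tp_tprod (d : ℕ) (f : F →ₗ[A] B) (x : Fin d → F) :
    tp d f (PiTensorProduct.tprod A x) = PiTensorProduct.tprod A fun i => f (x i) :=
  PiTensorProduct.map_tprod _ _

theorem tp_comp (d : ℕ) (f : F →ₗ[A] G) (g : G →ₗ[A] B) :
    tp d (g.comp f) = (tp d g).comp (tp d f) := PiTensorProduct.map_comp _ _

theorem tp_reindex (d : ℕ) (f : F →ₗ[A] B) (σ : Equiv.Perm (Fin d)) (t : ⨂[A]^d F) :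
    tp d f (PiTensorProduct.reindex A (fun _ : Fin d => F) σ t) =
      PiTensorProduct.reindex A (fun _ : Fin d => B) σ (tp d f t) := by
  induction t using PiTensorProduct.induction_on with
  | smul_tprod r x => simp [PiTensorProduct.reindex_tprod]
  | add x y hx hy => simp [hx, hy]

variable (A F) in
/-- Splitting off the last factor. -/
noncomputable def join (d : ℕ) : (⨂[A]^d F) ⊗[A] F ≃ₗ[A] ⨂[A]^(d + 1) F :=
  (TensorProduct.congr (LinearEquiv.refl A _)
    (PiTensorProduct.subsingletonEquiv (s := fun _ : Fin 1 => F) (0 : Fin 1)).symm).trans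
      TensorPower.mulEquiv

theorem join_tmul (d : ℕ) (a : Fin d → F) (x : F) :
    join A F d (PiTensorProduct.tprod A a ⊗ₜ[A] x) =
      PiTensorProduct.tprod A (Fin.append a fun _ => x) := by
  simp only [join, LinearEquiv.trans_apply, TensorProduct.congr_tmul, LinearEquiv.refl_apply,
    PiTensorProduct.subsingletonEquiv_symm_apply']
  exact TensorPower.tprod_mul_tprod A a fun _ => x

theorem join_natural (d : ℕ) (f : F →ₗ[A] B) (t : (⨂[A]^d F) ⊗[A] F) :
    tp (d + 1) f (join A F d t) = join A B d (TensorProduct.map (tp d f) f t) := by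
  induction t using TensorProduct.induction_on with
  | zero => simp
  | add a b ha hb => simp [ha, hb]
  | tmul a x =>
    induction a using PiTensorProduct.induction_on with
    | add a b ha hb => simp only [TensorProduct.add_tmul, map_add, ha, hb]
    | smul_tprod r a =>
      simp only [← TensorProduct.smul_tmul', map_smul, TensorProduct.map_tmul, tp_tprod, join_tmul]
      congr 2
      funext i
      refine Fin.addCases (fun j => ?_) (fun j => ?_) i <;> simp

theorem kill_step [Module.Flat A B] {n : ℕ} (f : (Fin n → A) →ₗ[A] B) (M : Type u)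
    [AddCommGroup M] [Module A M] (t : M ⊗[A] (Fin n → A)) (ht : f.lTensor M t = 0) :
    ∃ (m : ℕ) (h : (Fin n → A) →ₗ[A] (Fin m → A)) (g : (Fin m → A) →ₗ[A] B),
      g.comp h = f ∧ h.lTensor M t = 0 := by
  classical
  let e := Pi.basisFun A (Fin n)
  obtain ⟨x, hx⟩ : ∃ x : Fin n → M, t = ∑ a, x a ⊗ₜ[A] e a := by
    clear ht
    induction t using TensorProduct.induction_on with
    | zero => exact ⟨0, by simp⟩
    | add u v hu hv =>
      obtain ⟨x, rfl⟩ := hu
      obtain ⟨y, rfl⟩ := hv
      exact ⟨x + y, by simp [TensorProduct.add_tmul, Finset.sum_add_distrib]⟩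
    | tmul u v =>
      refine ⟨fun a => e.repr v a • u, ?_⟩
      conv_lhs => rw [← e.sum_repr v, TensorProduct.tmul_sum]
      exact Finset.sum_congr rfl fun a _ => by rw [TensorProduct.tmul_smul, TensorProduct.smul_tmul']
  subst hx
  have h0 : ∑ a, x a ⊗ₜ[A] f (e a) = (0 : M ⊗[A] B) := by simpa [map_sum] using ht
  obtain ⟨m, r, y, hy, hr⟩ := TensorProduct.vanishesTrivially_of_sum_tmul_eq_zero_of_rTensor_injective
    (R := A) (Module.Flat.rTensor_preserves_injective_linearMap _ Subtype.val_injective) h0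
  let h : (Fin n → A) →ₗ[A] (Fin m → A) := e.constr A fun a j => r a j
  let g : (Fin m → A) →ₗ[A] B := (Pi.basisFun A (Fin m)).constr A y
  refine ⟨m, h, g, e.ext fun a => ?_, ?_⟩
  · rw [LinearMap.comp_apply, show f (e a) = ∑ j, r a j • y j from hy a]
    simp only [h, Module.Basis.constr_basis]
    simp [g, Module.Basis.constr_apply_fintype]
  · simp only [map_sum, LinearMap.lTensor_tmul, h, Module.Basis.constr_basis]
    have hdec : ∀ a, x a ⊗ₜ[A] (fun j => r a j : Fin m → A) =
        ∑ j, (r a j • x a) ⊗ₜ[A] (Pi.basisFun A (Fin m)) j := fun a => by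
      conv_lhs => rw [← (Pi.basisFun A (Fin m)).sum_repr (fun j => r a j)]
      rw [TensorProduct.tmul_sum]
      exact Finset.sum_congr rfl fun j _ => by
        rw [TensorProduct.tmul_smul, TensorProduct.smul_tmul', Pi.basisFun_repr]
    rw [Finset.sum_congr rfl fun a _ => hdec a, Finset.sum_comm]
    refine Finset.sum_eq_zero fun j _ => ?_
    rw [← TensorProduct.sum_tmul, hr j, TensorProduct.zero_tmul]

theorem kill (d : ℕ) : ∀ (M : Type u) [AddCommGroup M] [Module A M] [Module.Flat A B] (n : ℕ)
    (f : (Fin n → A) →ₗ[A] B) (t : M ⊗[A] ⨂[A]^d (Fin n → A)),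
    (tp d f).lTensor M t = 0 →
      ∃ (m : ℕ) (h : (Fin n → A) →ₗ[A] (Fin m → A)) (g : (Fin m → A) →ₗ[A] B),
        g.comp h = f ∧ (tp d h).lTensor M t = 0 := by
  induction d with
  | zero =>
    intro M _ _ _ n f t ht
    have hinj : Function.Injective ((tp 0 f).lTensor M) := by
      have hb : Function.Bijective (tp 0 f) := by
        have h : ⇑(tp 0 f) = ⇑((PiTensorProduct.isEmptyEquiv (Fin 0) (R := A) (s := fun _ => B)).symm) ∘
            ⇑(PiTensorProduct.isEmptyEquiv (Fin 0) (R := A) (s := fun _ => (Fin n → A))) := by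
          funext z
          induction z using PiTensorProduct.induction_on with
          | smul_tprod r x =>
            simp [PiTensorProduct.isEmptyEquiv, Subsingleton.elim (fun i => f (x i)) isEmptyElim]
          | add x y hx hy => simp only [map_add, hx, hy, Function.comp_apply]
        rw [h]
        exact (LinearEquiv.bijective _).comp (LinearEquiv.bijective _)
      exact ((LinearEquiv.ofBijective _ hb).lTensor M).injective
    exact ⟨n, LinearMap.id, f, LinearMap.comp_id f,
      by rw [hinj (ht.trans (map_zero _).symm), map_zero]⟩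
  | succ d ih =>
    intro M _ _ _ n f t ht
    let J := fun (Q : Type u) [AddCommGroup Q] [Module A Q] =>
      (TensorProduct.assoc A M (⨂[A]^d Q) Q).trans ((join A Q d).lTensor M)
    have hJ : ∀ {Q Q' : Type u} [AddCommGroup Q] [Module A Q] [AddCommGroup Q'] [Module A Q']
        (φ : Q →ₗ[A] Q') (z : (M ⊗[A] ⨂[A]^d Q) ⊗[A] Q),
        (tp (d + 1) φ).lTensor M (J Q z) =
          J Q' (TensorProduct.map ((tp d φ).lTensor M) φ z) := by
      intro Q Q' _ _ _ _ φ z
      induction z using TensorProduct.induction_on with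
      | zero => simp
      | add a b ha hb => simp only [map_add, ha, hb]
      | tmul a x =>
        induction a using TensorProduct.induction_on with
        | zero => simp
        | add a b ha hb => simp only [TensorProduct.add_tmul, map_add, ha, hb]
        | tmul a c => simp [J, join_natural]
    obtain ⟨t', rfl⟩ := (J (Fin n → A)).surjective t
    rw [hJ] at ht
    have ht' : TensorProduct.map ((tp d f).lTensor M) f t' = 0 :=
      (J B).injective (ht.trans (map_zero _).symm)
    let u := TensorProduct.map ((tp d f).lTensor M) LinearMap.id t'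
    have hu : f.lTensor (M ⊗[A] ⨂[A]^d B) u = 0 := by
      rw [← ht']
      simp only [u, LinearMap.lTensor, ← LinearMap.comp_apply, ← TensorProduct.map_comp,
        LinearMap.id_comp, LinearMap.comp_id]
    obtain ⟨m₁, h₁, g₁, hg₁, hu₁⟩ := kill_step f _ u hu
    let w := TensorProduct.map ((tp d h₁).lTensor M) h₁ t'
    let sw := fun (Q : Type u) [AddCommGroup Q] [Module A Q] =>
      ((TensorProduct.assoc A M (⨂[A]^d Q) (Fin m₁ → A)).trans
        ((TensorProduct.comm A (⨂[A]^d Q) (Fin m₁ → A)).lTensor M)).trans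
          (TensorProduct.assoc A M (Fin m₁ → A) (⨂[A]^d Q)).symm
    have hsw : ∀ {Q Q' : Type u} [AddCommGroup Q] [Module A Q] [AddCommGroup Q'] [Module A Q']
        (φ : Q →ₗ[A] Q') (z : (M ⊗[A] ⨂[A]^d Q) ⊗[A] (Fin m₁ → A)),
        (tp d φ).lTensor (M ⊗[A] (Fin m₁ → A)) (sw Q z) =
          sw Q' (((tp d φ).lTensor M).rTensor (Fin m₁ → A) z) := by
      intro Q Q' _ _ _ _ φ z
      induction z using TensorProduct.induction_on with
      | zero => simp
      | add a b ha hb => simp only [map_add, ha, hb]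
      | tmul a x =>
        induction a using TensorProduct.induction_on with
        | zero => simp
        | add a b ha hb => simp only [TensorProduct.add_tmul, map_add, ha, hb]
        | tmul a c => simp [sw]
    have hw : (tp d g₁).lTensor (M ⊗[A] (Fin m₁ → A)) (sw _ w) = 0 := by
      rw [hsw, LinearEquiv.map_eq_zero_iff]
      rw [← hu₁]
      simp only [w, u, LinearMap.rTensor, LinearMap.lTensor, ← LinearMap.comp_apply,
        ← TensorProduct.map_comp, LinearMap.id_comp, LinearMap.comp_id, ← tp_comp, hg₁]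
    obtain ⟨m, h₂, g, hg, hw₂⟩ := ih _ m₁ g₁ _ hw
    refine ⟨m, h₂.comp h₁, g, by rw [← LinearMap.comp_assoc, hg, hg₁], ?_⟩
    rw [hJ, LinearEquiv.map_eq_zero_iff]
    rw [hsw, LinearEquiv.map_eq_zero_iff] at hw₂
    have h3 := congrArg (h₂.lTensor (M ⊗[A] ⨂[A]^d (Fin m → A))) hw₂
    rw [map_zero] at h3
    rw [← h3]
    simp only [w, LinearMap.rTensor, LinearMap.lTensor, ← LinearMap.comp_apply,
      ← TensorProduct.map_comp, LinearMap.id_comp, LinearMap.comp_id, ← tp_comp]

theorem kill_finset [Module.Flat A B] {d n : ℕ} (f : (Fin n → A) →ₗ[A] B) {ι : Type v}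
    (s : Finset ι) (t : ι → ⨂[A]^d (Fin n → A)) (ht : ∀ i ∈ s, tp d f (t i) = 0) :
    ∃ (m : ℕ) (h : (Fin n → A) →ₗ[A] (Fin m → A)) (g : (Fin m → A) →ₗ[A] B),
      g.comp h = f ∧ ∀ i ∈ s, tp d h (t i) = 0 := by
  classical
  induction s using Finset.induction_on with
  | empty => exact ⟨n, LinearMap.id, f, LinearMap.comp_id f, by simp⟩
  | insert i s his ih =>
    obtain ⟨m₁, h₁, g₁, hg₁, hs⟩ := ih fun j hj => ht j (Finset.mem_insert_of_mem hj)
    have h0 : (tp d g₁).lTensor A ((1 : A) ⊗ₜ[A] tp d h₁ (t i)) = 0 := by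
      rw [LinearMap.lTensor_tmul, ← LinearMap.comp_apply, ← tp_comp, hg₁,
        ht i (Finset.mem_insert_self i s), TensorProduct.tmul_zero]
    obtain ⟨m, h₂, g, hg, hh⟩ := kill d A m₁ g₁ _ h0
    refine ⟨m, h₂.comp h₁, g, by rw [← LinearMap.comp_assoc, hg, hg₁], fun j hj => ?_⟩
    rw [tp_comp, LinearMap.comp_apply]
    rcases Finset.mem_insert.mp hj with rfl | hj
    · simpa using congrArg (TensorProduct.lid A _) hh
    · rw [hs j hj, map_zero]

theorem exists_invariant_lift [Module.Flat A B] {d : ℕ} (z : ⨂[A]^d B)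
    (hz : ∀ σ, PiTensorProduct.reindex A (fun _ : Fin d => B) σ z = z) :
    ∃ (m : ℕ) (g : (Fin m → A) →ₗ[A] B) (t : ⨂[A]^d (Fin m → A)),
      (∀ σ, PiTensorProduct.reindex A (fun _ : Fin d => Fin m → A) σ t = t) ∧ tp d g t = z := by
  classical
  obtain ⟨n, f, t, rfl⟩ : ∃ (n : ℕ) (f : (Fin n → A) →ₗ[A] B) (t : ⨂[A]^d (Fin n → A)),
      tp d f t = z := by
    clear hz
    induction z using PiTensorProduct.induction_on with
    | smul_tprod r x =>
      refine ⟨d, (Pi.basisFun A (Fin d)).constr A x,
        r • PiTensorProduct.tprod A fun i => Pi.basisFun A (Fin d) i, ?_⟩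
      rw [map_smul, tp_tprod]
      simp only [Module.Basis.constr_basis]
    | add u v hu hv =>
      obtain ⟨n, f, t, rfl⟩ := hu
      obtain ⟨n', f', t', rfl⟩ := hv
      let p₁ : (Fin (n + n') → A) →ₗ[A] (Fin n → A) := LinearMap.funLeft A A (Fin.castAdd n')
      let p₂ : (Fin (n + n') → A) →ₗ[A] (Fin n' → A) := LinearMap.funLeft A A (Fin.natAdd n)
      let i₁ : (Fin n → A) →ₗ[A] (Fin (n + n') → A) :=
        (Pi.basisFun A (Fin n)).constr A fun k => Pi.basisFun A _ (Fin.castAdd n' k)
      let i₂ : (Fin n' → A) →ₗ[A] (Fin (n + n') → A) :=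
        (Pi.basisFun A (Fin n')).constr A fun k => Pi.basisFun A _ (Fin.natAdd n k)
      let F := (Pi.basisFun A (Fin (n + n'))).constr A
        (Fin.append (fun k => f (Pi.basisFun A _ k)) fun k => f' (Pi.basisFun A _ k))
      have h1 : F.comp i₁ = f := (Pi.basisFun A (Fin n)).ext fun k => by
        simp only [F, i₁, LinearMap.comp_apply, Module.Basis.constr_basis, Fin.append_left]
      have h2 : F.comp i₂ = f' := (Pi.basisFun A (Fin n')).ext fun k => by
        simp only [F, i₂, LinearMap.comp_apply, Module.Basis.constr_basis, Fin.append_right]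
      refine ⟨n + n', F, tp d i₁ t + tp d i₂ t', ?_⟩
      rw [map_add, ← LinearMap.comp_apply, ← tp_comp, h1, ← LinearMap.comp_apply, ← tp_comp, h2]
  obtain ⟨m, h, g, hgh, hh⟩ := kill_finset f Finset.univ
    (fun σ => PiTensorProduct.reindex A (fun _ : Fin d => Fin n → A) σ t - t)
    fun σ _ => by rw [map_sub, tp_reindex, hz, sub_self]
  refine ⟨m, g, tp d h t, fun σ => ?_, by rw [← LinearMap.comp_apply, ← tp_comp, hgh]⟩
  rw [← tp_reindex, ← sub_eq_zero, ← map_sub]
  exact hh σ (Finset.mem_univ σ)

end Modules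

end Groth.Agent.PolLib
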