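import Groth.Agent.PolLib.Orbit
import Groth.Agent.PolLib.Flat
import Mathlib.RingTheory.MvPolynomial.Basic

/-! Symmetric tensors are generated by elementary symmetric tensors. -/

universe u v w

open scoped TensorProduct

namespace Groth.Agent.PolLib

variable {A : Type u} [CommRing A] {B : Type u} [CommRing B] [Algebra A B] {d : ℕ}

/-- The elementary symmetric tensor of an element. -/
noncomputable def esymT (A : Type u) [CommRing A] {B : Type u} [CommRing B] [Algebra A B] (d : ℕ) (a : B)
    (j : ℕ) : ⨂[A] _ : Fin d, B :=
  ∑ I ∈ (Finset.univ : Finset (Fin d)).powersetCard j,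
    PiTensorProduct.tprod A (fun i : Fin d => if i ∈ I then a else (1 : B))

theorem esymT_mem (a : B) (j : ℕ) : esymT A d a j ∈ SymTen.TS A B d := by
  rw [SymTen.mem_TS_iff]
  intro σ
  rw [esymT, map_sum]
  refine Finset.sum_nbij' (fun I => I.map σ.toEmbedding) (fun I => I.map σ.symm.toEmbedding) ?_ ?_ ?_ ?_ ?_
  · intro I hI
    simpa [Finset.mem_powersetCard] using hI
  · intro I hI
    simpa [Finset.mem_powersetCard] using hI
  · intro I _
    simp [Finset.map_map]
  · intro I _
    simp [Finset.map_map]
  · intro I _
    rw [PiTensorProduct.reindex_tprod]
    congr 1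
    funext i
    simp [Finset.mem_map_equiv]

variable {κ : Type w} [DecidableEq κ] [Zero κ] (b : Module.Basis κ A B)

/-- The places where a tuple is nontrivial. -/
def nz (c : Fin d → κ) : Finset (Fin d) := Finset.univ.filter fun k => c k ≠ 0

theorem mem_nz {c : Fin d → κ} {k : Fin d} : k ∈ nz c ↔ c k ≠ 0 := by simp [nz]

theorem card_nz_eq_of_cls {c c' : Fin d → κ} (h : cls c = cls c') : (nz c).card = (nz c').card := by
  obtain ⟨σ, rfl⟩ := cls_eq_iff.mp h
  refine Finset.card_equiv σ.symm fun k => ?_
  simp [mem_nz]

theorem coord_tprod (p : Fin d → B) (t : Fin d → κ) :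
    (beta b d).coord t (PiTensorProduct.tprod A p) = ∏ k, b.repr (p k) (t k) := by
  rw [Module.Basis.coord_apply, beta, Basis.piTensorProduct_repr_tprod_apply]

theorem coord_pair (hb : b 0 = 1) (m : κ) (I : Finset (Fin d)) (c : Fin d → κ) {t : Fin d → κ}
    (h : Disjoint I (nz c) ∨ (I ∪ nz c).card < (nz t).card) :
    (beta b d).coord t
        (PiTensorProduct.tprod A (fun i => if i ∈ I then b m else 1) * beta b d c) =
      if Disjoint I (nz c) ∧ (fun k => if k ∈ I then m else c k) = t then 1 else 0 := by
  classical
  rw [beta_apply, PiTensorProduct.tprod_mul_tprod, coord_tprod]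
  by_cases hd : Disjoint I (nz c)
  · have he : ∀ k, ((fun i => if i ∈ I then b m else 1) * fun i => b (c i)) k =
        b (if k ∈ I then m else c k) := fun k => by
      rw [Pi.mul_apply]
      split_ifs with hk
      · rw [show c k = 0 from not_not.1 fun hc => Finset.disjoint_left.1 hd hk (mem_nz.2 hc), hb, mul_one]
      · rw [one_mul]
    simp only [he, Module.Basis.repr_self, Finsupp.single_apply]
    rw [Finset.prod_boole]
    simp only [hd, true_and, Finset.mem_univ, forall_true_left, funext_iff]
  · rw [if_neg fun h' => hd h'.1]
    obtain ⟨k, hkt, hk⟩ := Finset.exists_mem_notMem_of_card_lt_card (h.resolve_left hd)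
    rw [Finset.mem_union, not_or] at hk
    refine Finset.prod_eq_zero (Finset.mem_univ k) ?_
    rw [Pi.mul_apply, if_neg hk.1, one_mul, Module.Basis.repr_self, Finsupp.single_apply,
      show c k = 0 from not_not.1 fun hc => hk.2 (mem_nz.2 hc), if_neg]
    exact fun h0 => mem_nz.1 hkt h0.symm

theorem TS_le_of_esymT_mem (hb : b 0 = 1) (S : Subalgebra A (⨂[A] _ : Fin d, B))
    (hS : ∀ a j, esymT A d a j ∈ S) : SymTen.TS A B d ≤ S := by
  classical
  have key : ∀ r, ∀ q : Orb κ d, (nz (rep q)).card = r → (orb b q).1 ∈ S := by
    intro r
    induction r using Nat.strong_induction_on with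
    | _ r ih =>
      intro q hq
      rcases (nz (rep q)).eq_empty_or_nonempty with he | ⟨k₀, hk₀⟩
      · have hr : rep q = fun _ => 0 := funext fun k => not_not.1 fun hc => by
          have := mem_nz.2 hc
          rw [he] at this
          exact absurd this (Finset.notMem_empty k)
        have hfib : fib q = {fun _ => (0 : κ)} := by
          ext c
          rw [mem_fib, Finset.mem_singleton]
          constructor
          · intro hc
            obtain ⟨σ, hσ⟩ := cls_eq_iff.mp ((cls_rep q).trans hc.symm)
            rw [hσ, hr]
            rfl
          · rintro rfl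
            rw [← hr, cls_rep]
        show ((SymTen.TS A B d).val (orb b q)) ∈ S
        rw [val_orb, hfib, Finset.sum_singleton, beta_apply]
        simp only [hb]
        exact S.one_mem
      set c := rep q with hc
      set m := c k₀ with hm
      have hm0 : m ≠ 0 := mem_nz.1 hk₀
      set I₀ : Finset (Fin d) := Finset.univ.filter fun k => c k = m with hI₀
      set c' : Fin d → κ := fun k => if c k = m then 0 else c k with hc'
      have hcard : I₀.card + (nz c').card = r := by
        rw [← hq, ← Finset.card_union_of_disjoint]
        · congr 1
          ext k
          simp only [Finset.mem_union, hI₀, Finset.mem_filter, Finset.mem_univ, true_and, mem_nz, hc']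
          by_cases h : c k = m
          · simp [h, hm0]
          · simp [h]
        · rw [Finset.disjoint_left]
          intro k hk hk'
          rw [mem_nz, hc'] at hk'
          exact hk' (if_pos (Finset.mem_filter.1 hk).2)
      have hj : 0 < I₀.card := Finset.card_pos.2 ⟨k₀, by simp [hI₀, hm]⟩
      set e := esymT A d (b m) I₀.card with he
      have hR : (orb b (cls c')).1 ∈ S := ih (nz c').card (by omega) _ (card_nz_eq_of_cls (cls_rep _))
      -- the merge of a placement of `m` with a tuple in the orbit of `c'`
      let merge : Finset (Fin d) × (Fin d → κ) → Fin d → κ := fun x k => if k ∈ x.1 then m else x.2 k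
      set pairs := ((Finset.univ : Finset (Fin d)).powersetCard I₀.card) ×ˢ fib (cls c') with hpairs
      have hexp : e * (orb b (cls c')).1 = ∑ x ∈ pairs,
          PiTensorProduct.tprod A (fun i => if i ∈ x.1 then b m else 1) * beta b d x.2 := by
        rw [show (orb b (cls c')).1 = ∑ c ∈ fib (cls c'), beta b d c from rfl, he, esymT,
          Finset.sum_mul_sum, Finset.sum_product]
      have hne : ∀ x ∈ pairs, ∀ k, x.2 k ≠ m := by
        intro x hx k hk
        obtain ⟨σ, hσ⟩ := cls_eq_iff.mp (mem_fib.1 (Finset.mem_product.1 hx).2).symm
        rw [hσ, Function.comp_apply, hc'] at hk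
        dsimp only at hk
        split_ifs at hk with h
        · exact hm0 hk.symm
        · exact h hk
      have hcls : ∀ x ∈ pairs, Disjoint x.1 (nz x.2) → cls (merge x) = cls c := by
        intro x hx hd
        have hx1 := (Finset.mem_powersetCard.1 (Finset.mem_product.1 hx).1).2
        have hx2 : ∀ a, (Finset.univ.filter fun k => x.2 k = a).card =
            (Finset.univ.filter fun k => c' k = a).card := fun a => by
          obtain ⟨σ, hσ⟩ := cls_eq_iff.mp (mem_fib.1 (Finset.mem_product.1 hx).2).symm
          refine Finset.card_equiv σ fun k => ?_
          simp [hσ]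
        refine expo_eq_iff.mp (Finsupp.ext fun a => ?_)
        rw [expo_apply, expo_apply, Fintype.card_subtype, Fintype.card_subtype]
        by_cases ha : a = m
        · subst ha
          rw [← hI₀, ← hx1]
          congr 1
          ext k
          simp only [Finset.mem_filter, Finset.mem_univ, true_and, merge]
          constructor
          · intro h
            by_contra hk
            rw [if_neg hk] at h
            exact hne x hx k h
          · intro h
            rw [if_pos h]
        · by_cases ha0 : a = 0
          · subst ha0
            have hA : (Finset.univ.filter fun k => merge x k = 0).card + x.1.card =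
                (Finset.univ.filter fun k => x.2 k = 0).card := by
              rw [← Finset.card_union_of_disjoint]
              · congr 1
                ext k
                simp only [Finset.mem_union, Finset.mem_filter, Finset.mem_univ, true_and, merge]
                by_cases hk : k ∈ x.1
                · simp only [hk, or_true, true_iff]
                  exact not_not.1 fun h => Finset.disjoint_left.1 hd hk (mem_nz.2 h)
                · simp [hk]
              · rw [Finset.disjoint_left]
                intro k hk hk'
                simp only [Finset.mem_filter, Finset.mem_univ, true_and, merge, if_pos hk'] at hk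
                exact hm0 hk
            have hB : (Finset.univ.filter fun k => c k = 0).card + I₀.card =
                (Finset.univ.filter fun k => c' k = 0).card := by
              rw [← Finset.card_union_of_disjoint]
              · congr 1
                ext k
                simp only [Finset.mem_union, Finset.mem_filter, Finset.mem_univ, true_and, hI₀, hc']
                by_cases hk : c k = m
                · simp [hk]
                · simp [hk]
              · rw [Finset.disjoint_left]
                intro k hk hk'
                simp only [Finset.mem_filter, Finset.mem_univ, true_and, hI₀] at hk hk'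
                exact hm0 (hk'.symm.trans hk)
            have := hx2 0
            omega
          · refine Eq.trans ?_ ((hx2 a).trans ?_)
            · congr 1
              ext k
              simp only [Finset.mem_filter, Finset.mem_univ, true_and, merge]
              by_cases hk : k ∈ x.1
              · rw [if_pos hk]
                exact ⟨fun h => absurd h.symm ha, fun h =>
                  absurd (mem_nz.2 (h.symm ▸ ha0)) (Finset.disjoint_left.1 hd hk)⟩
              · rw [if_neg hk]
            · congr 1
              ext k
              simp only [Finset.mem_filter, Finset.mem_univ, true_and, hc']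
              by_cases hk : c k = m
              · rw [if_pos hk, hk]
                exact ⟨fun h => absurd h.symm ha0, fun h => absurd h.symm ha⟩
              · rw [if_neg hk]
      set D : SymTen.TS A B d := ⟨e * (orb b (cls c')).1 - (orb b q).1,
        sub_mem (mul_mem (esymT_mem _ _) (orb b (cls c')).2) (orb b q).2⟩ with hD
      have hcoord : ∀ t : Fin d → κ, r ≤ (nz t).card → (beta b d).coord t D.1 = 0 := by
        intro t ht
        rw [hD, map_sub, sub_eq_zero, hexp, map_sum,
          show (orb b q).1 = ∑ c ∈ fib q, beta b d c from rfl, map_sum]
        have hterm : ∀ x ∈ pairs, (beta b d).coord t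
            (PiTensorProduct.tprod A (fun i => if i ∈ x.1 then b m else 1) * beta b d x.2) =
            if Disjoint x.1 (nz x.2) ∧ merge x = t then 1 else 0 := fun x hx => by
          refine coord_pair b hb m x.1 x.2 ?_
          by_cases hd : Disjoint x.1 (nz x.2)
          · exact Or.inl hd
          · refine Or.inr (lt_of_lt_of_le ?_ ht)
            have h1 := (Finset.mem_powersetCard.1 (Finset.mem_product.1 hx).1).2
            have h2 := card_nz_eq_of_cls (mem_fib.1 (Finset.mem_product.1 hx).2)
            have h3 := Finset.card_union_add_card_inter x.1 (nz x.2)
            have h4 : 0 < (x.1 ∩ nz x.2).card := Finset.card_pos.2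
              (Finset.nonempty_iff_ne_empty.2 fun h => hd (Finset.disjoint_iff_inter_eq_empty.2 h))
            omega
        rw [Finset.sum_congr rfl hterm]
        simp only [Module.Basis.coord_apply, Module.Basis.repr_self, Finsupp.single_apply]
        rw [Finset.sum_boole, Finset.sum_ite_eq']
        by_cases htc : cls t = q
        · rw [if_pos (mem_fib.2 htc)]
          suffices h : (pairs.filter fun x => Disjoint x.1 (nz x.2) ∧ merge x = t) =
              {(Finset.univ.filter fun k => t k = m, fun k => if t k = m then 0 else t k)} by
            rw [h]; simp
          obtain ⟨σ, hσ⟩ := cls_eq_iff.mp ((cls_rep q).trans htc.symm)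
          ext x
          simp only [Finset.mem_filter, Finset.mem_singleton]
          constructor
          · rintro ⟨hx, hd, hxt⟩
            have hkey : ∀ k, (t k = m ↔ k ∈ x.1) := fun k => by
              rw [← hxt]
              simp only [merge]
              by_cases hk : k ∈ x.1
              · simp [hk]
              · simp [hk, hne x hx k]
            refine Prod.ext (Finset.ext fun k => by simp [hkey]) (funext fun k => ?_)
            rw [← hxt]
            simp only [merge]
            by_cases hk : k ∈ x.1
            · simp only [hk, if_true]
              exact not_not.1 fun h => Finset.disjoint_left.1 hd hk (mem_nz.2 h)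
            · simp [hk, hne x hx k]
          · rintro rfl
            refine ⟨Finset.mem_product.2 ⟨Finset.mem_powersetCard.2 ⟨Finset.subset_univ _, ?_⟩, mem_fib.2 ?_⟩, ?_, ?_⟩
            · rw [hσ]
              refine Finset.card_equiv σ fun k => ?_
              simp [hI₀, hc]
            · rw [hσ]
              exact cls_comp c' σ
            · rw [Finset.disjoint_left]
              intro k hk hk'
              rw [mem_nz] at hk'
              exact hk' (if_pos (Finset.mem_filter.1 hk).2)
            · funext k
              simp only [merge, Finset.mem_filter, Finset.mem_univ, true_and]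
              by_cases h : t k = m <;> simp [h]
        · rw [if_neg fun h => htc (mem_fib.1 h), Finset.filter_false_of_mem]
          · simp
          · rintro x hx ⟨hd, hxt⟩
            exact htc (hxt ▸ (hcls x hx hd).trans (cls_rep q))
      have hDS : D.1 ∈ S := by
        have h1 := congrArg Subtype.val (retr_val b D)
        rw [← h1, ← (beta b d).linearCombination_repr ((SymTen.TS A B d).val D),
          Finsupp.apply_linearCombination, Finsupp.linearCombination_apply, Finsupp.sum,
          AddSubmonoidClass.coe_finsetSum]
        refine S.sum_mem fun t ht => ?_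
        show ((beta b d).repr D.1 t) • (retr b (beta b d t)).1 ∈ S
        refine S.smul_mem ?_ _
        rw [retr_beta]
        split_ifs with h
        · refine ih (nz (rep (cls t))).card ?_ _ rfl
          by_contra hge
          push Not at hge
          exact Finsupp.mem_support_iff.1 ht (hcoord t (by rwa [← h] at hge))
        · exact S.zero_mem
      have hfinal : (orb b q).1 = e * (orb b (cls c')).1 - D.1 := (sub_sub_cancel _ _).symm
      rw [hfinal]
      exact S.sub_mem (S.mul_mem (hS _ _) hR) hDS
  intro t ht
  have h1 : (⟨t, ht⟩ : SymTen.TS A B d) ∈
      Submodule.span A (Set.range (orb b : Orb κ d → SymTen.TS A B d)) := by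
    rw [span_orb]; trivial
  have h2 := Submodule.mem_map_of_mem (f := (SymTen.TS A B d).val.toLinearMap) h1
  rw [Submodule.map_span] at h2
  refine (Submodule.span_le (p := Subalgebra.toSubmodule S)).2 ?_ h2
  rintro _ ⟨_, ⟨q, rfl⟩, rfl⟩
  exact key _ q rfl

theorem tmap_esymT {C : Type u} [CommRing C] [Algebra A C] (f : B →ₐ[A] C) (a : B) (j : ℕ) :
    SymTen.tmap A d f (esymT A d a j) = esymT A d (f a) j := by
  simp only [esymT, map_sum, SymTen.tmap_tprod]
  refine Finset.sum_congr rfl fun I _ => congrArg _ (funext fun i => ?_)
  split_ifs <;> simp

variable (A B d) in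
theorem TS_eq_adjoin_esymT [Module.Flat A B] :
    SymTen.TS A B d = Algebra.adjoin A {t | ∃ (a : B) (j : ℕ), t = esymT A d a j} := by
  classical
  refine le_antisymm (fun t ht => ?_) (Algebra.adjoin_le ?_)
  · obtain ⟨n, g, t', ht', rfl⟩ := exists_invariant_lift t ((SymTen.mem_TS_iff A B d t).1 ht)
    let π : MvPolynomial B A →ₐ[A] B := MvPolynomial.aeval id
    let bM := MvPolynomial.basisMonomials B A
    let l : (Fin n → A) →ₗ[A] MvPolynomial B A :=
      (Pi.basisFun A (Fin n)).constr A fun i => MvPolynomial.X (g (Pi.basisFun A (Fin n) i))
    have hl : π.toLinearMap.comp l = g := (Pi.basisFun A (Fin n)).ext fun i => by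
      simp only [π, l, LinearMap.comp_apply, Module.Basis.constr_basis, AlgHom.toLinearMap_apply, MvPolynomial.aeval_X,
        id]
    have hmap : ∀ z, SymTen.tmap A d π z = tp d π.toLinearMap z := fun z => by
      induction z using PiTensorProduct.induction_on with
      | smul_tprod r x => simp
      | add x y hx hy => simp [hx, hy]
    have hT : tp d l t' ∈ SymTen.TS A (MvPolynomial B A) d :=
      (SymTen.mem_TS_iff A _ d _).2 fun σ => by rw [← tp_reindex, ht']
    have h := TS_le_of_esymT_mem bM (by simp [bM]) ((Algebra.adjoin A
      {t | ∃ (a : B) (j : ℕ), t = esymT A d a j}).comap (SymTen.tmap A d π))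
      (fun a j => Algebra.subset_adjoin ⟨π a, j, tmap_esymT π a j⟩) hT
    rw [Subalgebra.mem_comap, hmap, ← LinearMap.comp_apply, ← tp_comp, hl] at h
    exact h
  · rintro _ ⟨a, j, rfl⟩
    exact esymT_mem a j

end Groth.Agent.PolLib
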