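import Groth.Agent.PolLib.Points
import Mathlib.FieldTheory.IsAlgClosed.AlgebraicClosure
import Mathlib.FieldTheory.SeparableDegree
import Mathlib.RingTheory.Spectrum.Prime.RingHom
import Mathlib.RingTheory.LocalRing.ResidueField.Ideal

/-! Radicals of kernels and finiteness of the fibres of the image. -/

universe u v

open scoped TensorProduct

namespace Groth.Agent.PolLib

open PolLaw Polynomial

variable {A : Type u} [CommRing A] {B : Type u} [CommRing B] [Algebra A B]
  {C : Type u} [CommRing C] [Algebra A C] {d : ℕ}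

theorem point_value_eq_zero {K : Type u} [Field K] [Algebra A K] (F : MulLaw A B C d)
    (g : C →ₐ[A] K) (x : Fin d → (B →ₐ[A] K))
    (hx : ∀ (R : Type u) [CommRing R] [Algebra A R] (j : K →ₐ[A] R) (z : R ⊗[A] B),
      evl F (j.comp g) z = ∏ i, mu (j.comp (x i)) z)
    {A' : Type u} [CommRing A'] [Algebra A A'] {b' : A' ⊗[A] B}
    (hb : b' ∈ PolLaw.kerBC F.law A') (i : A' →ₐ[A] K) (k : Fin d) :
    mu (x k) (rB B i b') = 0 := by
  have h1 := charX_of_mem_kerBC F g hb i
  have h2 := charX_eq_prod F g x hx (AlgHom.id A K) (rB B i b')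
  rw [AlgHom.id_comp] at h2
  have h3 := congrArg (Polynomial.eval (mu (x k) (rB B i b'))) (h1.symm.trans h2)
  rw [Polynomial.eval_prod, Finset.prod_eq_zero (Finset.mem_univ k) (by simp)] at h3
  simp only [Polynomial.eval_pow, Polynomial.eval_neg, Polynomial.eval_X] at h3
  exact neg_eq_zero.mp (eq_zero_of_pow_eq_zero h3)

theorem radical_kerBC (F : MulLaw A B A d) (A' : Type u) [CommRing A'] [Algebra A A'] :
    (PolLaw.kerBC F.law A').radical =
      ((PolLaw.ker F.law).map
        (Algebra.TensorProduct.includeRight : B →ₐ[A] A' ⊗[A] B)).radical := by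
  refine le_antisymm ?_ (Ideal.radical_mono (map_ker_le_kerBC F A'))
  rw [Ideal.radical_le_radical_iff]
  intro b' hb
  rw [Ideal.radical_eq_sInf, Submodule.mem_sInf]
  rintro Q ⟨hQ, hQp⟩
  let K := AlgebraicClosure (Ideal.ResidueField Q)
  let q : A' ⊗[A] B →ₐ[A] K := IsScalarTower.toAlgHom A (A' ⊗[A] B) K
  let i : A' →ₐ[A] K := q.comp Algebra.TensorProduct.includeLeft
  let y : B →ₐ[A] K := q.comp Algebra.TensorProduct.includeRight
  obtain ⟨x, hx⟩ := exists_points F (Algebra.ofId A K)
  have hker : RingHom.ker (algebraMap (A' ⊗[A] B) K) = Q := by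
    rw [IsScalarTower.algebraMap_eq (A' ⊗[A] B) (Ideal.ResidueField Q) K, RingHom.ker_comp_of_injective _
      (RingHom.injective _), Ideal.ker_algebraMap_residueField]
  have hy : ∀ b ∈ PolLaw.ker F.law, y b = 0 := fun b hb' => by
    have h1 : (1 : A') ⊗ₜ[A] b ∈ RingHom.ker (algebraMap (A' ⊗[A] B) K) := by
      rw [hker]; exact hQ (Ideal.mem_map_of_mem _ hb')
    exact h1
  obtain ⟨k, hk⟩ := point_eq_of_kills_ker hx y hy
  have h2 : ∀ z, mu y (rB B i z) = q z := by
    intro z
    induction z using TensorProduct.induction_on with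
    | zero => simp
    | add a b ha hb => simp [ha, hb]
    | tmul a b => simp [i, y, ← map_mul]
  have h3 := point_value_eq_zero F (Algebra.ofId A K) x hx hb i k
  rw [← hk, h2] at h3
  rw [← hker]
  exact h3

theorem radical_ker_precomp {B' : Type u} [CommRing B'] [Algebra A B'] (F : MulLaw A B A d)
    (φ : B' →ₐ[A] B) :
    (PolLaw.ker (MulLaw.precomp F φ).law).radical = ((PolLaw.ker F.law).comap φ).radical := by
  refine le_antisymm ?_ (Ideal.radical_mono ?_)
  · rw [Ideal.radical_le_radical_iff]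
    intro b' hb
    rw [← Ideal.comap_radical, Ideal.mem_comap, Ideal.radical_eq_sInf, Submodule.mem_sInf]
    rintro Q ⟨hQ, hQp⟩
    let K := AlgebraicClosure (Ideal.ResidueField Q)
    let y : B →ₐ[A] K := IsScalarTower.toAlgHom A B K
    have hker : RingHom.ker (algebraMap B K) = Q := by
      rw [IsScalarTower.algebraMap_eq B (Ideal.ResidueField Q) K, RingHom.ker_comp_of_injective _
        (RingHom.injective _), Ideal.ker_algebraMap_residueField]
    obtain ⟨x, hx⟩ := exists_points F (Algebra.ofId A K)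
    obtain ⟨k, hk⟩ := point_eq_of_kills_ker hx y fun b hb' =>
      show b ∈ RingHom.ker (algebraMap B K) from by rw [hker]; exact hQ hb'
    have hx' : ∀ (R : Type u) [CommRing R] [Algebra A R] (j : K →ₐ[A] R) (z : R ⊗[A] B'),
        evl (MulLaw.precomp F φ) (j.comp (Algebra.ofId A K)) z =
          ∏ i, mu (j.comp ((x i).comp φ)) z := by
      intro R _ _ j z
      rw [evl, ev_precomp]
      refine (hx R j (bc φ R z)).trans (Finset.prod_congr rfl fun i _ => ?_)
      rw [mu_bc, AlgHom.comp_assoc]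
    have h3 := point_kills_ker hx' hb k
    rw [← hker]
    rw [AlgHom.comp_apply, ← hk] at h3
    exact h3
  · intro b hb S _ _ x w
    show ev (MulLaw.precomp F φ) S _ = ev (MulLaw.precomp F φ) S _
    rw [ev_precomp, ev_precomp, map_add, map_mul, bc_tmul]
    exact hb S _ _

/-- A prime of an integral algebra is cut out by a map to an algebraically closed field. -/
theorem exists_point_ker {I : Type v} [CommRing I] [Algebra A I] [Algebra.IsIntegral A I]
    {Ω : Type u} [Field Ω] [IsAlgClosed Ω] [Algebra A Ω] (P : Ideal I) [P.IsPrime]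
    (hP : P.comap (algebraMap A I) = RingHom.ker (algebraMap A Ω)) :
    ∃ g : I →ₐ[A] Ω, RingHom.ker g = P := by
  obtain ⟨g, hg⟩ := exists_ringHom_ext_of_isIntegral (T := I ⧸ P) (algebraMap A Ω) (by
    intro a ha
    rw [← hP, Ideal.mem_comap, ← Ideal.Quotient.eq_zero_iff_mem]
    exact ha)
  refine ⟨AlgHom.mk (g.comp (Ideal.Quotient.mk P)) fun a => DFunLike.congr_fun hg a, ?_⟩
  refine le_antisymm (fun x hx => ?_) fun x hx => ?_
  · by_contra hxP
    have : (RingHom.ker (g.comp (Ideal.Quotient.mk P))).IsPrime := RingHom.ker_isPrime _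
    have hlt := Ideal.comap_lt_comap_of_integral_mem_sdiff (R := A) (I := P)
      (J := RingHom.ker (g.comp (Ideal.Quotient.mk P)))
      (fun z hz => by
        rw [RingHom.mem_ker, RingHom.comp_apply, Ideal.Quotient.eq_zero_iff_mem.mpr hz, map_zero])
      ⟨hx, hxP⟩ (Algebra.IsIntegral.isIntegral x)
    refine hlt.ne (hP.trans ?_)
    ext a
    rw [Ideal.mem_comap, RingHom.mem_ker, RingHom.mem_ker]
    exact Eq.congr_left (DFunLike.congr_fun hg a).symm
  · show g (Ideal.Quotient.mk P x) = 0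
    rw [Ideal.Quotient.eq_zero_iff_mem.mpr hx, map_zero]

variable (F : MulLaw A B A d)

theorem finite_primes_over (p : Ideal A) [p.IsPrime] :
    ∃ f : {P : PrimeSpectrum (PolLaw.image F.law) // P.asIdeal.comap (algebraMap A _) = p} → Fin d,
      Function.Injective f := by
  have := isIntegral_image F
  let Ω := AlgebraicClosure p.ResidueField
  have hker : RingHom.ker (algebraMap A Ω) = p := by
    rw [IsScalarTower.algebraMap_eq A p.ResidueField Ω, RingHom.ker_comp_of_injective _
      (RingHom.injective _), Ideal.ker_algebraMap_residueField]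
  obtain ⟨x, hx⟩ := exists_points F (Algebra.ofId A Ω)
  have h1 : ∀ P : {P : PrimeSpectrum (PolLaw.image F.law) //
      P.asIdeal.comap (algebraMap A _) = p}, ∃ k, ∀ b : B,
      Ideal.Quotient.mk _ b ∈ P.1.asIdeal ↔ x k b = 0 := by
    intro P
    obtain ⟨g, hg⟩ := exists_point_ker (Ω := Ω) P.1.asIdeal (P.2.trans hker.symm)
    obtain ⟨k, hk⟩ := point_eq_of_kills_ker hx (g.comp (Ideal.Quotient.mkₐ A _)) fun b hb => by
      rw [AlgHom.comp_apply, Ideal.Quotient.mkₐ_eq_mk, Ideal.Quotient.eq_zero_iff_mem.mpr hb,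
        map_zero]
    refine ⟨k, fun b => ?_⟩
    rw [← hg, ← hk]
    rfl
  choose f hf using h1
  refine ⟨f, fun P Q h => Subtype.ext (PrimeSpectrum.ext (Ideal.ext fun z => ?_))⟩
  obtain ⟨b, rfl⟩ := Ideal.Quotient.mk_surjective z
  rw [hf P b, hf Q b, h]

theorem finite_maximalSpectrum_image [Finite (MaximalSpectrum A)] :
    Finite (MaximalSpectrum (PolLaw.image F.law)) := by
  have := isIntegral_image F
  choose f hf using fun m : MaximalSpectrum A =>
    @finite_primes_over A _ B _ _ d F m.asIdeal m.isMaximal.isPrime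
  let down : MaximalSpectrum (PolLaw.image F.law) → MaximalSpectrum A := fun M =>
    ⟨M.asIdeal.comap (algebraMap A _),
      @Ideal.isMaximal_comap_of_isIntegral_of_isMaximal _ _ _ _ _ _ M.asIdeal M.isMaximal⟩
  let e : MaximalSpectrum (PolLaw.image F.law) → MaximalSpectrum A × Fin d := fun M =>
    (down M, f (down M) ⟨⟨M.asIdeal, M.isMaximal.isPrime⟩, rfl⟩)
  refine Finite.of_injective e fun M N h => ?_
  simp only [e, Prod.mk.injEq] at h
  obtain ⟨h1, h2⟩ := h
  have h1' : M.asIdeal.comap (algebraMap A _) = N.asIdeal.comap (algebraMap A _) :=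
    congrArg MaximalSpectrum.asIdeal h1
  have key : ∀ (m : MaximalSpectrum A) (hm : m = down M) (hn : m = down N),
      f m ⟨⟨M.asIdeal, M.isMaximal.isPrime⟩, by rw [hm]⟩ =
        f m ⟨⟨N.asIdeal, N.isMaximal.isPrime⟩, by rw [hn]⟩ → M = N := by
    intro m hm hn hh
    exact MaximalSpectrum.ext (congrArg (fun P => P.1.asIdeal) (hf m hh))
  refine key (down M) rfl h1 (h2.trans ?_)
  have tr : ∀ (m m' : MaximalSpectrum A) (_ : m = m') (hn : N.asIdeal.comap (algebraMap A _) = m.asIdeal)
      (hn' : N.asIdeal.comap (algebraMap A _) = m'.asIdeal),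
      f m' ⟨⟨N.asIdeal, N.isMaximal.isPrime⟩, hn'⟩ = f m ⟨⟨N.asIdeal, N.isMaximal.isPrime⟩, hn⟩ := by
    intro m m' hmm hn hn'
    subst hmm
    rfl
  exact tr (down M) (down N) h1 _ _

theorem exists_surjective_spec_tensor (K : Type u) [Field K] [Algebra A K] :
    ∃ f : PrimeSpectrum (K ⊗[A] PolLaw.image F.law) → Fin d, Function.Injective f := by
  have := isIntegral_image F
  let Ω := AlgebraicClosure K
  obtain ⟨x, hx⟩ := exists_points F (Algebra.ofId A Ω)
  have hfield : ∀ P : PrimeSpectrum (K ⊗[A] PolLaw.image F.law),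
      P.asIdeal.comap (algebraMap K _) = RingHom.ker (algebraMap K Ω) := by
    intro P
    rw [(RingHom.injective_iff_ker_eq_bot _).mp (RingHom.injective (algebraMap K Ω))]
    exact (Ideal.eq_bot_or_top _).resolve_right (Ideal.IsPrime.ne_top inferInstance)
  have h1 : ∀ P : PrimeSpectrum (K ⊗[A] PolLaw.image F.law), ∃ (g : _ →ₐ[K] Ω) (k : Fin d),
      RingHom.ker g = P.asIdeal ∧ ∀ b : B, g (1 ⊗ₜ[A] Ideal.Quotient.mk _ b) = x k b := by
    intro P
    obtain ⟨g, hg⟩ := exists_point_ker (A := K) (Ω := Ω) P.asIdeal (hfield P)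
    let y : B →ₐ[A] Ω := (g.restrictScalars A).comp
      (Algebra.TensorProduct.includeRight.comp (Ideal.Quotient.mkₐ A _))
    obtain ⟨k, hk⟩ := point_eq_of_kills_ker hx y fun b hb => by
      simp [y, Ideal.Quotient.eq_zero_iff_mem.mpr hb]
    exact ⟨g, k, hg, fun b => DFunLike.congr_fun hk b⟩
  choose g k hg hk using h1
  refine ⟨k, fun P Q h => PrimeSpectrum.ext ?_⟩
  rw [← hg P, ← hg Q]
  congr 1
  refine Algebra.TensorProduct.ext (AlgHom.ext fun c => ?_) (AlgHom.ext fun z => ?_)
  · show g P (c ⊗ₜ[A] 1) = g Q (c ⊗ₜ[A] 1)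
    exact ((g P).commutes c).trans ((g Q).commutes c).symm
  · obtain ⟨b, rfl⟩ := Ideal.Quotient.mk_surjective z
    show g P (1 ⊗ₜ[A] Ideal.Quotient.mk _ b) = g Q (1 ⊗ₜ[A] Ideal.Quotient.mk _ b)
    rw [hk, hk, h]

theorem natCard_spec_tensor_le (K : Type u) [Field K] [Algebra A K] :
    Finite (PrimeSpectrum (K ⊗[A] PolLaw.image F.law)) ∧
      Nat.card (PrimeSpectrum (K ⊗[A] PolLaw.image F.law)) ≤ d := by
  obtain ⟨f, hf⟩ := exists_surjective_spec_tensor F K
  exact ⟨Finite.of_injective f hf, (Nat.card_le_card_of_injective f hf).trans (by simp)⟩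

theorem natCard_spec_image_le {k : Type u} [Field k] [Algebra k B] (F : MulLaw k B k d) :
    Finite (PrimeSpectrum (PolLaw.image F.law)) ∧ Nat.card (PrimeSpectrum (PolLaw.image F.law)) ≤ d ∧
      ∀ P : PrimeSpectrum (PolLaw.image F.law), P.asIdeal.IsMaximal ∧
        Finite (Field.Emb k P.asIdeal.ResidueField) := by
  have := isIntegral_image F
  obtain ⟨h1, h2⟩ := natCard_spec_tensor_le F k
  let e := Algebra.TensorProduct.lid k (PolLaw.image F.law)
  have he : Function.Injective (PrimeSpectrum.comap e.toAlgHom.toRingHom) := fun P Q h =>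
    PrimeSpectrum.ext (Ideal.comap_injective_of_surjective e.toAlgHom.toRingHom e.surjective
      (congrArg PrimeSpectrum.asIdeal h))
  refine ⟨Finite.of_injective _ he, (Nat.card_le_card_of_injective _ he).trans h2, fun P => ?_⟩
  have hmax : P.asIdeal.IsMaximal := by
    refine Ideal.isMaximal_of_isIntegral_of_isMaximal_comap (R := k) _ ?_
    have : P.asIdeal.comap (algebraMap k _) = ⊥ :=
      (Ideal.eq_bot_or_top _).resolve_right (Ideal.IsPrime.ne_top inferInstance)
    rw [this]
    exact Ideal.bot_isMaximal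
  refine ⟨hmax, ?_⟩
  let L := P.asIdeal.ResidueField
  let Ω := AlgebraicClosure L
  obtain ⟨x, hx⟩ := exists_points F (Algebra.ofId k Ω)
  let m : B →ₐ[k] L :=
    (IsScalarTower.toAlgHom k (PolLaw.image F.law) L).comp (Ideal.Quotient.mkₐ k _)
  have hm : Function.Surjective m :=
    (Ideal.algebraMap_residueField_surjective P.asIdeal).comp Ideal.Quotient.mk_surjective
  have h3 : ∀ σ : L →ₐ[k] Ω, ∃ j, σ.comp m = x j := fun σ =>
    point_eq_of_kills_ker hx (σ.comp m) fun b hb => by
      simp [m, Ideal.Quotient.eq_zero_iff_mem.mpr hb]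
  choose j hj using h3
  refine Finite.of_injective (α := L →ₐ[k] Ω) j fun σ τ h => AlgHom.ext fun l => ?_
  obtain ⟨b, rfl⟩ := hm l
  exact DFunLike.congr_fun ((hj σ).trans ((congrArg x h).trans (hj τ).symm)) b

end Groth.Agent.PolLib
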