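import Groth.Agent.PolLib.Ker
import Groth.Agent.PolLib.Chi
import Mathlib.RingTheory.Finiteness.Basic
import Mathlib.RingTheory.Localization.Basic
import Mathlib.RingTheory.MvPolynomial.Basic
import Mathlib.RingTheory.AdjoinRoot
import Mathlib.LinearAlgebra.Vandermonde
import Mathlib.FieldTheory.Separable

/-! For an algebra finite as a module, membership in a base-changed kernel is one identity. -/

universe u

open scoped TensorProduct

namespace Groth.Agent.PolLib

open PolLaw

variable {A : Type u} [CommRing A] {B : Type u} [CommRing B] [Algebra A B] {d : ℕ}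
  (F : MulLaw A B A d) {m : ℕ} (e : Fin m → B)

variable (A) in
/-- The polynomial ring with two generic elements. -/
abbrev UR (A' : Type u) [CommRing A'] (m : ℕ) : Type u := MvPolynomial (Fin m ⊕ Fin m) A'

section

variable (A' : Type u) [CommRing A'] [Algebra A A']

/-- The first generic element. -/
noncomputable def xG : UR A' m ⊗[A] B := ∑ k, MvPolynomial.X (Sum.inl k) ⊗ₜ[A] e k

/-- The second generic element. -/
noncomputable def wG : UR A' m ⊗[A] B := ∑ k, MvPolynomial.X (Sum.inr k) ⊗ₜ[A] e k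

/-- The inclusion of constants. -/
noncomputable def cG : A' →ₐ[A] UR A' m := IsScalarTower.toAlgHom A A' (UR A' m)

/-- The defect of an element at the generic arguments. -/
noncomputable def defect (b' : A' ⊗[A] B) : UR A' m :=
  evl F (Algebra.ofId A (UR A' m)) (xG e A' + wG e A' * rB B (cG A') b') -
    evl F (Algebra.ofId A (UR A' m)) (xG e A')

theorem defect_zero : defect F e A' 0 = 0 := by
  rw [defect, map_zero, mul_zero, add_zero, sub_self]

end

theorem defect_map {A' A'' : Type u} [CommRing A'] [Algebra A A'] [CommRing A''] [Algebra A A'']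
    (ψ : A' →ₐ[A] A'') (b' : A' ⊗[A] B) :
    MvPolynomial.mapAlgHom ψ (defect F e A' b') = defect F e A'' (rB B ψ b') := by
  let Ψ : UR A' m →ₐ[A] UR A'' m := MvPolynomial.mapAlgHom ψ
  have h : ∀ z, Ψ (evl F (Algebra.ofId A (UR A' m)) z) =
      evl F (Algebra.ofId A (UR A'' m)) (rB B Ψ z) := fun z =>
    (evl_nat' F _ Ψ (Subsingleton.elim _ _) z).symm
  show Ψ _ = _
  rw [defect, defect, map_sub, h, h, map_add, map_mul]
  have hx : rB B Ψ (xG e A') = xG e A'' := by
    simp [xG, map_sum, Ψ]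
  have hw : rB B Ψ (wG e A') = wG e A'' := by
    simp [wG, map_sum, Ψ]
  have hc : Ψ.comp (cG A') = (cG A'').comp ψ := AlgHom.ext fun a => by simp [Ψ, cG]
  rw [hx, hw, rB_rB, hc, ← rB_rB]

theorem exists_coeffs_of_span (he : Submodule.span A (Set.range e) = ⊤) {R : Type u} [CommRing R]
    [Algebra A R] (x : R ⊗[A] B) : ∃ r : Fin m → R, x = ∑ k, r k ⊗ₜ[A] e k := by
  induction x using TensorProduct.induction_on with
  | zero => exact ⟨0, by simp⟩
  | add a b ha hb =>
    obtain ⟨r, rfl⟩ := ha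
    obtain ⟨s, rfl⟩ := hb
    exact ⟨r + s, by simp [TensorProduct.add_tmul, Finset.sum_add_distrib]⟩
  | tmul s b =>
    have hb : b ∈ Submodule.span A (Set.range e) := he ▸ trivial
    obtain ⟨c, rfl⟩ := (Submodule.mem_span_range_iff_exists_fun A).mp hb
    refine ⟨fun k => c k • s, ?_⟩
    rw [TensorProduct.tmul_sum]
    exact Finset.sum_congr rfl fun k _ => by rw [TensorProduct.tmul_smul, TensorProduct.smul_tmul']

theorem mem_kerBC_iff_defect (he : Submodule.span A (Set.range e) = ⊤) {A' : Type u} [CommRing A']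
    [Algebra A A'] (b' : A' ⊗[A] B) :
    b' ∈ PolLaw.kerBC F.law A' ↔ defect F e A' b' = 0 := by
  constructor
  · intro h
    rw [defect, sub_eq_zero]
    exact evl_add_of_mem_kerBC F h (cG A') _ _ _
  · intro h
    refine mem_kerBC_of_evl F fun R _ _ i g x w => ?_
    obtain ⟨r, rfl⟩ := exists_coeffs_of_span e he x
    obtain ⟨s, rfl⟩ := exists_coeffs_of_span e he w
    let θ : UR A' m →ₐ[A] R :=
      AlgHom.mk (MvPolynomial.eval₂Hom i.toRingHom (Sum.elim r s)) (fun a => by
        show MvPolynomial.eval₂Hom _ _ (MvPolynomial.C (algebraMap A A' a)) = _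
        rw [MvPolynomial.eval₂Hom_C]
        exact i.commutes a)
    have hθ : θ.comp (cG A') = i := AlgHom.ext fun a => by simp [θ, cG]
    have h1 := congrArg θ h
    rw [map_zero, defect, map_sub, sub_eq_zero, ← evl_nat' F _ θ (Subsingleton.elim _ g),
      ← evl_nat' F _ θ (Subsingleton.elim _ g), map_add, map_mul, rB_rB, hθ] at h1
    have hx : rB B θ (xG e A') = ∑ k, r k ⊗ₜ[A] e k := by simp [xG, map_sum, θ]
    have hw : rB B θ (wG e A') = ∑ k, s k ⊗ₜ[A] e k := by simp [wG, map_sum, θ]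
    rwa [hx, hw] at h1

theorem one_tmul_mem_kerBC_self {b : B} :
    (1 : A) ⊗ₜ[A] b ∈ PolLaw.kerBC F.law A ↔ b ∈ PolLaw.ker F.law := by
  refine ⟨fun h => ?_, fun h => map_ker_le_kerBC F A (Ideal.mem_map_of_mem _ h)⟩
  rw [mem_ker_iff_evl]
  intro R _ _ g x w
  have := evl_add_of_mem_kerBC F h (Algebra.ofId A R) g x w
  rwa [rB_tmul, map_one] at this

theorem map_algebraMap_defect {b : B} (A' : Type u) [CommRing A'] [Algebra A A'] :
    MvPolynomial.map (algebraMap A A') (defect F e A ((1 : A) ⊗ₜ[A] b)) =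
      defect F e A' ((1 : A') ⊗ₜ[A] b) := by
  rw [← map_one (Algebra.ofId A A'), ← rB_tmul, ← defect_map]
  rfl

theorem mem_ker_of_injective (he : Submodule.span A (Set.range e) = ⊤) {A' : Type u} [CommRing A']
    [Algebra A A'] (hinj : Function.Injective (algebraMap A A')) {b : B}
    (h : (1 : A') ⊗ₜ[A] b ∈ PolLaw.kerBC F.law A') : b ∈ PolLaw.ker F.law := by
  rw [← one_tmul_mem_kerBC_self, mem_kerBC_iff_defect F e he]
  rw [mem_kerBC_iff_defect F e he, ← map_algebraMap_defect] at h
  exact MvPolynomial.map_injective _ hinj (by rw [h, map_zero])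

theorem map_ker_eq_kerBC_localization [Module.Finite A B] (M : Submonoid A) (A' : Type u)
    [CommRing A'] [Algebra A A'] [IsLocalization M A'] :
    (PolLaw.ker F.law).map (Algebra.TensorProduct.includeRight : B →ₐ[A] A' ⊗[A] B) =
      PolLaw.kerBC F.law A' := by
  classical
  refine le_antisymm (map_ker_le_kerBC F A') fun b' hb' => ?_
  obtain ⟨n, e, he⟩ := Module.Finite.exists_fin (R := A) (M := B)
  have hform : ∃ (s : M) (b : B), algebraMap A A' s • b' = (1 : A') ⊗ₜ[A] b := by
    clear hb'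
    induction b' using TensorProduct.induction_on with
    | zero => exact ⟨1, 0, by simp⟩
    | tmul a c =>
      obtain ⟨a, s, rfl⟩ := IsLocalization.exists_mk'_eq M a
      refine ⟨s, a • c, ?_⟩
      rw [TensorProduct.smul_tmul', smul_eq_mul, IsLocalization.mk'_spec', TensorProduct.tmul_smul,
        TensorProduct.smul_tmul', Algebra.algebraMap_eq_smul_one]
    | add u v hu hv =>
      obtain ⟨s, b, hb⟩ := hu
      obtain ⟨t, c, hc⟩ := hv
      refine ⟨s * t, (t : A) • b + (s : A) • c, ?_⟩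
      rw [algebraMap_smul] at hb hc
      rw [algebraMap_smul, Submonoid.coe_mul, smul_add, TensorProduct.tmul_add,
        TensorProduct.tmul_smul, TensorProduct.tmul_smul, ← hb, ← hc, ← mul_smul, ← mul_smul,
        mul_comm (t : A)]
  obtain ⟨s, b, hsb⟩ := hform
  have hmem : (1 : A') ⊗ₜ[A] b ∈ PolLaw.kerBC F.law A' := by
    rw [← hsb, Algebra.smul_def]
    exact Ideal.mul_mem_left _ _ hb'
  rw [mem_kerBC_iff_defect F e he, ← map_algebraMap_defect] at hmem
  let P := defect F e A ((1 : A) ⊗ₜ[A] b)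
  have hco : ∀ μ, ∃ t : M, (t : A) * P.coeff μ = 0 := fun μ => by
    refine (IsLocalization.map_eq_zero_iff M A' (P.coeff μ)).mp ?_
    rw [← MvPolynomial.coeff_map, hmem, MvPolynomial.coeff_zero]
  choose t ht using hco
  let r : M := ∏ μ ∈ P.support, t μ
  have hr : ∀ μ ∈ P.support, (r : A) * P.coeff μ = 0 := fun μ hμ => by
    rw [show r = t μ * ∏ ν ∈ P.support.erase μ, t ν from (Finset.mul_prod_erase _ _ hμ).symm,
      Submonoid.coe_mul, mul_comm ((t μ : A)), mul_assoc, ht, mul_zero]
  have hker : (r : A) • b ∈ PolLaw.ker F.law := by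
    rw [← one_tmul_mem_kerBC_self, mem_kerBC_iff_defect F e he]
    let θ : A → UR A n →ₐ[A] UR A n := fun c => MvPolynomial.aeval
      (Sum.elim (fun k => MvPolynomial.X (Sum.inl k))
        fun k => MvPolynomial.C c * MvPolynomial.X (Sum.inr k))
    have hθ : ∀ c : A, θ c P = defect F e A ((1 : A) ⊗ₜ[A] (c • b)) := by
      intro c
      show θ c (defect F e A _) = _
      rw [defect, defect, map_sub, ← evl_nat' F _ (θ c) (Subsingleton.elim _ _),
        ← evl_nat' F _ (θ c) (Subsingleton.elim _ _), map_add, map_mul]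
      have hx : rB B (θ c) (xG e A) = xG e A := by simp [xG, map_sum, θ]
      have hc : (θ c).comp (cG A) = cG A := Subsingleton.elim _ _
      have hw : rB B (θ c) (wG e A) = (MvPolynomial.C c ⊗ₜ[A] (1 : B)) * wG e A := by
        simp [wG, map_sum, θ, Finset.mul_sum, Algebra.TensorProduct.tmul_mul_tmul]
      rw [hx, rB_rB, hc, hw]
      congr 2
      congr 1
      rw [mul_comm (MvPolynomial.C c ⊗ₜ[A] (1 : B)), mul_assoc]
      congr 1
      rw [rB_tmul, rB_tmul, map_one, Algebra.TensorProduct.tmul_mul_tmul, mul_one, one_mul,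
        TensorProduct.tmul_smul, TensorProduct.smul_tmul', Algebra.smul_def, mul_one]
      rfl
    have hθ0 : θ (r : A) P = θ 0 P := by
      conv_lhs => rw [P.as_sum]
      conv_rhs => rw [P.as_sum]
      rw [map_sum, map_sum]
      refine Finset.sum_congr rfl fun μ hμ => ?_
      simp only [θ, MvPolynomial.aeval_monomial, Finsupp.prod]
      have key : ∀ (T : Finset (Fin n ⊕ Fin n)),
          algebraMap A (UR A n) (P.coeff μ) * ∏ i ∈ T, (Sum.elim (fun k => MvPolynomial.X (Sum.inl k))
            (fun k => MvPolynomial.C (r : A) * MvPolynomial.X (Sum.inr k)) i) ^ μ i =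
          algebraMap A (UR A n) (P.coeff μ) * ∏ i ∈ T, (Sum.elim (fun k => MvPolynomial.X (Sum.inl k))
            (fun k => MvPolynomial.C (0 : A) * MvPolynomial.X (Sum.inr k)) i) ^ μ i := by
        intro T
        induction T using Finset.induction_on with
        | empty => simp
        | insert i T hi ih =>
          rw [Finset.prod_insert hi, Finset.prod_insert hi, mul_left_comm, ih, mul_left_comm]
          rcases i with k | k
          · rfl
          · rcases Nat.eq_zero_or_pos (μ (Sum.inr k)) with h0 | h0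
            · simp [h0]
            · obtain ⟨j, hj⟩ := Nat.exists_eq_add_of_le' h0
              have h1 : algebraMap A (UR A n) (P.coeff μ) * MvPolynomial.C (r : A) = 0 := by
                rw [MvPolynomial.algebraMap_eq, ← map_mul, mul_comm, hr μ hμ, map_zero]
              simp only [Sum.elim_inr, hj, pow_succ, map_zero, zero_mul, mul_zero]
              generalize (∏ i ∈ T, _ : UR A n) = Q
              linear_combination ((MvPolynomial.C (r : A) * MvPolynomial.X (Sum.inr k)) ^ j *
                MvPolynomial.X (Sum.inr k) * Q) * h1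
      exact key _
    rw [← hθ, hθ0, hθ, zero_smul, TensorProduct.tmul_zero, defect_zero]
  have h1 : (1 : A') ⊗ₜ[A] ((r : A) • b) ∈
      (PolLaw.ker F.law).map (Algebra.TensorProduct.includeRight : B →ₐ[A] A' ⊗[A] B) :=
    Ideal.mem_map_of_mem _ hker
  rw [TensorProduct.tmul_smul, ← algebraMap_smul A' (r : A), ← hsb, smul_smul, ← map_mul,
    Algebra.smul_def] at h1
  have hu : IsUnit (algebraMap A' (A' ⊗[A] B) (algebraMap A A' ((r : A) * (s : A)))) :=
    (IsLocalization.map_units A' (r * s)).map _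
  exact (Ideal.unit_mul_mem_iff_mem _ hu).mp h1

theorem rB_mem_kerBC {A' A'' : Type u} [CommRing A'] [Algebra A A'] [CommRing A''] [Algebra A A'']
    (ψ : A' →ₐ[A] A'') {b' : A' ⊗[A] B} (h : b' ∈ PolLaw.kerBC F.law A') :
    rB B ψ b' ∈ PolLaw.kerBC F.law A'' := by
  refine mem_kerBC_of_evl F fun R _ _ i g x w => ?_
  rw [rB_rB]
  exact evl_add_of_mem_kerBC F h (i.comp ψ) g x w

theorem mem_ker_of_retraction {S : Type u} [CommRing S] [Algebra A S] (ρ : S →ₗ[A] A)
    (hρ : ρ 1 = 1) {b : B} (h : (1 : S) ⊗ₜ[A] b ∈ PolLaw.kerBC F.law S) :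
    b ∈ PolLaw.ker F.law := by
  rw [mem_ker_iff_evl]
  intro R _ _ g x w
  let ι : R →ₐ[A] R ⊗[A] S := Algebra.TensorProduct.includeLeft
  have hinj : Function.Injective ι := fun r r' hr => by
    have := congrArg (fun z => TensorProduct.rid A R (ρ.lTensor R z)) hr
    simpa [ι, hρ] using this
  refine hinj ?_
  rw [← evl_nat F g ι, ← evl_nat F g ι, map_add, map_mul, rB_tmul, map_one]
  have := evl_add_of_mem_kerBC F h (Algebra.TensorProduct.includeRight : S →ₐ[A] R ⊗[A] S)
    (ι.comp g) (rB B ι x) (rB B ι w)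
  rwa [rB_tmul, map_one] at this

theorem exists_split_ring : ∀ (n : ℕ) (R : Type u) [CommRing R] (g : Polynomial R), g.Monic →
    g.natDegree = n → ∃ (S : Type u) (_ : CommRing S) (_ : Algebra R S),
      (∃ ρ : S →ₗ[R] R, ρ 1 = 1) ∧
        ∃ a : Fin n → S, g.map (algebraMap R S) = ∏ i, (Polynomial.X - Polynomial.C (a i)) := by
  intro n
  induction n with
  | zero =>
    intro R _ g hg hn
    exact ⟨R, inferInstance, inferInstance, ⟨LinearMap.id, rfl⟩, Fin.elim0,
      by simp [hg.natDegree_eq_zero.mp hn]⟩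
  | succ n ih =>
    intro R _ g hg hn
    rcases subsingleton_or_nontrivial R with hR | hR
    · exact ⟨R, inferInstance, inferInstance, ⟨LinearMap.id, rfl⟩, 0, Subsingleton.elim _ _⟩
    let R₁ := AdjoinRoot g
    let pb := AdjoinRoot.powerBasis' hg
    have h0 : (0 : ℕ) < pb.dim := by
      rw [AdjoinRoot.powerBasis'_dim, hn]; omega
    have hb : pb.basis ⟨0, h0⟩ = 1 := by rw [pb.basis_eq_pow, pow_zero]
    let ρ₁ : R₁ →ₗ[R] R := pb.basis.coord ⟨0, h0⟩
    have hρ₁ : ρ₁ 1 = 1 := by
      simp only [ρ₁, ← hb, Module.Basis.coord_apply, Module.Basis.repr_self, Finsupp.single_eq_same]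
    have hroot : (g.map (algebraMap R R₁)).IsRoot (AdjoinRoot.root g) :=
      AdjoinRoot.isRoot_root g
    have : Nontrivial R₁ := by
      refine ⟨1, 0, fun h => one_ne_zero (α := R) ?_⟩
      rw [← hρ₁, h, map_zero]
    let q := g.map (algebraMap R R₁) /ₘ (Polynomial.X - Polynomial.C (AdjoinRoot.root g))
    have hq : (Polynomial.X - Polynomial.C (AdjoinRoot.root g)) * q = g.map (algebraMap R R₁) :=
      Polynomial.mul_divByMonic_eq_iff_isRoot.mpr hroot
    have hqm : q.Monic := (Polynomial.monic_X_sub_C _).of_mul_monic_left (hq ▸ hg.map _)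
    have hqd : q.natDegree = n := by
      have := congrArg Polynomial.natDegree hq
      rw [(Polynomial.monic_X_sub_C _).natDegree_mul hqm, Polynomial.natDegree_X_sub_C,
        hg.natDegree_map, hn] at this
      omega
    obtain ⟨S, _, _, ⟨ρ, hρ⟩, a, ha⟩ := ih R₁ q hqm hqd
    let _ : Algebra R S := ((algebraMap R₁ S).comp (algebraMap R R₁)).toAlgebra
    have : IsScalarTower R R₁ S := IsScalarTower.of_algebraMap_eq fun _ => rfl
    refine ⟨S, inferInstance, inferInstance,
      ⟨ρ₁.comp (ρ.restrictScalars R), by simp [hρ, hρ₁]⟩,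
      Fin.cons (algebraMap R₁ S (AdjoinRoot.root g)) a, ?_⟩
    rw [Fin.prod_univ_succ, Fin.cons_zero]
    simp only [Fin.cons_succ]
    rw [← ha, show g.map (algebraMap R S) = (g.map (algebraMap R R₁)).map (algebraMap R₁ S) by
      rw [Polynomial.map_map]; rfl, ← hq, Polynomial.map_mul, Polynomial.map_sub,
      Polynomial.map_X, Polynomial.map_C]

theorem isUnit_sub_of_separable {S : Type u} [CommRing S] {n : ℕ} (a : Fin n → S)
    (hsep : (∏ i, (Polynomial.X - Polynomial.C (a i))).Separable) {i j : Fin n} (hij : i ≠ j) :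
    IsUnit (a i - a j) := by
  classical
  obtain ⟨u, v, huv⟩ := hsep
  have h := congrArg (Polynomial.eval (a i)) huv
  rw [← Finset.mul_prod_erase _ _ (Finset.mem_univ i), Polynomial.derivative_mul,
    Polynomial.derivative_sub, Polynomial.derivative_X, Polynomial.derivative_C] at h
  simp only [sub_zero, one_mul, Polynomial.eval_add, Polynomial.eval_mul, Polynomial.eval_sub,
    Polynomial.eval_X, Polynomial.eval_C, Polynomial.eval_one, sub_self, zero_mul, mul_zero,
    add_zero, zero_add, Polynomial.eval_prod] at h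
  exact IsUnit.prod_iff.mp (IsUnit.of_mul_eq_one_right _ h) j
    (Finset.mem_erase.mpr ⟨hij.symm, Finset.mem_univ j⟩)

theorem map_ker_eq_kerBC_separable (g : Polynomial A) (hg : g.Monic)
    (hsep : g.Separable) :
    (PolLaw.ker F.law).map (Algebra.TensorProduct.includeRight : B →ₐ[A] AdjoinRoot g ⊗[A] B) =
      PolLaw.kerBC F.law (AdjoinRoot g) := by
  classical
  refine le_antisymm (map_ker_le_kerBC F _) fun b' hb' => ?_
  obtain ⟨pb, hpb⟩ : ∃ pb : PowerBasis A (AdjoinRoot g), pb = AdjoinRoot.powerBasis' hg := ⟨_, rfl⟩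
  obtain ⟨c, rfl⟩ : ∃ c : Fin pb.dim → B, b' = ∑ k, pb.basis k ⊗ₜ[A] c k := by
    clear hb'
    induction b' using TensorProduct.induction_on with
    | zero => exact ⟨0, by simp⟩
    | add u v hu hv =>
      obtain ⟨c, rfl⟩ := hu
      obtain ⟨c', rfl⟩ := hv
      exact ⟨c + c', by simp [TensorProduct.tmul_add, Finset.sum_add_distrib]⟩
    | tmul p b =>
      refine ⟨fun k => pb.basis.repr p k • b, ?_⟩
      conv_lhs => rw [← pb.basis.sum_repr p]
      rw [TensorProduct.sum_tmul]
      exact Finset.sum_congr rfl fun k _ => by rw [TensorProduct.tmul_smul, TensorProduct.smul_tmul']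
  obtain ⟨S, _, _, ⟨ρ, hρ⟩, a, ha⟩ := exists_split_ring _ A g hg rfl
  have hdim : pb.dim = g.natDegree := by rw [hpb]; exact AdjoinRoot.powerBasis'_dim hg
  let π : Fin g.natDegree → AdjoinRoot g →ₐ[A] S := fun i =>
    AdjoinRoot.liftAlgHom g (Algebra.ofId A S) (a i) (by
      show g.eval₂ (algebraMap A S) (a i) = 0
      rw [← Polynomial.eval_map, ha, Polynomial.eval_prod,
        Finset.prod_eq_zero (Finset.mem_univ i) (by simp)])
  have hπ : ∀ i (k : Fin pb.dim), π i (pb.basis k) = a i ^ (k : ℕ) := fun i k => by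
    rw [pb.basis_eq_pow, map_pow]
    congr 1
    rw [hpb]
    simp [π]
  have hz : ∀ i, ∑ k : Fin pb.dim, (a i ^ (k : ℕ)) ⊗ₜ[A] c k ∈ PolLaw.kerBC F.law S := fun i => by
    have := rB_mem_kerBC F (π i) hb'
    rw [map_sum] at this
    simp only [rB_tmul, hπ] at this
    exact this
  let M : Matrix (Fin pb.dim) (Fin pb.dim) S := Matrix.vandermonde fun i => a (Fin.cast hdim i)
  have hM : IsUnit M.det := by
    rw [Matrix.det_vandermonde]
    refine IsUnit.prod_iff.mpr fun i _ => IsUnit.prod_iff.mpr fun j hj => ?_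
    refine isUnit_sub_of_separable a (ha ▸ hsep.map) fun h => ?_
    exact (ne_of_gt (Finset.mem_Ioi.mp hj)) (Fin.cast_injective hdim h)
  have hc : ∀ k, c k ∈ PolLaw.ker F.law := fun k => by
    refine mem_ker_of_retraction F ρ hρ ?_
    have hk : (1 : S) ⊗ₜ[A] c k = ∑ i, (M⁻¹ k i ⊗ₜ[A] (1 : B)) *
        ∑ l : Fin pb.dim, (a (Fin.cast hdim i) ^ (l : ℕ)) ⊗ₜ[A] c l := by
      simp only [Finset.mul_sum, Algebra.TensorProduct.tmul_mul_tmul, one_mul]
      rw [Finset.sum_comm]
      simp only [← TensorProduct.sum_tmul]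
      have : ∀ l : Fin pb.dim, ∑ i, M⁻¹ k i * a (Fin.cast hdim i) ^ (l : ℕ) =
          (1 : Matrix (Fin pb.dim) (Fin pb.dim) S) k l := fun l => by
        rw [← Matrix.nonsing_inv_mul M hM, Matrix.mul_apply]
        rfl
      simp only [this, Matrix.one_apply]
      rw [Finset.sum_eq_single k (fun l _ hl => by rw [if_neg (Ne.symm hl), TensorProduct.zero_tmul])
        (fun h => absurd (Finset.mem_univ k) h), if_pos rfl]
    rw [hk]
    exact Ideal.sum_mem _ fun i _ => Ideal.mul_mem_left _ _ (hz _)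
  refine Ideal.sum_mem _ fun k _ => ?_
  rw [show pb.basis k ⊗ₜ[A] c k = (pb.basis k ⊗ₜ[A] (1 : B)) * (1 ⊗ₜ[A] c k) by
    rw [Algebra.TensorProduct.tmul_mul_tmul, mul_one, one_mul]]
  exact Ideal.mul_mem_left _ _ (Ideal.mem_map_of_mem _ (hc k))

theorem kerBC_eq_iSup [Module.Finite A B] {A' : Type u} [CommRing A'] [Algebra A A'] {ι : Type u}
    [Preorder ι] [IsDirected ι (fun i j => i ≤ j)] [Nonempty ι]
    (Ai : ι → Type u) [∀ i, CommRing (Ai i)] [∀ i, Algebra A (Ai i)]
    (t : ∀ i j : ι, i ≤ j → (Ai i →ₐ[A] Ai j)) (φ : ∀ i : ι, Ai i →ₐ[A] A')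
    (hcomp : ∀ (i j : ι) (h : i ≤ j), (φ j).comp (t i j h) = φ i)
    (hsurj : ∀ a : A', ∃ (i : ι) (x : Ai i), φ i x = a)
    (hzero : ∀ (i : ι) (x : Ai i), φ i x = 0 → ∃ (j : ι) (h : i ≤ j), t i j h x = 0)
    (htrans : ∀ (i j k : ι) (hij : i ≤ j) (hjk : j ≤ k),
      (t j k hjk).comp (t i j hij) = t i k (hij.trans hjk)) :
    PolLaw.kerBC F.law A' =
      ⨆ i : ι, (PolLaw.kerBC F.law (Ai i)).map
        (Algebra.TensorProduct.map (φ i) (AlgHom.id A B)) := by
  classical
  obtain ⟨m, e, he⟩ := Module.Finite.exists_fin (R := A) (M := B)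
  refine le_antisymm (fun b' hb' => ?_) (iSup_le fun i => Ideal.map_le_iff_le_comap.mpr fun b hb => ?_)
  · have hform : ∃ (i : ι) (b : Ai i ⊗[A] B), rB B (φ i) b = b' := by
      clear hb'
      induction b' using TensorProduct.induction_on with
      | zero => exact ⟨Classical.arbitrary ι, 0, map_zero _⟩
      | tmul a c =>
        obtain ⟨i, x, rfl⟩ := hsurj a
        exact ⟨i, x ⊗ₜ[A] c, rfl⟩
      | add u v hu hv =>
        obtain ⟨i, b, rfl⟩ := hu
        obtain ⟨j, c, rfl⟩ := hv
        obtain ⟨k, hik, hjk⟩ := directed_of (fun a b => a ≤ b) i j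
        refine ⟨k, rB B (t i k hik) b + rB B (t j k hjk) c, ?_⟩
        rw [map_add, rB_rB, rB_rB, hcomp, hcomp]
    obtain ⟨i, b, rfl⟩ := hform
    rw [mem_kerBC_iff_defect F e he, ← defect_map] at hb'
    have hco : ∀ μ, ∃ (j : ι) (h : i ≤ j), t i j h ((defect F e (Ai i) b).coeff μ) = 0 := fun μ => by
      refine hzero i _ ?_
      have h0 := congrArg (MvPolynomial.coeff μ) hb'
      rw [MvPolynomial.coeff_zero] at h0
      rw [← h0]
      exact (MvPolynomial.coeff_map (φ i).toRingHom _ μ).symm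
    choose j hj hjt using hco
    obtain ⟨k₀, hk₀⟩ := Finset.exists_le ((defect F e (Ai i) b).support.image j)
    obtain ⟨k, hik, hk₀k⟩ := directed_of (fun a b => a ≤ b) i k₀
    have hker : rB B (t i k hik) b ∈ PolLaw.kerBC F.law (Ai k) := by
      rw [mem_kerBC_iff_defect F e he, ← defect_map]
      refine MvPolynomial.ext _ _ fun μ => ?_
      rw [MvPolynomial.coeff_zero]
      refine Eq.trans (MvPolynomial.coeff_map (t i k hik).toRingHom _ μ) ?_
      by_cases hμ : μ ∈ (defect F e (Ai i) b).support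
      · show t i k hik _ = 0
        rw [← htrans i (j μ) k (hj μ) ((hk₀ _ (Finset.mem_image_of_mem _ hμ)).trans hk₀k),
          AlgHom.comp_apply, hjt, map_zero]
      · rw [MvPolynomial.notMem_support_iff.mp hμ, map_zero]
    refine Ideal.mem_iSup_of_mem k ?_
    have := Ideal.mem_map_of_mem (Algebra.TensorProduct.map (φ k) (AlgHom.id A B)) hker
    rwa [show Algebra.TensorProduct.map (φ k) (AlgHom.id A B) = rB B (φ k) from rfl, rB_rB,
      hcomp] at this
  · show rB B (φ i) b ∈ PolLaw.kerBC F.law A'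
    rw [mem_kerBC_iff_defect F e he] at hb ⊢
    rw [← defect_map, hb, map_zero]

end Groth.Agent.PolLib
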