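import Groth.Agent.PolLib.Flat
import Mathlib.Algebra.Algebra.Pi

/-! `Γ^d(B) = TS^d(B)` for flat `B`, and when `d!` is invertible. -/

universe u v w

open scoped TensorProduct

namespace Groth.Agent.PolLib

open PolLaw

variable {A : Type u} [CommRing A] {B : Type u} [CommRing B] [Algebra A B]
  {C : Type u} [CommRing C] [Algebra A C] {d n : ℕ}

theorem cf_tpowLaw_sum (v : Fin n → B) (q : Orb (Fin n) d) :
    cf (qexpo q) ((SymTen.tpowLaw A B d).law.toFun' (MvPolynomial (Fin n) A)
        (∑ j, MvPolynomial.X j ⊗ₜ[A] v j)) =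
      ∑ c ∈ fib q, PiTensorProduct.tprod A (fun i => v (c i)) := by
  classical
  rw [tpowLaw_sum]
  have e : ∀ c : Fin d → Fin n, (∏ i, (MvPolynomial.X (c i) : MvPolynomial (Fin n) A)) =
      MvPolynomial.monomial (expo c) 1 := fun c => by
    rw [expo, MvPolynomial.monomial_sum_one]
    rfl
  simp only [e, map_sum, cf_tmul, MvPolynomial.coeff_monomial, ite_smul, one_smul, zero_smul]
  rw [← Finset.sum_filter]
  refine Finset.sum_congr (Finset.ext fun c => ?_) fun _ _ => rfl
  rw [Finset.mem_filter, mem_fib, ← qexpo_cls]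
  exact ⟨fun h => qexpo_injective h.2, fun h => ⟨Finset.mem_univ _, by rw [h]⟩⟩

theorem tp_val_orb (g : (Fin n → A) →ₗ[A] B) (q : Orb (Fin n) d) :
    tp d g ((SymTen.TS A (Fin n → A) d).val (orb (Pi.basisFun A (Fin n)) q)) =
      cf (qexpo q) ((SymTen.tpowLaw A B d).law.toFun' (MvPolynomial (Fin n) A)
        (∑ j, MvPolynomial.X j ⊗ₜ[A] g (Pi.basisFun A (Fin n) j))) := by
  rw [cf_tpowLaw_sum, val_orb, map_sum]
  exact Finset.sum_congr rfl fun c _ => by rw [beta_apply, tp_tprod]

theorem mem_span_orb_of_invariant (t : ⨂[A]^d (Fin n → A))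
    (ht : ∀ σ, PiTensorProduct.reindex A (fun _ : Fin d => Fin n → A) σ t = t) :
    t ∈ Submodule.span A (Set.range fun q : Orb (Fin n) d =>
      (SymTen.TS A (Fin n → A) d).val (orb (Pi.basisFun A (Fin n)) q)) := by
  have h : (⟨t, ht⟩ : SymTen.TS A (Fin n → A) d) ∈
      Submodule.span A (Set.range (orb (Pi.basisFun A (Fin n)) (d := d))) := by
    rw [span_orb]; trivial
  have h2 := Submodule.mem_map_of_mem (f := (SymTen.TS A (Fin n → A) d).val.toLinearMap) h
  rw [Submodule.map_span, ← Set.range_comp] at h2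
  exact h2

variable (γ : MulLaw A B C d) (φ : C →ₐ[A] SymTen.TS A B d)
  (hφ : ∀ (S : Type u) [CommSemiring S] [Algebra A S] (x : S ⊗[A] B),
    bc ((SymTen.TS A B d).val.comp φ) S (ev γ S x) = (SymTen.tpowLaw A B d).law.toFun' S x)

include hφ in
theorem phi_surjective_of_flat [Module.Flat A B] : Function.Surjective φ := by
  intro z
  obtain ⟨m, g, t, ht, htz⟩ := exists_invariant_lift z.1 fun σ => z.2 σ
  have h2 : z.1 ∈ LinearMap.range ((SymTen.TS A B d).val.comp φ).toLinearMap := by
    rw [← htz]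
    have := Submodule.mem_map_of_mem (f := tp d g) (mem_span_orb_of_invariant t ht)
    rw [Submodule.map_span, ← Set.range_comp] at this
    refine Submodule.span_le.mpr ?_ this
    rintro _ ⟨q, rfl⟩
    refine ⟨cf (qexpo q) (ev γ _ (∑ j, MvPolynomial.X j ⊗ₜ[A] g (Pi.basisFun A (Fin m) j))), ?_⟩
    rw [AlgHom.toLinearMap_apply, ← cf_bc₀, hφ, Function.comp_apply, tp_val_orb]
  obtain ⟨x, hx⟩ := h2
  exact ⟨x, Subtype.val_injective hx⟩

theorem exists_finset_support {P : Type u} [CommRing P] [Algebra A P] {κ : Type u}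
    (b : Module.Basis κ A P) (t : ⨂[A]^d P) :
    ∃ (n : ℕ) (i : (Fin n → A) →ₗ[A] P) (p : P →ₗ[A] (Fin n → A)), tp d i (tp d p t) = t := by
  classical
  let s : Finset κ := ((beta b d).repr t).support.biUnion fun c => Finset.univ.image c
  let e := s.equivFin
  let i : (Fin s.card → A) →ₗ[A] P :=
    (Pi.basisFun A (Fin s.card)).constr A fun k => b (e.symm k).1
  let p : P →ₗ[A] (Fin s.card → A) :=
    b.constr A fun j => if h : j ∈ s then Pi.basisFun A (Fin s.card) (e ⟨j, h⟩) else 0
  refine ⟨s.card, i, p, ?_⟩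
  conv_lhs => rw [← (beta b d).linearCombination_repr t]
  conv_rhs => rw [← (beta b d).linearCombination_repr t]
  rw [Finsupp.linearCombination_apply, Finsupp.sum, map_sum, map_sum]
  refine Finset.sum_congr rfl fun c hc => ?_
  rw [map_smul, map_smul, beta_apply, tp_tprod, tp_tprod]
  congr 2
  funext k
  have hk : c k ∈ s := Finset.mem_biUnion.mpr ⟨c, hc, Finset.mem_image_of_mem _ (Finset.mem_univ k)⟩
  simp only [p, i, Module.Basis.constr_basis, dif_pos hk, Equiv.symm_apply_apply]

include hφ in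
theorem phi_injective_of_flat (hγ : IsGammaD γ) [Module.Flat A B] : Function.Injective φ := by
  classical
  rw [injective_iff_map_eq_zero]
  intro x hx
  let b := MvPolynomial.basisMonomials B A
  let π := cover A B
  obtain ⟨t, rfl⟩ := classHom_surjective hγ b π (cover_surjective A B) x
  let cl := classHom d b (MulLaw.precomp γ π)
  obtain ⟨n, i, p, hip⟩ := exists_finset_support b t.1
  let f : (Fin n → A) →ₗ[A] B := π.toLinearMap.comp i
  let t₀ := tp d p t.1
  have hπt : SymTen.tmap A d π t.1 = 0 :=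
    (DFunLike.congr_fun (comp_classHom b π γ _ hφ) t).symm.trans
      (show ((φ (cl t) : SymTen.TS A B d) : ⨂[A]^d B) = 0 by rw [hx]; rfl)
  have htmap : ∀ z : ⨂[A]^d (MvPolynomial B A), tp d π.toLinearMap z = SymTen.tmap A d π z := by
    intro z
    induction z using PiTensorProduct.induction_on with
    | smul_tprod r y => simp
    | add u v hu hv => simp only [map_add, hu, hv]
  have ht₀ : tp d f t₀ = 0 := by
    rw [show f = π.toLinearMap.comp i from rfl, tp_comp, LinearMap.comp_apply, hip, htmap, hπt]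
  obtain ⟨m, h, g, hgh, hh⟩ := kill_finset f {()} (fun _ => t₀) fun _ _ => ht₀
  have hh0 : tp d h t₀ = 0 := hh () (Finset.mem_singleton_self _)
  let l : (Fin m → A) →ₗ[A] MvPolynomial B A :=
    (Pi.basisFun A (Fin m)).constr A fun j =>
      Function.surjInv (cover_surjective A B) (g (Pi.basisFun A (Fin m) j))
  have hl : π.toLinearMap.comp l = g := (Pi.basisFun A (Fin m)).ext fun j => by
    simp only [l, LinearMap.comp_apply, Module.Basis.constr_basis, AlgHom.toLinearMap_apply]
    exact Function.surjInv_eq (cover_surjective A B) _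
  have hinv : ∀ σ, PiTensorProduct.reindex A (fun _ : Fin d => Fin n → A) σ t₀ = t₀ := fun σ => by
    simp only [t₀]
    rw [← tp_reindex]
    exact congrArg _ (t.2 σ)
  let j : (Fin n → A) →ₗ[A] MvPolynomial B A := l.comp h
  let rL := retr b (d := d)
  have key : ∀ z ∈ Submodule.span A (Set.range fun q : Orb (Fin n) d =>
      (SymTen.TS A (Fin n → A) d).val (orb (Pi.basisFun A (Fin n)) q)),
      cl (rL (tp d i z)) = cl (rL (tp d j z)) := by
    intro z hz
    induction hz using Submodule.span_induction with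
    | zero => simp
    | add u v _ _ hu hv => simp only [map_add, hu, hv]
    | smul a u _ hu => simp only [map_smul, hu]
    | mem z hz =>
      obtain ⟨q, rfl⟩ := hz
      have e : ∀ k : (Fin n → A) →ₗ[A] MvPolynomial B A,
          rL (tp d k ((SymTen.TS A (Fin n → A) d).val (orb (Pi.basisFun A (Fin n)) q))) =
            cf (qexpo q) (ev (tau d b) (MvPolynomial (Fin n) A)
              (∑ r, MvPolynomial.X r ⊗ₜ[A] k (Pi.basisFun A (Fin n) r))) := fun k => by
        rw [tp_val_orb, ← val_tau d b, cf_bc₀]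
        exact retr_val b _
      rw [e, e, ← cf_bc₀, classHom_tau, ← cf_bc₀ _ cl, classHom_tau, ev_precomp, ev_precomp]
      congr 2
      simp only [map_sum, bc_tmul]
      refine Finset.sum_congr rfl fun r _ => ?_
      congr 1
      show f _ = π.toLinearMap (l (h _))
      rw [← LinearMap.comp_apply π.toLinearMap l, hl, ← LinearMap.comp_apply g h, hgh]
  have h1 := key t₀ (mem_span_orb_of_invariant t₀ hinv)
  rw [tp_comp, LinearMap.comp_apply, hh0, map_zero, map_zero, map_zero, hip] at h1
  rw [show t.1 = (SymTen.TS A (MvPolynomial B A) d).val t from rfl, retr_val] at h1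
  exact h1

theorem exists_gammaD_tsMap (γ : MulLaw A B C d) (hγ : IsGammaD γ) :
    ∃ φ : C →ₐ[A] SymTen.TS A B d, ∀ (S : Type u) [CommSemiring S] [Algebra A S] (x : S ⊗[A] B),
      bc ((SymTen.TS A B d).val.comp φ) S (ev γ S x) =
        (SymTen.tpowLaw A B d).law.toFun' S x := by
  classical
  obtain ⟨f, hf, -⟩ := hγ _ (SymTen.tpowLaw A B d)
  have hf' : ∀ (S : Type u) [CommSemiring S] [Algebra A S] (x : S ⊗[A] B),
      bc f S (ev γ S x) = (SymTen.tpowLaw A B d).law.toFun' S x := fun S _ _ x => by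
    rw [← postcomp_law γ f x]
    exact congrFun (congrFun (congrFun (congrFun
      (congrArg (fun F => PolynomialLaw.toFun' F) hf) S) _) _) x
  have hmem : ∀ c, f c ∈ SymTen.TS A B d := by
    intro c
    obtain ⟨t, rfl⟩ := classHom_surjective hγ (MvPolynomial.basisMonomials B A) (cover A B)
      (cover_surjective A B) c
    have h := DFunLike.congr_fun
      (comp_classHom (MvPolynomial.basisMonomials B A) (cover A B) γ f hf') t
    rw [AlgHom.comp_apply] at h
    rw [h]
    exact (SymTen.TSmap A d (cover A B) t).2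
  exact ⟨f.codRestrict _ hmem, fun S _ _ x => by rw [AlgHom.val_comp_codRestrict]; exact hf' S x⟩

theorem exists_tau_of (h : Module.Flat A B ∨ IsUnit ((d.factorial : ℕ) : A)) :
    ∃ τ : MulLaw A B (SymTen.TS A B d) d,
      (∀ (S : Type u) [CommSemiring S] [Algebra A S] (n : ℕ) (s : Fin n → S) (b : Fin n → B),
        (SymTen.TS A B d).val.toLinearMap.lTensor S (τ.law.toFun' S (∑ j, s j ⊗ₜ[A] b j)) =
          ∑ c : Fin d → Fin n, (∏ i, s (c i)) ⊗ₜ[A] PiTensorProduct.tprod A (fun i => b (c i))) ∧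
      IsGammaD τ := by
  classical
  obtain ⟨C, _, _, γ, hγ⟩ := exists_isGammaD A B d
  obtain ⟨φ, hφ⟩ := exists_gammaD_tsMap γ hγ
  have hbij : Function.Bijective φ := by
    rcases h with h | h
    · exact ⟨phi_injective_of_flat γ φ hφ hγ, phi_surjective_of_flat γ φ hφ⟩
    · obtain ⟨h1, h2⟩ := factorial_kills γ hγ φ hφ
      obtain ⟨w, hw⟩ := isUnit_iff_exists_inv'.mp h
      have key : ∀ {M : Type u} [AddCommGroup M] [Module A M] (m : M),
          w • (d.factorial • m) = m := fun m => by
        rw [← Nat.cast_smul_eq_nsmul A, smul_smul, hw, one_smul]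
      refine ⟨(injective_iff_map_eq_zero φ).mpr fun x hx => ?_, fun y => ?_⟩
      · rw [← key x, h1 x hx, smul_zero]
      · obtain ⟨x, hx⟩ := h2 y
        exact ⟨w • x, by rw [map_smul]; exact (congrArg (w • ·) hx).trans (key y)⟩
  let e := AlgEquiv.ofBijective φ hbij
  refine ⟨MulLaw.postcomp φ γ, fun S _ _ n s b => ?_, fun D _ _ F => ?_⟩
  · refine sum_of_tpowLaw_eq (f := (SymTen.TS A B d).val) (γ := MulLaw.postcomp φ γ)
      (fun S _ _ x => ?_) S n s b
    rw [ev_postcomp, bc_bc]
    exact hφ S x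
  · obtain ⟨f, hf, hu⟩ := hγ D F
    refine ⟨f.comp e.symm.toAlgHom, postcomp_eq_iff.mpr fun S _ _ x => ?_, fun g hg => ?_⟩
    · rw [ev_postcomp, bc_bc, AlgHom.comp_assoc,
        show e.symm.toAlgHom.comp φ = AlgHom.id A C from AlgHom.ext e.symm_apply_apply,
        AlgHom.comp_id, postcomp_eq_iff.mp hf]
    · have h1 : g.comp φ = f := hu _ (postcomp_eq_iff.mpr fun S _ _ x => by
        rw [← bc_bc, ← ev_postcomp, postcomp_eq_iff.mp hg])
      rw [← h1]
      exact AlgHom.ext fun y => by
        show g y = g (φ (e.symm y))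
        exact congrArg g (e.apply_symm_apply y).symm

end Groth.Agent.PolLib
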