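import Groth.Prelude.Def_SymTen
import Groth.Agent.PolLib.Basic
import Mathlib.Data.Fintype.Perm
import Mathlib.LinearAlgebra.PiTensorProduct.Basis
import Mathlib.RingTheory.TensorProduct.Free

/-! Orbits of multi-indices and the symmetric tensors of a free module. -/

universe u v w

open scoped TensorProduct

namespace Groth.Agent.PolLib

/-- The orbit relation of `Perm (Fin d)` on `d`-tuples. -/
def orbSetoid (ι : Type v) (d : ℕ) : Setoid (Fin d → ι) where
  r c c' := ∃ σ : Equiv.Perm (Fin d), c' = c ∘ σ
  iseqv := by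
    refine ⟨fun c => ⟨1, rfl⟩, ?_, ?_⟩
    · rintro c c' ⟨σ, rfl⟩
      exact ⟨σ⁻¹, by funext i; simp⟩
    · rintro c c' c'' ⟨σ, rfl⟩ ⟨τ, rfl⟩
      exact ⟨σ * τ, rfl⟩

/-- Orbits of `d`-tuples. -/
def Orb (ι : Type v) (d : ℕ) : Type v := Quotient (orbSetoid ι d)

variable {ι : Type v} {d : ℕ}

/-- The orbit of a tuple. -/
def cls (c : Fin d → ι) : Orb ι d := Quotient.mk (orbSetoid ι d) c

/-- A chosen representative of an orbit. -/
noncomputable def rep (q : Orb ι d) : Fin d → ι := Quotient.out q

@[simp] theorem cls_rep (q : Orb ι d) : cls (rep q) = q := Quotient.out_eq q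

theorem cls_eq_iff {c c' : Fin d → ι} :
    cls c = cls c' ↔ ∃ σ : Equiv.Perm (Fin d), c' = c ∘ σ := Quotient.eq (r := orbSetoid ι d)

theorem cls_comp (c : Fin d → ι) (σ : Equiv.Perm (Fin d)) : cls (c ∘ σ) = cls c :=
  (cls_eq_iff.mpr ⟨σ, rfl⟩).symm

theorem cls_surjective : Function.Surjective (cls : (Fin d → ι) → Orb ι d) :=
  fun q => ⟨rep q, cls_rep q⟩

open scoped Classical in
/-- The finite set of tuples in an orbit. -/
noncomputable def fib (q : Orb ι d) : Finset (Fin d → ι) :=
  Finset.univ.image fun σ : Equiv.Perm (Fin d) => rep q ∘ σ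

theorem mem_fib {q : Orb ι d} {c : Fin d → ι} : c ∈ fib q ↔ cls c = q := by
  classical
  simp only [fib, Finset.mem_image, Finset.mem_univ, true_and]
  constructor
  · rintro ⟨σ, rfl⟩
    rw [cls_comp, cls_rep]
  · intro h
    obtain ⟨σ, hσ⟩ := cls_eq_iff.mp ((cls_rep q).trans h.symm)
    exact ⟨σ, hσ.symm⟩

/-- The exponent vector of a tuple. -/
noncomputable def expo (c : Fin d → ι) : ι →₀ ℕ := ∑ k, Finsupp.single (c k) 1

theorem expo_comp (c : Fin d → ι) (σ : Equiv.Perm (Fin d)) : expo (c ∘ σ) = expo c :=
  Equiv.sum_comp σ fun k => Finsupp.single (c k) 1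

theorem expo_apply [DecidableEq ι] (c : Fin d → ι) (a : ι) :
    expo c a = Fintype.card {k // c k = a} := by
  rw [expo, Finsupp.finsetSum_apply, Fintype.card_subtype, Finset.card_filter]
  exact Finset.sum_congr rfl fun k _ => Finsupp.single_apply

theorem expo_eq_iff {c c' : Fin d → ι} : expo c = expo c' ↔ cls c = cls c' := by
  classical
  constructor
  · intro h
    have hc : ∀ a, Fintype.card {k // c' k = a} = Fintype.card {k // c k = a} := fun a => by
      have h1 := expo_apply c a
      have h2 := expo_apply c' a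
      rw [h] at h1
      convert h2.symm.trans h1
    let e : ∀ a, {k // c' k = a} ≃ {k // c k = a} := fun a => Fintype.equivOfCardEq (hc a)
    exact cls_eq_iff.mpr ⟨Equiv.ofFiberEquiv e, funext fun k => (Equiv.ofFiberEquiv_map e k).symm⟩
  · intro h
    obtain ⟨σ, rfl⟩ := cls_eq_iff.mp h
    exact (expo_comp c σ).symm

/-- The exponent vector of an orbit. -/
noncomputable def qexpo (q : Orb ι d) : ι →₀ ℕ := expo (rep q)

theorem qexpo_cls (c : Fin d → ι) : qexpo (cls c) = expo c :=
  expo_eq_iff.mpr (cls_rep _)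

theorem qexpo_injective : Function.Injective (qexpo : Orb ι d → ι →₀ ℕ) := fun q q' h => by
  rw [← cls_rep q, ← cls_rep q']
  exact expo_eq_iff.mp h

theorem expo_degree (c : Fin d → ι) : (expo c).sum (fun _ n => n) = d := by
  classical
  rw [expo, ← Finsupp.sum_finsetSum_index (fun _ => rfl) (fun _ _ _ => rfl)]
  simp

theorem expo_support [DecidableEq ι] (c : Fin d → ι) :
    (expo c).support = Finset.univ.image c := by
  ext a
  rw [Finsupp.mem_support_iff, expo_apply, ← Nat.pos_iff_ne_zero, Fintype.card_pos_iff]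
  simp

theorem exists_expo_eq {μ : ι →₀ ℕ} (h : μ.sum (fun _ n => n) = d) :
    ∃ c : Fin d → ι, expo c = μ := by
  classical
  let e : Fin d ≃ Σ a : {a // a ∈ μ.support}, Fin (μ a.1) :=
    Fintype.equivOfCardEq (by
      rw [Fintype.card_fin, Fintype.card_sigma]
      simp only [Fintype.card_fin]
      rw [Finset.sum_coe_sort μ.support (fun a => μ a), ← h]
      rfl)
  refine ⟨fun k => (e k).1.1, ?_⟩
  ext a
  rw [expo, Finsupp.finsetSum_apply]
  have h1 : (∑ k, Finsupp.single (e k).1.1 (1 : ℕ) a) =
      ∑ x : Σ b : {b // b ∈ μ.support}, Fin (μ b.1), Finsupp.single x.1.1 (1 : ℕ) a :=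
    Equiv.sum_comp e fun x => Finsupp.single x.1.1 (1 : ℕ) a
  rw [h1, Fintype.sum_sigma]
  simp only [Finset.sum_const, Finset.card_univ, Fintype.card_fin, smul_eq_mul]
  rw [Finset.sum_coe_sort μ.support (fun b => μ b * Finsupp.single b 1 a)]
  by_cases ha : a ∈ μ.support
  · rw [Finset.sum_eq_single a]
    · simp
    · intro b _ hb
      simp [Finsupp.single_apply, hb]
    · simp [ha]
  · rw [Finset.sum_eq_zero, Finsupp.notMem_support_iff.mp ha]
    intro b hb
    have : b ≠ a := fun h => ha (h ▸ hb)
    simp [Finsupp.single_apply, this]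

variable {A : Type u} [CommRing A] {B : Type u} [CommRing B] [Algebra A B] {κ : Type w}
  (b : Module.Basis κ A B) (d : ℕ)

/-- The basis of the tensor power. -/
noncomputable def beta : Module.Basis (Fin d → κ) A (⨂[A] _ : Fin d, B) :=
  Basis.piTensorProduct fun _ : Fin d => b

theorem beta_apply (c : Fin d → κ) :
    beta b d c = PiTensorProduct.tprod A (fun i => b (c i)) :=
  Basis.piTensorProduct_apply _ c

variable {d}

theorem reindex_beta (σ : Equiv.Perm (Fin d)) (c : Fin d → κ) :
    PiTensorProduct.reindex A (fun _ : Fin d => B) σ (beta b d c) = beta b d (c ∘ σ.symm) := by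
  rw [beta_apply, beta_apply, PiTensorProduct.reindex_tprod]
  rfl

theorem coord_reindex (σ : Equiv.Perm (Fin d)) (c : Fin d → κ) (t : ⨂[A] _ : Fin d, B) :
    (beta b d).coord c (PiTensorProduct.reindex A (fun _ : Fin d => B) σ t) =
      (beta b d).coord (c ∘ σ) t := by
  classical
  suffices ((beta b d).coord c).comp
      (PiTensorProduct.reindex A (fun _ : Fin d => B) σ).toLinearMap = (beta b d).coord (c ∘ σ) from
    DFunLike.congr_fun this t
  refine (beta b d).ext fun c' => ?_
  simp only [LinearMap.comp_apply, LinearEquiv.coe_coe, reindex_beta, Module.Basis.coord_apply,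
    Module.Basis.repr_self, Finsupp.single_apply]
  have h : c' ∘ σ.symm = c ↔ c' = c ∘ σ := by
    constructor <;> rintro rfl <;> funext i <;> simp
  simp only [h]

/-- The orbit sum. -/
noncomputable def orb (q : Orb κ d) : SymTen.TS A B d :=
  ⟨∑ c ∈ fib q, beta b d c, fun σ => by
    rw [map_sum]
    simp only [reindex_beta]
    refine Finset.sum_nbij' (fun c => c ∘ σ.symm) (fun c => c ∘ σ) ?_ ?_ ?_ ?_ ?_
    · intro c hc
      exact mem_fib.mpr ((cls_comp c σ.symm).trans (mem_fib.mp hc))
    · intro c hc
      exact mem_fib.mpr ((cls_comp c σ).trans (mem_fib.mp hc))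
    · intro c _
      funext i; simp
    · intro c _
      funext i; simp
    · intro c _; rfl⟩

theorem val_orb (q : Orb κ d) : (SymTen.TS A B d).val (orb b q) = ∑ c ∈ fib q, beta b d c := rfl

open scoped Classical in
/-- A left inverse of the inclusion of symmetric tensors. -/
noncomputable def retr : (⨂[A] _ : Fin d, B) →ₗ[A] SymTen.TS A B d :=
  (beta b d).constr A fun c => if c = rep (cls c) then orb b (cls c) else 0

open scoped Classical in
theorem retr_beta (c : Fin d → κ) :
    retr b (beta b d c) = if c = rep (cls c) then orb b (cls c) else 0 :=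
  Module.Basis.constr_basis _ A _ c

theorem coord_retr (c : Fin d → κ) (t : ⨂[A] _ : Fin d, B) :
    (beta b d).coord c ((SymTen.TS A B d).val (retr b t)) =
      (beta b d).coord (rep (cls c)) t := by
  classical
  suffices ((beta b d).coord c).comp ((SymTen.TS A B d).val.toLinearMap.comp (retr b)) =
      (beta b d).coord (rep (cls c)) from DFunLike.congr_fun this t
  refine (beta b d).ext fun c' => ?_
  simp only [LinearMap.comp_apply, AlgHom.toLinearMap_apply, retr_beta, Module.Basis.coord_apply,
    Module.Basis.repr_self, Finsupp.single_apply]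
  by_cases h1 : c' = rep (cls c')
  · rw [if_pos h1, val_orb, map_sum, Finsupp.finsetSum_apply]
    simp only [Module.Basis.repr_self, Finsupp.single_apply, Finset.sum_ite_eq']
    by_cases h2 : cls c = cls c'
    · rw [if_pos (mem_fib.mpr h2), if_pos (by rw [h2]; exact h1)]
    · rw [if_neg (fun h => h2 (mem_fib.mp h)),
        if_neg (fun h => h2 (by rw [h, cls_rep]))]
  · rw [if_neg h1]
    have : c' ≠ rep (cls c) := fun h => h1 (by rw [h, cls_rep])
    simp [this]

theorem retr_val (t : SymTen.TS A B d) : retr b ((SymTen.TS A B d).val t) = t := by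
  apply Subtype.val_injective
  refine (beta b d).ext_elem fun c => ?_
  show (beta b d).coord c ((SymTen.TS A B d).val (retr b ((SymTen.TS A B d).val t))) =
    (beta b d).coord c ((SymTen.TS A B d).val t)
  rw [coord_retr]
  obtain ⟨σ, hσ⟩ := cls_eq_iff.mp (cls_rep (cls c))
  have h2 : PiTensorProduct.reindex A (fun _ : Fin d => B) σ t.1 = t.1 := t.2 σ
  conv_rhs => rw [hσ, ← coord_reindex b σ]
  show _ = (beta b d).coord (rep (cls c)) (PiTensorProduct.reindex A (fun _ : Fin d => B) σ t.1)
  rw [h2]
  rfl

theorem span_orb : Submodule.span A (Set.range (orb b : Orb κ d → SymTen.TS A B d)) = ⊤ := by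
  classical
  rw [eq_top_iff]
  rintro t -
  rw [← retr_val b t, ← (beta b d).linearCombination_repr ((SymTen.TS A B d).val t),
    Finsupp.apply_linearCombination, Finsupp.linearCombination_apply]
  refine Submodule.sum_mem _ fun c _ => Submodule.smul_mem _ _ ?_
  rw [Function.comp_apply, retr_beta]
  split
  · exact Submodule.subset_span ⟨_, rfl⟩
  · exact Submodule.zero_mem _

include b in
theorem retr_lTensor_injective (S : Type u) [CommSemiring S] [Algebra A S] :
    Function.Injective (bc (SymTen.TS A B d).val S) :=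
  bc_injective_of_leftInverse _ (retr b) (retr_val b)

theorem val_retr_of_invariant (S : Type u) [CommSemiring S] [Algebra A S]
    (z : S ⊗[A] (⨂[A] _ : Fin d, B))
    (hz : ∀ σ : Equiv.Perm (Fin d),
      (PiTensorProduct.reindex A (fun _ : Fin d => B) σ).toLinearMap.lTensor S z = z) :
    bc (SymTen.TS A B d).val S ((retr b).lTensor S z) = z := by
  have hco : ∀ (c : Fin d → κ) (w : S ⊗[A] (⨂[A] _ : Fin d, B)),
      (Algebra.TensorProduct.basis S (beta b d)).repr w c =
        TensorProduct.rid A S (((beta b d).coord c).lTensor S w) := by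
    intro c w
    induction w using TensorProduct.induction_on with
    | zero => simp
    | tmul s t => simp [Algebra.smul_def, mul_comm, Algebra.commutes]
    | add x y hx hy => simp [hx, hy]
  refine (Algebra.TensorProduct.basis S (beta b d)).ext_elem fun c => ?_
  rw [hco, hco]
  congr 1
  rw [← lTensor_eq_bc, ← LinearMap.lTensor_comp_apply, ← LinearMap.lTensor_comp_apply]
  have h1 : ((beta b d).coord c).comp ((SymTen.TS A B d).val.toLinearMap.comp (retr b)) =
      (beta b d).coord (rep (cls c)) := LinearMap.ext (coord_retr b c)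
  rw [LinearMap.comp_assoc, h1]
  obtain ⟨σ, hσ⟩ := cls_eq_iff.mp (cls_rep (cls c))
  have h2 : ((beta b d).coord (rep (cls c))).comp
      (PiTensorProduct.reindex A (fun _ : Fin d => B) σ).toLinearMap = (beta b d).coord c := by
    refine LinearMap.ext fun t => ?_
    rw [LinearMap.comp_apply, LinearEquiv.coe_coe, coord_reindex, ← hσ]
  rw [← h2, LinearMap.lTensor_comp_apply, hz σ]

end Groth.Agent.PolLib
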