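import Groth.Prelude.Def_PolLaw2
import Groth.Agent.PolLib.Orbit

/-! For an algebra with a basis, the symmetric tensors are the degree-`d` divided powers. -/

universe u v w

open scoped TensorProduct

namespace Groth.Agent.PolLib

open PolLaw

variable {A : Type u} [CommRing A] {B : Type u} [CommRing B] [Algebra A B] {d : ℕ}

section Tpow

variable (S : Type u) [CommSemiring S] [Algebra A S]

theorem perm_singleAlgHom (σ : Equiv.Perm (Fin d)) (j : Fin d) (x : B) :
    SymTen.perm A B d σ (PiTensorProduct.singleAlgHom (R := A) (A := fun _ : Fin d => B) j x) =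
      PiTensorProduct.singleAlgHom (R := A) (A := fun _ : Fin d => B) (σ j) x := by
  classical
  simp only [PiTensorProduct.singleAlgHom_apply, MonoidHom.mulSingle_apply, SymTen.perm_tprod]
  congr 1
  funext i
  by_cases h : i = σ j
  · subst h; simp
  · have : σ.symm i ≠ j := fun h' => h (by rw [← h', Equiv.apply_symm_apply])
    simp [h, this]

theorem tpowLaw_invariant (x : S ⊗[A] B) (σ : Equiv.Perm (Fin d)) :
    (PiTensorProduct.reindex A (fun _ : Fin d => B) σ).toLinearMap.lTensor S
      ((SymTen.tpowLaw A B d).law.toFun' S x) = (SymTen.tpowLaw A B d).law.toFun' S x := by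
  have h : (PiTensorProduct.reindex A (fun _ : Fin d => B) σ).toLinearMap =
      (SymTen.perm A B d σ).toLinearMap :=
    LinearMap.ext fun t => (SymTen.perm_apply A B d σ t).symm
  rw [h, lTensor_eq_bc, SymTen.tpowLaw, MulLaw.prodMap_toFun', map_prod]
  rw [← Equiv.prod_comp σ fun j => Algebra.TensorProduct.map (AlgHom.id S S)
      (PiTensorProduct.singleAlgHom (R := A) (A := fun _ : Fin d => B) j) x]
  refine Finset.prod_congr rfl fun j _ => ?_
  show bc (SymTen.perm A B d σ) S (bc _ S x) = bc _ S x
  rw [bc_bc]
  congr 2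
  exact AlgHom.ext (perm_singleAlgHom σ j)

theorem tpowLaw_sum {n : Type w} [Fintype n] [DecidableEq n] (s : n → S) (x : n → B) :
    (SymTen.tpowLaw A B d).law.toFun' S (∑ j, s j ⊗ₜ[A] x j) =
      ∑ c : Fin d → n, (∏ i, s (c i)) ⊗ₜ[A] PiTensorProduct.tprod A (fun i => x (c i)) := by
  classical
  rw [SymTen.tpowLaw, MulLaw.prodMap_toFun']
  simp only [map_sum, Algebra.TensorProduct.map_tmul, AlgHom.id_apply]
  rw [Fintype.prod_sum]
  refine Finset.sum_congr rfl fun c _ => ?_
  have : ∀ t : Finset (Fin d),
      (∏ i ∈ t, s (c i) ⊗ₜ[A] PiTensorProduct.singleAlgHom (R := A) (A := fun _ : Fin d => B) i (x (c i))) =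
      (∏ i ∈ t, s (c i)) ⊗ₜ[A]
        ∏ i ∈ t, PiTensorProduct.singleAlgHom (R := A) (A := fun _ : Fin d => B) i (x (c i)) := by
    intro t
    induction t using Finset.induction_on with
    | empty => simp [Algebra.TensorProduct.one_def]
    | insert j t hj ih =>
      rw [Finset.prod_insert hj, Finset.prod_insert hj, Finset.prod_insert hj, ih,
        Algebra.TensorProduct.tmul_mul_tmul]
  rw [this]
  congr 1
  simp only [PiTensorProduct.singleAlgHom_apply, MonoidHom.mulSingle_apply]
  rw [← PiTensorProduct.tprod_prod]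
  exact congrArg _ (Finset.univ_prod_mulSingle (fun i => x (c i)))

end Tpow

variable {κ : Type u} (b : Module.Basis κ A B) (d)

/-- The value of the universal law into symmetric tensors. -/
noncomputable def tauFun (S : Type u) [CommSemiring S] [Algebra A S] (x : S ⊗[A] B) :
    S ⊗[A] SymTen.TS A B d :=
  (retr b).lTensor S ((SymTen.tpowLaw A B d).law.toFun' S x)

theorem val_tauFun (S : Type u) [CommSemiring S] [Algebra A S] (x : S ⊗[A] B) :
    bc (SymTen.TS A B d).val S (tauFun d b S x) = (SymTen.tpowLaw A B d).law.toFun' S x :=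
  val_retr_of_invariant b S _ (tpowLaw_invariant S x)

/-- The universal law `B → TS^d_A(B)` for a free algebra. -/
noncomputable def tau : MulLaw A B (SymTen.TS A B d) d where
  law :=
  { toFun' := fun S _ _ => tauFun d b S
    isCompat' := fun {S} _ _ {S'} _ _ φ => by
      funext x
      apply retr_lTensor_injective b S'
      simp only [Function.comp_apply, rTensor_eq_rB]
      rw [← bc_rB, val_tauFun, val_tauFun]
      exact ev_nat (SymTen.tpowLaw A B d) φ x }
  homog S _ _ s x := by
    apply retr_lTensor_injective b S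
    show bc _ S (tauFun d b S (s • x)) = bc _ S (s ^ d • tauFun d b S x)
    rw [map_smul, val_tauFun, val_tauFun]
    exact (SymTen.tpowLaw A B d).homog S s x
  mult S _ _ := by
    refine ⟨retr_lTensor_injective b S ?_, fun x y => retr_lTensor_injective b S ?_⟩
    · show bc _ S (tauFun d b S 1) = _
      rw [map_one, val_tauFun]
      exact ((SymTen.tpowLaw A B d).mult S).1
    · show bc _ S (tauFun d b S (x * y)) = bc _ S (tauFun d b S x * tauFun d b S y)
      rw [map_mul, val_tauFun, val_tauFun, val_tauFun]
      exact ((SymTen.tpowLaw A B d).mult S).2 x y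

theorem val_tau (S : Type u) [CommSemiring S] [Algebra A S] (x : S ⊗[A] B) :
    bc (SymTen.TS A B d).val S (ev (tau d b) S x) = (SymTen.tpowLaw A B d).law.toFun' S x :=
  val_tauFun d b S x

/-- The universal element supported on a finite set. -/
noncomputable def xu (s : Finset κ) : MvPolynomial κ A ⊗[A] B :=
  ∑ i ∈ s, MvPolynomial.X i ⊗ₜ[A] b i

theorem rB_xu {S : Type u} [CommSemiring S] [Algebra A S] (a : κ → S) (s : Finset κ) :
    rB B (MvPolynomial.aeval a) (xu b s) = ∑ i ∈ s, a i ⊗ₜ[A] b i := by
  simp [xu, map_sum]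

theorem exists_eq_rB_xu {S : Type u} [CommSemiring S] [Algebra A S] (x : S ⊗[A] B) :
    ∃ (s : Finset κ) (a : κ → S), x = rB B (MvPolynomial.aeval a) (xu b s) := by
  classical
  refine ⟨((Algebra.TensorProduct.basis S b).repr x).support,
    fun i => (Algebra.TensorProduct.basis S b).repr x i, ?_⟩
  rw [rB_xu]
  conv_lhs => rw [← (Algebra.TensorProduct.basis S b).linearCombination_repr x]
  rw [Finsupp.linearCombination_apply]
  exact Finset.sum_congr rfl fun i _ => by
    simp [TensorProduct.smul_tmul']

theorem tau_xu (s : Finset κ) [DecidableEq κ] [DecidableEq (Orb κ d)] :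
    ev (tau d b) _ (xu b s) = ∑ q ∈ (Fintype.piFinset fun _ : Fin d => s).image cls,
      MvPolynomial.monomial (qexpo q) (1 : A) ⊗ₜ[A] orb b q := by
  apply retr_lTensor_injective b
  rw [val_tau, map_sum]
  simp only [bc_tmul, val_orb, TensorProduct.tmul_sum]
  have hx : xu b s = ∑ j : s, MvPolynomial.X (j : κ) ⊗ₜ[A] b j :=
    (Finset.sum_coe_sort s fun i => MvPolynomial.X i ⊗ₜ[A] b i).symm
  rw [hx, tpowLaw_sum]
  have h1 : ∀ q ∈ (Fintype.piFinset fun _ : Fin d => s).image cls,
      fib q = (Fintype.piFinset fun _ : Fin d => s).filter (fun c => cls c = q) := by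
    intro q hq
    obtain ⟨c0, hc0, rfl⟩ := Finset.mem_image.mp hq
    ext c
    rw [mem_fib, Finset.mem_filter]
    refine ⟨fun h => ⟨?_, h⟩, fun h => h.2⟩
    obtain ⟨σ, hσ⟩ := cls_eq_iff.mp h.symm
    rw [Fintype.mem_piFinset] at hc0 ⊢
    intro k
    rw [hσ]
    exact hc0 _
  have h2 : ∀ q ∈ (Fintype.piFinset fun _ : Fin d => s).image cls,
      ∑ c ∈ fib q, MvPolynomial.monomial (qexpo q) (1 : A) ⊗ₜ[A] beta b d c =
      ∑ c ∈ (Fintype.piFinset fun _ : Fin d => s).filter (fun c => cls c = q),
        MvPolynomial.monomial (expo c) (1 : A) ⊗ₜ[A] beta b d c := fun q hq =>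
    Finset.sum_congr (h1 q hq) fun c hc => by
      rw [← (Finset.mem_filter.mp hc).2, qexpo_cls]
  rw [Finset.sum_congr rfl h2,
    Finset.sum_fiberwise_of_maps_to (g := cls)
      (fun c hc => Finset.mem_image_of_mem _ hc)
      (fun c => MvPolynomial.monomial (expo c) (1 : A) ⊗ₜ[A] beta b d c)]
  refine Finset.sum_nbij (fun c i => (c i : κ)) ?_ ?_ ?_ ?_
  · intro c _
    exact Fintype.mem_piFinset.mpr fun i => (c i).2
  · intro c _ c' _ h
    funext i
    exact Subtype.ext (congrFun h i)
  · intro c hc
    have hc' := Fintype.mem_piFinset.mp (Finset.mem_coe.mp hc)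
    exact ⟨fun i => ⟨c i, hc' i⟩, Finset.mem_coe.mpr (Finset.mem_univ _), rfl⟩
  · intro c _
    rw [beta_apply, expo, MvPolynomial.monomial_sum_one]
    rfl

section Coeff

variable {M : Type w} [AddCommGroup M] [Module A M] {σ : Type v}

theorem cf_sum_monomial {J : Type v} (t : Finset J) (e : J → σ →₀ ℕ) (m : J → M)
    (μ : σ →₀ ℕ) [DecidableEq (σ →₀ ℕ)] :
    cf μ (∑ j ∈ t, MvPolynomial.monomial (e j) (1 : A) ⊗ₜ[A] m j) =
      ∑ j ∈ t, if e j = μ then m j else 0 := by
  rw [map_sum]
  refine Finset.sum_congr rfl fun j _ => ?_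
  classical
  rw [cf_tmul, MvPolynomial.coeff_monomial]
  split <;> rename_i h <;> simp [h]

end Coeff

variable {C : Type u} [CommRing C] [Algebra A C] (F : MulLaw A B C d) [DecidableEq κ]

/-- Kill the variables outside `P`. -/
noncomputable def killOut (A : Type u) [CommRing A] (P : Finset κ) :
    MvPolynomial κ A →ₐ[A] MvPolynomial κ A :=
  MvPolynomial.aeval fun i => if i ∈ P then MvPolynomial.X i else 0

theorem cf_killOut {M : Type w} [AddCommGroup M] [Module A M] (P : Finset κ) (μ : κ →₀ ℕ)
    (x : MvPolynomial κ A ⊗[A] M) :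
    cf μ ((killOut A P).toLinearMap.rTensor M x) =
      if μ.support ⊆ P then cf μ x else 0 := by
  classical
  induction x using TensorProduct.induction_on with
  | zero => simp
  | add a b ha hb => simp only [map_add, ha, hb]; split <;> simp
  | tmul p m =>
    simp only [LinearMap.rTensor_tmul, cf_tmul, AlgHom.toLinearMap_apply]
    induction p using MvPolynomial.induction_on' with
    | add p q hp hq => simp only [map_add, MvPolynomial.coeff_add, add_smul, hp, hq]; split <;> simp
    | monomial e a =>
      have hk : killOut A P (MvPolynomial.monomial e a) =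
          if e.support ⊆ P then MvPolynomial.monomial e a else 0 := by
        rw [killOut, MvPolynomial.aeval_monomial, Finsupp.prod]
        split
        · rename_i he
          rw [MvPolynomial.monomial_eq, MvPolynomial.algebraMap_eq, Finsupp.prod]
          refine congrArg _ (Finset.prod_congr rfl fun i hi => ?_)
          rw [if_pos (he hi)]
        · rename_i he
          obtain ⟨i, hi, hiP⟩ := Finset.not_subset.mp he
          rw [Finset.prod_eq_zero hi, mul_zero]
          rw [if_neg hiP, zero_pow (Finsupp.mem_support_iff.mp hi)]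
      rw [hk]
      by_cases he : e.support ⊆ P
      · rw [if_pos he]
        by_cases hμ : e = μ
        · subst hμ; rw [if_pos he]
        · rw [MvPolynomial.coeff_monomial, if_neg hμ]; simp
      · rw [if_neg he]
        by_cases hμ : e = μ
        · subst hμ; rw [if_neg he]; simp
        · rw [MvPolynomial.coeff_monomial, if_neg hμ]; simp

theorem killOut_xu (P s : Finset κ) :
    rB B (killOut A P) (xu b s) = xu b (s ∩ P) := by
  rw [killOut, rB_xu, xu, ← Finset.sum_filter_add_sum_filter_not s (· ∈ P),
    Finset.filter_mem_eq_inter]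
  rw [Finset.sum_congr rfl fun i hi => by rw [if_pos (Finset.mem_inter.mp hi).2],
    Finset.sum_eq_zero (s := s.filter (· ∉ P)) fun i hi => by
      rw [if_neg (Finset.mem_filter.mp hi).2, TensorProduct.zero_tmul], add_zero]

/-- Scale every variable by a new variable. -/
noncomputable def scaleT (A : Type u) [CommRing A] (κ : Type u) :
    MvPolynomial κ A →ₐ[A] Polynomial (MvPolynomial κ A) :=
  MvPolynomial.aeval fun i => Polynomial.X * Polynomial.C (MvPolynomial.X i)

theorem cf_xu_eq_zero_of_degree (s : Finset κ) (μ : κ →₀ ℕ) (h : μ.sum (fun _ n => n) ≠ d) :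
    cf μ (ev F _ (xu b s)) = 0 := by
  classical
  let k := μ.sum fun _ n => n
  let g : Polynomial (MvPolynomial κ A) ⊗[A] C →ₗ[A] C :=
    (TensorProduct.lid A C).toLinearMap.comp
      (((MvPolynomial.lcoeff A μ).comp
        ((Polynomial.lcoeff (MvPolynomial κ A) k).restrictScalars A)).rTensor C)
  let inc : MvPolynomial κ A →ₐ[A] Polynomial (MvPolynomial κ A) :=
    IsScalarTower.toAlgHom A (MvPolynomial κ A) (Polynomial (MvPolynomial κ A))
  have hg1 : ∀ z : MvPolynomial κ A ⊗[A] C, g (rB C (scaleT A κ) z) = cf μ z := by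
    intro z
    induction z using TensorProduct.induction_on with
    | zero => simp
    | add a b ha hb => simp only [map_add, ha, hb]
    | tmul p m =>
      simp only [rB_tmul, cf_tmul, g, LinearMap.comp_apply, LinearEquiv.coe_coe,
        LinearMap.rTensor_tmul, TensorProduct.lid_tmul, LinearMap.coe_restrictScalars,
        Polynomial.lcoeff_apply, MvPolynomial.lcoeff_apply]
      congr 1
      induction p using MvPolynomial.induction_on' with
      | add p q hp hq => simp only [map_add, Polynomial.coeff_add, MvPolynomial.coeff_add, hp, hq]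
      | monomial e a =>
        have : scaleT A κ (MvPolynomial.monomial e a) =
            Polynomial.C (MvPolynomial.monomial e a) *
              Polynomial.X ^ (e.sum fun _ n => n) := by
          rw [scaleT, MvPolynomial.aeval_monomial, MvPolynomial.monomial_eq, map_mul,
            Finsupp.prod, Finsupp.prod, map_prod, Finsupp.sum, ← Finset.prod_pow_eq_pow_sum,
            Polynomial.algebraMap_apply, MvPolynomial.algebraMap_eq, mul_assoc,
            ← Finset.prod_mul_distrib]
          refine congrArg _ (Finset.prod_congr rfl fun i _ => ?_)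
          rw [mul_pow, map_pow, mul_comm]
        rw [this, Polynomial.coeff_C_mul_X_pow]
        by_cases he : e = μ
        · subst he; rw [if_pos rfl]
        · split <;> simp [MvPolynomial.coeff_monomial, he]
  have hg2 : ∀ z : MvPolynomial κ A ⊗[A] C,
      g (((Polynomial.X : Polynomial (MvPolynomial κ A)) ^ d) • rB C inc z) = 0 := by
    intro z
    induction z using TensorProduct.induction_on with
    | zero => simp
    | add a b ha hb => simp only [map_add, smul_add, ha, hb, add_zero]
    | tmul p m =>
      simp only [rB_tmul, g, LinearMap.comp_apply, LinearEquiv.coe_coe, TensorProduct.smul_tmul',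
        LinearMap.rTensor_tmul, TensorProduct.lid_tmul, LinearMap.coe_restrictScalars,
        Polynomial.lcoeff_apply, MvPolynomial.lcoeff_apply, smul_eq_mul]
      rw [show inc p = Polynomial.C p from rfl, mul_comm, Polynomial.coeff_C_mul_X_pow, if_neg h]
      simp
  have key : rB B (scaleT A κ) (xu b s) =
      (Polynomial.X : Polynomial (MvPolynomial κ A)) • rB B inc (xu b s) := by
    rw [scaleT, rB_xu, xu, map_sum, Finset.smul_sum]
    refine Finset.sum_congr rfl fun i _ => ?_
    rw [rB_tmul, TensorProduct.smul_tmul']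
    rfl
  rw [← hg1, ev_nat, key, ev_smul, ← ev_nat, hg2]

theorem cf_xu_eq_zero_of_support (s : Finset κ) (μ : κ →₀ ℕ) (h : ¬ μ.support ⊆ s) :
    cf μ (ev F _ (xu b s)) = 0 := by
  have h1 := ev_nat F (killOut A s) (xu b s)
  rw [killOut_xu, Finset.inter_self] at h1
  rw [← h1, ← rTensor_eq_rB, cf_killOut, if_neg h]

theorem cf_xu_eq_of_support (s : Finset κ) (μ : κ →₀ ℕ) (h : μ.support ⊆ s) :
    cf μ (ev F _ (xu b s)) = cf μ (ev F _ (xu b μ.support)) := by
  have h1 := ev_nat F (killOut A μ.support) (xu b s)
  rw [killOut_xu, Finset.inter_eq_right.mpr h] at h1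
  rw [← h1, ← rTensor_eq_rB, cf_killOut, if_pos (Finset.Subset.refl _)]

/-- The coefficient of a law at an orbit. -/
noncomputable def coeffOrb (q : Orb κ d) : C :=
  cf (qexpo q) (ev F _ (xu b (qexpo q).support))

open scoped Classical in
/-- The linear map out of symmetric tensors classifying a law. -/
noncomputable def classLin : SymTen.TS A B d →ₗ[A] C :=
  ((beta b d).constr A fun c => if c = rep (cls c) then coeffOrb d b F (cls c) else 0).comp
    (SymTen.TS A B d).val.toLinearMap

theorem classLin_orb (q : Orb κ d) : classLin d b F (orb b q) = coeffOrb d b F q := by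
  classical
  rw [classLin, LinearMap.comp_apply, AlgHom.toLinearMap_apply, val_orb, map_sum]
  simp only [Module.Basis.constr_basis]
  rw [Finset.sum_eq_single (rep q)]
  · rw [cls_rep, if_pos rfl]
  · intro c hc hne
    rw [mem_fib.mp hc, if_neg hne]
  · intro h
    exact absurd (mem_fib.mpr (cls_rep q)) h

theorem cf_lTensor_tau_xu {N : Type w} [AddCommGroup N] [Module A N]
    (φ : SymTen.TS A B d →ₗ[A] N) (s : Finset κ) (μ : κ →₀ ℕ) [DecidableEq (Orb κ d)] :
    cf μ (φ.lTensor (MvPolynomial κ A) (ev (tau d b) _ (xu b s))) =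
      ∑ q ∈ (Fintype.piFinset fun _ : Fin d => s).image cls,
        if qexpo q = μ then φ (orb b q) else 0 := by
  classical
  rw [tau_xu, cf_lTensor, cf_sum_monomial, map_sum]
  exact Finset.sum_congr rfl fun q _ => by split <;> simp

theorem classLin_tau_xu (s : Finset κ) :
    (classLin d b F).lTensor (MvPolynomial κ A) (ev (tau d b) _ (xu b s)) = ev F _ (xu b s) := by
  classical
  refine ext_cf fun μ => ?_
  rw [cf_lTensor_tau_xu]
  have mem : ∀ q, q ∈ (Fintype.piFinset fun _ : Fin d => s).image cls ↔ (qexpo q).support ⊆ s := by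
    intro q
    constructor
    · intro hq
      obtain ⟨c, hc, rfl⟩ := Finset.mem_image.mp hq
      rw [qexpo_cls, expo_support, Finset.image_subset_iff]
      exact fun k _ => Fintype.mem_piFinset.mp hc k
    · intro hq
      refine Finset.mem_image.mpr ⟨rep q, Fintype.mem_piFinset.mpr fun k => hq ?_, cls_rep q⟩
      rw [qexpo, expo_support]
      exact Finset.mem_image_of_mem _ (Finset.mem_univ k)
  by_cases hs : μ.support ⊆ s
  · by_cases hd : μ.sum (fun _ n => n) = d
    · obtain ⟨c, rfl⟩ := exists_expo_eq hd
      rw [Finset.sum_eq_single (cls c)]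
      · rw [if_pos (qexpo_cls c), classLin_orb, coeffOrb, qexpo_cls,
          ← cf_xu_eq_of_support d b F s _ hs]
      · intro q _ hq
        rw [if_neg fun h => hq (qexpo_injective (h.trans (qexpo_cls c).symm))]
      · intro h
        exact absurd ((mem _).mpr (by rwa [qexpo_cls])) h
    · rw [cf_xu_eq_zero_of_degree d b F s μ hd]
      refine Finset.sum_eq_zero fun q _ => if_neg fun h => hd ?_
      rw [← h, qexpo, expo_degree]
  · rw [cf_xu_eq_zero_of_support d b F s μ hs]
    exact Finset.sum_eq_zero fun q hq => if_neg fun h => hs (by rw [← h]; exact (mem q).mp hq)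

theorem lTensor_rB {N : Type u} [CommRing N] [Algebra A N] {M : Type u} [CommRing M] [Algebra A M]
    {S S' : Type u} [CommSemiring S] [Algebra A S] [CommSemiring S'] [Algebra A S']
    (g : N →ₗ[A] M) (ψ : S →ₐ[A] S') (x : S ⊗[A] N) :
    g.lTensor S' (rB N ψ x) = rB M ψ (g.lTensor S x) := by
  induction x using TensorProduct.induction_on with
  | zero => simp
  | tmul a b => simp
  | add a b ha hb => simp [ha, hb]

theorem classLin_tau (S : Type u) [CommSemiring S] [Algebra A S] (x : S ⊗[A] B) :
    (classLin d b F).lTensor S (ev (tau d b) S x) = ev F S x := by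
  obtain ⟨s, a, rfl⟩ := exists_eq_rB_xu b x
  rw [← ev_nat, ← ev_nat, lTensor_rB, classLin_tau_xu]

theorem lin_eq_of_tau {N : Type u} [CommRing N] [Algebra A N] {f g : SymTen.TS A B d →ₗ[A] N}
    (h : ∀ (S : Type u) [CommRing S] [Algebra A S] (x : S ⊗[A] B),
      f.lTensor S (ev (tau d b) S x) = g.lTensor S (ev (tau d b) S x)) : f = g := by
  classical
  refine LinearMap.ext_on (span_orb b) ?_
  rintro _ ⟨q, rfl⟩
  have h1 := congrArg (cf (qexpo q)) (h (MvPolynomial κ A) (xu b (qexpo q).support))
  rw [cf_lTensor_tau_xu, cf_lTensor_tau_xu] at h1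
  have hmem : q ∈ (Fintype.piFinset fun _ : Fin d => (qexpo q).support).image cls := by
    refine Finset.mem_image.mpr ⟨rep q, Fintype.mem_piFinset.mpr fun k => ?_, cls_rep q⟩
    rw [qexpo, expo_support]
    exact Finset.mem_image_of_mem _ (Finset.mem_univ k)
  rw [Finset.sum_eq_single q (fun q' _ hq' => if_neg fun e => hq' (qexpo_injective e))
      (fun hn => absurd hmem hn),
    Finset.sum_eq_single q (fun q' _ hq' => if_neg fun e => hq' (qexpo_injective e))
      (fun hn => absurd hmem hn), if_pos rfl, if_pos rfl] at h1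
  exact h1

theorem classLin_one : classLin d b F 1 = 1 := by
  have h := classLin_tau d b F A 1
  rw [ev_one, ev_one, Algebra.TensorProduct.one_def, Algebra.TensorProduct.one_def,
    LinearMap.lTensor_tmul] at h
  simpa using congrArg (TensorProduct.lid A C) h

theorem classLin_mul (x y : SymTen.TS A B d) :
    classLin d b F (x * y) = classLin d b F x * classLin d b F y := by
  classical
  suffices h : ∀ q q' : Orb κ d,
      classLin d b F (orb b q * orb b q') = classLin d b F (orb b q) * classLin d b F (orb b q') by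
    have hx : x ∈ Submodule.span A (Set.range (orb b : Orb κ d → _)) := span_orb b ▸ trivial
    have hy : y ∈ Submodule.span A (Set.range (orb b : Orb κ d → _)) := span_orb b ▸ trivial
    induction hx using Submodule.span_induction with
    | zero => simp
    | add u v _ _ hu hv => rw [add_mul, map_add, map_add, hu, hv, add_mul]
    | smul a u _ hu => rw [smul_mul_assoc, map_smul, map_smul, hu, smul_mul_assoc]
    | mem u hu =>
      obtain ⟨q, rfl⟩ := hu
      induction hy using Submodule.span_induction with
      | zero => simp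
      | add u v _ _ hu hv => rw [mul_add, map_add, map_add, hu, hv, mul_add]
      | smul a u _ hu => rw [mul_smul_comm, map_smul, map_smul, hu, mul_smul_comm]
      | mem u hu =>
        obtain ⟨q', rfl⟩ := hu
        exact h q q'
  intro q q'
  let i₁ : MvPolynomial κ A →ₐ[A] MvPolynomial (κ ⊕ κ) A := MvPolynomial.rename Sum.inl
  let i₂ : MvPolynomial κ A →ₐ[A] MvPolynomial (κ ⊕ κ) A := MvPolynomial.rename Sum.inr
  let s := (qexpo q).support
  let s' := (qexpo q').support
  let X₁ := rB B i₁ (xu b s)
  let X₂ := rB B i₂ (xu b s')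
  have h := classLin_tau d b F (MvPolynomial (κ ⊕ κ) A) (X₁ * X₂)
  rw [ev_mul, ev_mul, ← classLin_tau d b F (MvPolynomial (κ ⊕ κ) A) X₁, ← classLin_tau d b F (MvPolynomial (κ ⊕ κ) A) X₂] at h
  simp only [X₁, X₂] at h
  rw [← ev_nat, ← ev_nat, tau_xu, tau_xu] at h
  simp only [map_sum, rB_tmul, LinearMap.lTensor_tmul] at h
  simp only [Finset.sum_mul, Finset.mul_sum, Algebra.TensorProduct.tmul_mul_tmul, map_sum,
    LinearMap.lTensor_tmul, i₁, i₂, MvPolynomial.rename_monomial, MvPolynomial.monomial_mul,
    one_mul] at h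
  let μ := Finsupp.mapDomain Sum.inl (qexpo q) + Finsupp.mapDomain Sum.inr (qexpo q')
  have hinj : ∀ p p' : Orb κ d,
      Finsupp.mapDomain Sum.inl (qexpo p) + Finsupp.mapDomain Sum.inr (qexpo p') = μ →
        p = q ∧ p' = q' := by
    intro p p' he
    constructor <;> refine qexpo_injective (Finsupp.ext fun a => ?_)
    · have := DFunLike.congr_fun he (Sum.inl a)
      simpa [μ, Finsupp.mapDomain_apply Sum.inl_injective,
        Finsupp.mapDomain_notin_range] using this
    · have := DFunLike.congr_fun he (Sum.inr a)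
      simpa [μ, Finsupp.mapDomain_apply Sum.inr_injective,
        Finsupp.mapDomain_notin_range] using this
  have hmem : ∀ p : Orb κ d,
      p ∈ (Fintype.piFinset fun _ : Fin d => (qexpo p).support).image cls := by
    intro p
    refine Finset.mem_image.mpr ⟨rep p, Fintype.mem_piFinset.mpr fun k => ?_, cls_rep p⟩
    rw [qexpo, expo_support]
    exact Finset.mem_image_of_mem _ (Finset.mem_univ k)
  have key := congrArg (cf μ) h
  simp only [map_sum, cf_tmul, MvPolynomial.coeff_monomial, ite_smul, one_smul, zero_smul] at key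
  rw [Finset.sum_eq_single q', Finset.sum_eq_single q, if_pos rfl,
    Finset.sum_eq_single q', Finset.sum_eq_single q, if_pos rfl] at key
  · exact key
  all_goals first
    | exact fun hn => absurd (hmem _) hn
    | exact fun p _ hp => Finset.sum_eq_zero fun p' _ => if_neg fun e => hp (hinj _ _ e).2
    | exact fun p _ hp => if_neg fun e => hp (hinj _ _ e).1

/-- The algebra map out of symmetric tensors classifying a law. -/
noncomputable def classHom : SymTen.TS A B d →ₐ[A] C :=
  AlgHom.ofLinearMap (classLin d b F) (classLin_one d b F) (classLin_mul d b F)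

theorem classHom_tau (S : Type u) [CommSemiring S] [Algebra A S] (x : S ⊗[A] B) :
    bc (classHom d b F) S (ev (tau d b) S x) = ev F S x := by
  rw [← lTensor_eq_bc]
  exact classLin_tau d b F S x

theorem eq_classHom {f : SymTen.TS A B d →ₐ[A] C}
    (h : ∀ (S : Type u) [CommRing S] [Algebra A S] (x : S ⊗[A] B),
      bc f S (ev (tau d b) S x) = ev F S x) : f = classHom d b F := by
  apply AlgHom.toLinearMap_injective
  refine lin_eq_of_tau d b fun S _ _ x => ?_
  rw [lTensor_eq_bc, h, lTensor_eq_bc, classHom_tau]

theorem isGammaD_tau : IsGammaD (tau d b) := by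
  classical
  intro C' _ _ F'
  refine ⟨classHom d b F', ?_, fun f hf => eq_classHom d b F' (postcomp_eq_iff.mp hf)⟩
  exact postcomp_eq_iff.mpr fun S _ _ x => classHom_tau d b F' S x

end Groth.Agent.PolLib
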