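import Groth.Prelude.Def_PolLaw
import Mathlib.Algebra.CharP.Lemmas
import Mathlib.RingTheory.AdjoinRoot
import Mathlib.RingTheory.MvPolynomial.Basic
import Mathlib.RingTheory.MvPolynomial.Ideal

/-! Kernels of the `p`-th power law in characteristic `p`. -/

universe u

open scoped TensorProduct

namespace Groth.Agent.PolLib

theorem add_mul_pow_prime {T : Type*} [CommSemiring T] {p : ℕ} (hp : p.Prime) (h0 : (p : T) = 0)
    (x w c : T) (hc : c ^ p = 0) : (x + w * c) ^ p = x ^ p := by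
  obtain ⟨r, hr⟩ := exists_add_pow_prime_eq hp x (w * c)
  rw [hr, h0, mul_pow, hc, mul_zero]
  simp

theorem natCast_eq_zero {k T : Type*} [CommSemiring k] [Semiring T] [Algebra k T] {p : ℕ}
    (h : (p : k) = 0) : (p : T) = 0 := by
  rw [← map_natCast (algebraMap k T), h, map_zero]

theorem mem_ker_pow {A : Type u} [CommRing A] {p : ℕ} (hp : p.Prime) (h0 : (p : A) = 0) (b : A) :
    b ∈ PolLaw.ker (PolLaw.MulLaw.pow A A p).law ↔ b ^ p = 0 := by
  constructor
  · intro h
    have h1 := h A 0 1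
    change (0 + 1 * ((1 : A) ⊗ₜ[A] b)) ^ p = (0 : A ⊗[A] A) ^ p at h1
    rw [zero_add, one_mul, zero_pow hp.ne_zero, Algebra.TensorProduct.tmul_pow, one_pow] at h1
    simpa using congrArg (TensorProduct.lid A A) h1
  · intro hb S _ _ x w
    show (x + w * ((1 : S) ⊗ₜ[A] b)) ^ p = x ^ p
    refine add_mul_pow_prime hp (natCast_eq_zero h0) x w _ ?_
    rw [Algebra.TensorProduct.tmul_pow, hb, TensorProduct.tmul_zero]

theorem pow_ker_field (k : Type u) [Field k] (p : ℕ) [Fact p.Prime] [CharP k p] :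
    PolLaw.ker (PolLaw.MulLaw.pow k k p).law = ⊥ ∧
      PolLaw.kerBC (PolLaw.MulLaw.pow k k p).law (AdjoinRoot ((Polynomial.X : Polynomial k) ^ p))
        ≠ ⊥ := by
  have hp : p.Prime := Fact.out
  refine ⟨eq_bot_iff.mpr fun b hb => ?_, fun h => ?_⟩
  · exact Ideal.mem_bot.mpr
      (eq_zero_of_pow_eq_zero ((mem_ker_pow hp (CharP.cast_eq_zero k p) b).mp hb))
  · let α := AdjoinRoot.root ((Polynomial.X : Polynomial k) ^ p)
    have hα : α ^ p = 0 := by
      show AdjoinRoot.root ((Polynomial.X : Polynomial k) ^ p) ^ p = 0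
      rw [← AdjoinRoot.mk_X, ← map_pow, AdjoinRoot.mk_self]
    have hmem : α ⊗ₜ[k] (1 : k) ∈ PolLaw.kerBC (PolLaw.MulLaw.pow k k p).law
        (AdjoinRoot ((Polynomial.X : Polynomial k) ^ p)) := by
      intro R _ _ _ _ x w
      show (x + w * _) ^ p = x ^ p
      refine add_mul_pow_prime hp (natCast_eq_zero (CharP.cast_eq_zero k p)) x w _ ?_
      rw [Algebra.TensorProduct.map_tmul, Algebra.TensorProduct.tmul_pow, ← map_pow, hα, map_zero,
        TensorProduct.zero_tmul]
    rw [h, Ideal.mem_bot] at hmem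
    have h1 : α = 0 := by
      simpa using congrArg
        (TensorProduct.rid k (AdjoinRoot ((Polynomial.X : Polynomial k) ^ p))) hmem
    change AdjoinRoot.root ((Polynomial.X : Polynomial k) ^ p) = 0 at h1
    rw [← AdjoinRoot.mk_X, AdjoinRoot.mk_eq_zero] at h1
    have := Polynomial.X_pow_dvd_iff.mp h1 1 hp.one_lt
    simp at this

theorem pow_ker_truncated (k : Type u) [Field k] (p : ℕ) [Fact p.Prime] [CharP k p] :
    PolLaw.ker (PolLaw.MulLaw.pow
        (MvPolynomial ℕ k ⧸ Ideal.span (Set.range fun i : ℕ => (MvPolynomial.X i : MvPolynomial ℕ k) ^ p))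
        (MvPolynomial ℕ k ⧸ Ideal.span (Set.range fun i : ℕ => (MvPolynomial.X i : MvPolynomial ℕ k) ^ p)) p).law =
      (Ideal.span (Set.range fun i : ℕ => (MvPolynomial.X i : MvPolynomial ℕ k))).map
        (Ideal.Quotient.mk (Ideal.span (Set.range fun i : ℕ => (MvPolynomial.X i : MvPolynomial ℕ k) ^ p))) ∧
    ¬ (PolLaw.ker (PolLaw.MulLaw.pow
        (MvPolynomial ℕ k ⧸ Ideal.span (Set.range fun i : ℕ => (MvPolynomial.X i : MvPolynomial ℕ k) ^ p))
        (MvPolynomial ℕ k ⧸ Ideal.span (Set.range fun i : ℕ => (MvPolynomial.X i : MvPolynomial ℕ k) ^ p)) p).law).FG := by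
  classical
  have hp : p.Prime := Fact.out
  set J := Ideal.span (Set.range fun i : ℕ => (MvPolynomial.X i : MvPolynomial ℕ k) ^ p) with hJ
  set M := Ideal.span (Set.range fun i : ℕ => (MvPolynomial.X i : MvPolynomial ℕ k)) with hM
  let Q := MvPolynomial ℕ k ⧸ J
  have h0 : (p : Q) = 0 := natCast_eq_zero (k := k) (CharP.cast_eq_zero k p)
  have hX : ∀ i : ℕ, (Ideal.Quotient.mk J (MvPolynomial.X i)) ^ p = 0 := fun i => by
    rw [← map_pow, Ideal.Quotient.eq_zero_iff_mem]
    exact Ideal.subset_span ⟨i, rfl⟩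
  let ker := PolLaw.ker (PolLaw.MulLaw.pow Q Q p).law
  have hle : M.map (Ideal.Quotient.mk J) ≤ ker := by
    rw [hM, Ideal.map_span, Ideal.span_le]
    rintro _ ⟨_, ⟨i, rfl⟩, rfl⟩
    exact (mem_ker_pow hp h0 _).mpr (hX i)
  have hker : ker = M.map (Ideal.Quotient.mk J) := by
    refine le_antisymm (fun b hb => ?_) hle
    obtain ⟨f, rfl⟩ := Ideal.Quotient.mk_surjective b
    let ev : Q →+* k := Ideal.Quotient.lift J (MvPolynomial.constantCoeff) (fun a ha => by
      have : J ≤ RingHom.ker (MvPolynomial.constantCoeff : MvPolynomial ℕ k →+* k) := by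
        rw [hJ, Ideal.span_le]
        rintro _ ⟨i, rfl⟩
        simp [hp.ne_zero]
      exact this ha)
    have hb' := congrArg ev ((mem_ker_pow hp h0 _).mp hb)
    rw [map_pow, map_zero] at hb'
    have hc : MvPolynomial.constantCoeff f = 0 := eq_zero_of_pow_eq_zero hb'
    refine Ideal.mem_map_of_mem _ ?_
    rw [hM, ← Set.image_univ, MvPolynomial.mem_ideal_span_X_image]
    intro m hm
    have hm0 : m ≠ 0 := fun h => by
      rw [h, MvPolynomial.mem_support_iff, ← MvPolynomial.constantCoeff_eq] at hm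
      exact hm hc
    obtain ⟨i, hi⟩ := Finsupp.ne_iff.mp hm0
    exact ⟨i, Set.mem_univ i, by simpa using hi⟩
  refine ⟨hker, ?_⟩
  show ¬ ker.FG
  rintro ⟨s, hs⟩
  choose l hl using fun q : Q => Ideal.Quotient.mk_surjective (I := J) q
  let V : Finset ℕ := s.biUnion fun q => (l q).vars
  obtain ⟨j, hj⟩ := Infinite.exists_notMem_finset V
  let T := AdjoinRoot ((Polynomial.X : Polynomial k) ^ p)
  let α : T := AdjoinRoot.root _
  have hα : α ^ p = 0 := by
    show AdjoinRoot.root ((Polynomial.X : Polynomial k) ^ p) ^ p = 0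
    rw [← AdjoinRoot.mk_X, ← map_pow, AdjoinRoot.mk_self]
  let g : MvPolynomial ℕ k →ₐ[k] T := MvPolynomial.aeval fun i => if i = j then α else 0
  let gQ : Q →+* T := Ideal.Quotient.lift J g.toRingHom (fun a ha => by
    have : J ≤ RingHom.ker g.toRingHom := by
      rw [hJ, Ideal.span_le]
      rintro _ ⟨i, rfl⟩
      by_cases hi : i = j <;> simp [g, hi, hα, hp.ne_zero]
    exact this ha)
  have hsker : ∀ q ∈ s, gQ q = 0 := by
    intro q hq
    have hqk : q ∈ ker := hs ▸ Ideal.subset_span hq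
    have hq' := congrArg gQ ((mem_ker_pow hp h0 q).mp hqk)
    rw [map_pow, map_zero] at hq'
    rw [← hl q]
    show g (l q) = 0
    have hgl : g (l q) = MvPolynomial.aeval (fun _ : ℕ => (0 : T)) (l q) := by
      refine MvPolynomial.eval₂Hom_congr' rfl (fun i hi _ => ?_) rfl
      have : i ≠ j := fun h => hj (h ▸ Finset.mem_biUnion.mpr ⟨q, hq, hi⟩)
      simp [this]
    rw [← hl q] at hq'
    change g (l q) ^ p = 0 at hq'
    rw [hgl, MvPolynomial.aeval_def, MvPolynomial.eval₂_zero'_apply] at hq' ⊢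
    rw [← map_pow] at hq'
    have hnt : Nontrivial T := AdjoinRoot.nontrivial _ (by
      rw [Polynomial.degree_X_pow]; exact_mod_cast hp.ne_zero)
    have := (map_eq_zero (algebraMap k T)).mp hq'
    rw [eq_zero_of_pow_eq_zero this, map_zero]
  have hXj : Ideal.Quotient.mk J (MvPolynomial.X j) ∈ ker :=
    (mem_ker_pow hp h0 _).mpr (hX j)
  rw [← hs] at hXj
  have h2 : gQ (Ideal.Quotient.mk J (MvPolynomial.X j)) = 0 := by
    have : Ideal.span (s : Set Q) ≤ RingHom.ker gQ := Ideal.span_le.mpr hsker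
    exact this hXj
  change g (MvPolynomial.X j) = 0 at h2
  simp only [g, MvPolynomial.aeval_X, if_true, α] at h2
  change AdjoinRoot.root ((Polynomial.X : Polynomial k) ^ p) = 0 at h2
  rw [← AdjoinRoot.mk_X, AdjoinRoot.mk_eq_zero] at h2
  have := Polynomial.X_pow_dvd_iff.mp h2 1 hp.one_lt
  simp at this

end Groth.Agent.PolLib
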