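import Groth.Agent.PolLib.Free
import Mathlib.RingTheory.Adjoin.Basic
import Mathlib.LinearAlgebra.TensorProduct.Prod

/-! Existence of the degree-`d` divided power algebra, and spanning by coefficients. -/

universe u v w

open scoped TensorProduct

namespace Groth.Agent.PolLib

open PolLaw

variable {A : Type u} [CommRing A] {P : Type u} [CommRing P] [Algebra A P]
  {B : Type u} [CommRing B] [Algebra A B] {D : Type u} [CommRing D] [Algebra A D]
  {d : ℕ}

/-- A law factors through a surjection `π` if its values only depend on the image. -/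
def Stable (G : MulLaw A P D d) (π : P →ₐ[A] B) : Prop :=
  ∀ (S : Type u) [CommSemiring S] [Algebra A S] (x y : S ⊗[A] P),
    bc π S x = bc π S y → ev G S x = ev G S y

/-- The law on `B` descended from a stable law on `P`. -/
noncomputable def descend (G : MulLaw A P D d) (π : P →ₐ[A] B) (hπ : Function.Surjective π)
    (hG : Stable G π) : MulLaw A B D d where
  law :=
  { toFun' := fun S _ _ z => ev G S (Function.surjInv (bc_surjective (S := S) hπ) z)
    isCompat' := fun {S} _ _ {S'} _ _ φ => by
      funext z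
      simp only [Function.comp_apply, rTensor_eq_rB]
      rw [ev_nat]
      apply hG
      rw [← bc_rB, Function.surjInv_eq (bc_surjective hπ), Function.surjInv_eq (bc_surjective hπ)] }
  homog S _ _ s z := by
    show ev G S _ = s ^ d • ev G S _
    rw [← ev_smul]
    apply hG
    rw [map_smul, Function.surjInv_eq (bc_surjective hπ), Function.surjInv_eq (bc_surjective hπ)]
  mult S _ _ := by
    refine ⟨?_, fun x y => ?_⟩
    · show ev G S _ = 1
      rw [← ev_one G (S := S)]
      apply hG
      rw [map_one, Function.surjInv_eq (bc_surjective hπ)]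
    · show ev G S _ = ev G S _ * ev G S _
      rw [← ev_mul]
      apply hG
      rw [map_mul, Function.surjInv_eq (bc_surjective hπ), Function.surjInv_eq (bc_surjective hπ),
        Function.surjInv_eq (bc_surjective hπ)]

theorem ev_descend (G : MulLaw A P D d) (π : P →ₐ[A] B) (hπ : Function.Surjective π)
    (hG : Stable G π) (S : Type u) [CommSemiring S] [Algebra A S] (x : S ⊗[A] P) :
    ev (descend G π hπ hG) S (bc π S x) = ev G S x :=
  hG S _ _ (Function.surjInv_eq (bc_surjective hπ) _)

theorem stable_precomp (F : MulLaw A B D d) (π : P →ₐ[A] B) : Stable (MulLaw.precomp F π) π := by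
  intro S _ _ x y h
  rw [ev_precomp, ev_precomp, h]

theorem exists_lift_pair (π : P →ₐ[A] B) (hπ : Function.Surjective π)
    (S : Type u) [CommSemiring S] [Algebra A S] (x y : S ⊗[A] P) (h : bc π S x = bc π S y) :
    ∃ (n : ℕ) (ψ : MvPolynomial (Fin n) A →ₐ[A] S) (x₀ y₀ : MvPolynomial (Fin n) A ⊗[A] P),
      bc π _ x₀ = bc π _ y₀ ∧ rB P ψ x₀ = x ∧ rB P ψ y₀ = y := by
  let _ : CommRing S := RingHom.commSemiringToCommRing (algebraMap A S)
  let K : Submodule A P := LinearMap.ker π.toLinearMap
  have hex : Function.Exact K.subtype π.toLinearMap := LinearMap.exact_subtype_ker_map _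
  have h1 : π.toLinearMap.lTensor S (y - x) = 0 := by
    rw [map_sub, lTensor_eq_bc, lTensor_eq_bc, h, sub_self]
  obtain ⟨w, hw⟩ := ((lTensor_exact S hex hπ) _).mp h1
  obtain ⟨n, ψ, p, hp⟩ :=
    PolynomialLaw.exists_lift (R := A) ((TensorProduct.prodRight A A S P K).symm (x, w))
  let x₀ := (LinearMap.fst A P K).lTensor _ p
  let w₀ := K.subtype.lTensor (MvPolynomial (Fin n) A) ((LinearMap.snd A P K).lTensor _ p)
  refine ⟨n, ψ, x₀, x₀ + w₀, ?_, ?_, ?_⟩
  · rw [map_add, ← lTensor_eq_bc π w₀]
    have : π.toLinearMap.lTensor (MvPolynomial (Fin n) A) w₀ = 0 :=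
      ((lTensor_exact _ hex hπ) _).mpr ⟨_, rfl⟩
    rw [this, add_zero]
  all_goals
    have hfst : ∀ z : S ⊗[A] (P × K),
        (TensorProduct.prodRight A A S P K z).1 = (LinearMap.fst A P K).lTensor S z := by
      intro z
      induction z using TensorProduct.induction_on with
      | zero => simp
      | tmul a b => simp
      | add a b ha hb => simp [ha, hb]
    have hsnd : ∀ z : S ⊗[A] (P × K),
        (TensorProduct.prodRight A A S P K z).2 = (LinearMap.snd A P K).lTensor S z := by
      intro z
      induction z using TensorProduct.induction_on with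
      | zero => simp
      | tmul a b => simp
      | add a b ha hb => simp [ha, hb]
    have e1 : rB P ψ x₀ = x := by
      rw [← rTensor_eq_rB, ← LinearMap.comp_apply, LinearMap.rTensor_comp_lTensor,
        ← LinearMap.lTensor_comp_rTensor, LinearMap.comp_apply, hp, ← hfst,
        LinearEquiv.apply_symm_apply]
  · exact e1
  · have e2 : rB P ψ w₀ = K.subtype.lTensor S w := by
      rw [← rTensor_eq_rB]
      show (ψ.toLinearMap.rTensor P) (K.subtype.lTensor _ ((LinearMap.snd A P K).lTensor _ p)) = _
      rw [← LinearMap.lTensor_comp_apply, ← LinearMap.comp_apply,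
        LinearMap.rTensor_comp_lTensor, ← LinearMap.lTensor_comp_rTensor, LinearMap.comp_apply,
        hp, LinearMap.lTensor_comp_apply, ← hsnd, LinearEquiv.apply_symm_apply]
    rw [map_add, e1, e2, hw, add_sub_cancel]

theorem stable_of_polynomial (G : MulLaw A P D d) (π : P →ₐ[A] B) (hπ : Function.Surjective π)
    (h : ∀ (n : ℕ) (x y : MvPolynomial (Fin n) A ⊗[A] P),
      bc π _ x = bc π _ y → ev G _ x = ev G _ y) : Stable G π := by
  intro S _ _ x y hxy
  obtain ⟨n, ψ, x₀, y₀, h0, rfl, rfl⟩ := exists_lift_pair π hπ S x y hxy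
  rw [← ev_nat, ← ev_nat, h n x₀ y₀ h0]

/-- The relations defining `Γ^d` of a quotient of an algebra with a basis. -/
noncomputable def rel {κ : Type u} (b : Module.Basis κ A P) (π : P →ₐ[A] B) (d : ℕ) :
    Ideal (SymTen.TS A P d) :=
  Ideal.span {t | ∃ (n : ℕ) (x y : MvPolynomial (Fin n) A ⊗[A] P) (μ : Fin n →₀ ℕ),
    bc π _ x = bc π _ y ∧ t = cf μ (ev (tau d b) _ x - ev (tau d b) _ y)}

section Descent

variable {κ : Type u} (b : Module.Basis κ A P) (π : P →ₐ[A] B) (hπ : Function.Surjective π)

include hπ in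
theorem stable_iff_rel_le (f : SymTen.TS A P d →ₐ[A] D) :
    Stable (MulLaw.postcomp f (tau d b)) π ↔ ∀ t ∈ rel b π d, f t = 0 := by
  constructor
  · intro h t ht
    induction ht using Submodule.span_induction with
    | zero => simp
    | add u v _ _ hu hv => simp [hu, hv]
    | smul a u _ hu => simp [hu]
    | mem u hu =>
      obtain ⟨n, x, y, μ, hxy, rfl⟩ := hu
      rw [← cf_bc₀, map_sub, ← ev_postcomp, ← ev_postcomp, h _ x y hxy, sub_self, map_zero]
  · intro h
    refine stable_of_polynomial _ π hπ fun n x y hxy => ?_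
    rw [ev_postcomp, ev_postcomp, ← sub_eq_zero, ← map_sub]
    refine ext_cf fun μ => ?_
    rw [cf_bc₀, map_zero]
    exact h _ (Ideal.subset_span ⟨n, x, y, μ, hxy, rfl⟩)

variable {Q : Type u} [CommRing Q] [Algebra A Q] (q : SymTen.TS A P d →ₐ[A] Q)
  (hq : Function.Surjective q) (hq0 : ∀ t, q t = 0 ↔ t ∈ rel b π d)

include hπ hq0 in
theorem stable_mk : Stable (MulLaw.postcomp q (tau d b)) π :=
  (stable_iff_rel_le b π hπ _).mpr fun t ht => (hq0 t).mpr ht

/-- The universal law `B → TS^d(P) / rel` for a quotient `B` of an algebra `P` with a basis. -/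
noncomputable def gam : MulLaw A B Q d :=
  descend _ π hπ (stable_mk b π hπ q hq0)

theorem ev_gam (S : Type u) [CommSemiring S] [Algebra A S] (x : S ⊗[A] P) :
    ev (gam b π hπ q hq0) S (bc π S x) = bc q S (ev (tau d b) S x) := by
  rw [gam, ev_descend, ev_postcomp]

include hq in
theorem isGammaD_gam : IsGammaD (gam b π hπ q hq0) := by
  classical
  intro D' _ _ F
  let f := classHom d b (MulLaw.precomp F π)
  have hst : Stable (MulLaw.postcomp f (tau d b)) π := by
    intro S _ _ x y hxy
    rw [ev_postcomp, ev_postcomp, classHom_tau, classHom_tau]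
    exact stable_precomp F π S x y hxy
  have hker : RingHom.ker q ≤ RingHom.ker f := fun t ht =>
    (stable_iff_rel_le b π hπ f).mp hst t ((hq0 t).mp ht)
  let f' : Q →ₐ[A] D' :=
    AlgHom.liftOfSurjective q hq f hker
  have hf' : f'.comp q = f := AlgHom.ext fun t => by simp [f']
  refine ⟨f', postcomp_eq_iff.mpr fun S _ _ z => ?_, fun g hg => ?_⟩
  · obtain ⟨x, rfl⟩ := bc_surjective hπ z
    rw [ev_gam, bc_bc, hf', ← ev_precomp, ← classHom_tau d b (MulLaw.precomp F π) S x]
  · have h1 : g.comp q = f := by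
      refine eq_classHom d b (MulLaw.precomp F π) fun S _ _ x => ?_
      rw [← bc_bc, ← ev_gam b π hπ q hq0, postcomp_eq_iff.mp hg, ev_precomp]
    refine AlgHom.ext fun t => ?_
    obtain ⟨t, rfl⟩ := hq t
    exact (DFunLike.congr_fun h1 t).trans (DFunLike.congr_fun hf' t).symm

end Descent

/-- A polynomial algebra surjecting onto `B`. -/
noncomputable def cover (A B : Type u) [CommRing A] [CommRing B] [Algebra A B] :
    MvPolynomial B A →ₐ[A] B := MvPolynomial.aeval id

theorem cover_surjective (A B : Type u) [CommRing A] [CommRing B] [Algebra A B] :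
    Function.Surjective (cover A B) := fun x => ⟨MvPolynomial.X x, MvPolynomial.aeval_X id x⟩

theorem exists_quot {T : Type u} [CommRing T] [Algebra A T] (I : Ideal T) :
    ∃ (Q : Type u) (_ : CommRing Q) (_ : Algebra A Q) (q : T →ₐ[A] Q),
      Function.Surjective q ∧ ∀ t, q t = 0 ↔ t ∈ I :=
  ⟨T ⧸ I, inferInstance, inferInstance, Ideal.Quotient.mkₐ A I, Ideal.Quotient.mkₐ_surjective A I,
    fun _ => Ideal.Quotient.eq_zero_iff_mem⟩

/-- Existence of `Γ^d_A(B)`. -/
theorem exists_isGammaD (A B : Type u) [CommRing A] [CommRing B] [Algebra A B] (d : ℕ) :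
    ∃ (C : Type u) (_ : CommRing C) (_ : Algebra A C) (γ : MulLaw A B C d), IsGammaD γ := by
  let b := MvPolynomial.basisMonomials B A
  obtain ⟨Q, hr, ha, q, hq, hq0⟩ := exists_quot (A := A)
    (T := SymTen.TS A (MvPolynomial B A) d) (rel b (cover A B) d)
  exact ⟨Q, hr, ha, gam b (cover A B) (cover_surjective A B) q hq0,
    isGammaD_gam b (cover A B) (cover_surjective A B) q hq hq0⟩

section Span

variable {C : Type u} [CommRing C] [Algebra A C] (γ : MulLaw A B C d)

/-- The coefficients of a law on polynomial rings. -/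
def coeffs : Set C :=
  {c | ∃ (σ : Type u) (μ : σ →₀ ℕ) (z : MvPolynomial σ A ⊗[A] B), c = cf μ (ev γ _ z)}

theorem gamma_hom_eq {γ : MulLaw A B C d} (hγ : IsGammaD γ) {f g : C →ₐ[A] D}
    (h : ∀ (S : Type u) [CommRing S] [Algebra A S] (x : S ⊗[A] B),
      bc f S (ev γ S x) = bc g S (ev γ S x)) : f = g := by
  obtain ⟨k, _, hk⟩ := hγ D (MulLaw.postcomp g γ)
  rw [hk f (postcomp_eq_iff.mpr fun S _ _ x => by rw [h, ev_postcomp]), hk g rfl]

theorem classHom_surjective {γ : MulLaw A B C d} (hγ : IsGammaD γ) {κ : Type u}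
    [DecidableEq κ] (b : Module.Basis κ A P) (π : P →ₐ[A] B) (hπ : Function.Surjective π) :
    Function.Surjective (classHom d b (MulLaw.precomp γ π)) := by
  -- the range `R` of the classifying map receives a law splitting `R → C`
  let h := classHom d b (MulLaw.precomp γ π)
  let R := h.range
  have hst : Stable (MulLaw.postcomp h (tau d b)) π := by
    intro S _ _ x y hxy
    rw [ev_postcomp, ev_postcomp, classHom_tau, classHom_tau]
    exact stable_precomp γ π S x y hxy
  have hst' : Stable (MulLaw.postcomp h.rangeRestrict (tau d b)) π := by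
    rw [stable_iff_rel_le b π hπ]
    intro t ht
    exact Subtype.val_injective ((stable_iff_rel_le b π hπ h).mp hst t ht)
  obtain ⟨f, hf, -⟩ := hγ R (descend _ π hπ hst')
  have h1 : R.val.comp f = AlgHom.id A C := gamma_hom_eq hγ fun S _ _ z => by
    obtain ⟨x, rfl⟩ := bc_surjective hπ z
    rw [← bc_bc, postcomp_eq_iff.mp hf, ev_descend, ev_postcomp, bc_bc, bc_id,
      AlgHom.val_comp_rangeRestrict, classHom_tau, ev_precomp]
  intro c
  obtain ⟨t, ht⟩ := (f c).2
  exact ⟨t, ht.trans (DFunLike.congr_fun h1 c)⟩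

theorem span_coeffs {γ : MulLaw A B C d} (hγ : IsGammaD γ) :
    Submodule.span A (coeffs γ) = ⊤ := by
  classical
  rw [eq_top_iff]
  rintro c -
  let b := MvPolynomial.basisMonomials B A
  obtain ⟨t, rfl⟩ := classHom_surjective hγ b (cover A B) (cover_surjective A B) c
  have ht : t ∈ Submodule.span A (Set.range (orb b : Orb _ d → _)) := span_orb b ▸ trivial
  induction ht using Submodule.span_induction with
  | zero => simp
  | add u v _ _ hu hv => rw [map_add]; exact Submodule.add_mem _ hu hv
  | smul a u _ hu => rw [map_smul]; exact Submodule.smul_mem _ _ hu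
  | mem u hu =>
    obtain ⟨q, rfl⟩ := hu
    refine Submodule.subset_span ⟨_, qexpo q, bc (cover A B) _ (xu b (qexpo q).support), ?_⟩
    rw [← ev_precomp]
    exact classLin_orb d b (MulLaw.precomp γ (cover A B)) q

theorem adjoin_coeffs {γ : MulLaw A B C d} (hγ : IsGammaD γ) :
    Algebra.adjoin A (coeffs γ) = ⊤ := by
  rw [eq_top_iff]
  intro c _
  have : c ∈ Submodule.span A (coeffs γ) := span_coeffs hγ ▸ trivial
  exact Algebra.span_le_adjoin A _ this

theorem gamma_map_surjective {γ : MulLaw A B C d}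
    {B' : Type u} [CommRing B'] [Algebra A B'] {C' : Type u} [CommRing C'] [Algebra A C']
    {γ' : MulLaw A B' C' d} (hγ' : IsGammaD γ')
    (π : B →ₐ[A] B') (hπ : Function.Surjective π) (φ : C →ₐ[A] C')
    (hφ : ∀ (S : Type u) [CommRing S] [Algebra A S] (x : S ⊗[A] B),
      bc φ S (ev γ S x) = ev γ' S (bc π S x)) : Function.Surjective φ := by
  intro c
  have hc : c ∈ Submodule.span A (coeffs γ') := span_coeffs hγ' ▸ trivial
  suffices h : c ∈ LinearMap.range φ.toLinearMap from h
  refine Submodule.span_le.mpr ?_ hc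
  rintro _ ⟨σ, μ, z, rfl⟩
  obtain ⟨x, rfl⟩ := bc_surjective hπ z
  exact ⟨cf μ (ev γ _ x), by rw [AlgHom.toLinearMap_apply, ← cf_bc, hφ]⟩

end Span

end Groth.Agent.PolLib
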