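import Groth.Agent.PolLib.Fibres
import Mathlib.FieldTheory.IsAlgClosed.AlgebraicClosure
import Mathlib.RingTheory.Spectrum.Prime.RingHom
import Mathlib.RingTheory.Spectrum.Prime.Chevalley
import Mathlib.RingTheory.MvPolynomial.Tower

/-! Generisation of points of a multiplicative law, and openness. -/

universe u v

open scoped TensorProduct

namespace Groth.Agent.PolLib

open PolLaw Polynomial

variable {A : Type u} [CommRing A] {B : Type u} [CommRing B] [Algebra A B] {d : ℕ}
  (F : MulLaw A B A d)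

theorem points_of_injective {R K : Type u} [CommRing R] [Algebra A R] [Field K] [Algebra A K]
    (ι : R →ₐ[A] K) (hι : Function.Injective ι) (x' : Fin d → (B →ₐ[A] R))
    (hx : ∀ (S : Type u) [CommRing S] [Algebra A S] (j : K →ₐ[A] S) (z : S ⊗[A] B),
      evl F (j.comp (Algebra.ofId A K)) z = ∏ i, mu (j.comp (ι.comp (x' i))) z)
    (S : Type u) [CommRing S] [Algebra A S] (j : R →ₐ[A] S) (z : S ⊗[A] B) :
    evl F (j.comp (Algebra.ofId A R)) z = ∏ i, mu (j.comp (x' i)) z := by
  obtain ⟨n, ψ, z₀, w₀, rfl, -⟩ := exists_lift₂ S z z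
  let inR : R →ₐ[A] MvPolynomial (Fin n) R := IsScalarTower.toAlgHom A R _
  let inV : MvPolynomial (Fin n) A →ₐ[A] MvPolynomial (Fin n) R :=
    MvPolynomial.aeval MvPolynomial.X
  let θ : MvPolynomial (Fin n) R →ₐ[A] S :=
    AlgHom.mk (MvPolynomial.eval₂Hom j.toRingHom fun k => ψ (MvPolynomial.X k)) (fun a => by
      show MvPolynomial.eval₂Hom j.toRingHom _ (MvPolynomial.C (algebraMap A R a)) = _
      rw [MvPolynomial.eval₂Hom_C]
      exact j.commutes a)
  have hθR : θ.comp inR = j := AlgHom.ext fun r => by simp [θ, inR]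
  have hθV : θ.comp inV = ψ := MvPolynomial.algHom_ext fun k => by simp [θ, inV]
  have key : evl F (inR.comp (Algebra.ofId A R)) (rB B inV z₀) =
      ∏ i, mu (inR.comp (x' i)) (rB B inV z₀) := by
    let m : MvPolynomial (Fin n) R →ₐ[A] MvPolynomial (Fin n) K := MvPolynomial.mapAlgHom ι
    let inK : K →ₐ[A] MvPolynomial (Fin n) K := IsScalarTower.toAlgHom A K _
    have hm : Function.Injective m := MvPolynomial.map_injective _ hι
    have hmR : m.comp inR = inK.comp ι := AlgHom.ext fun r => by simp [m, inR, inK]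
    apply hm
    rw [map_prod, ← evl_nat' F _ m (g' := inK.comp (Algebra.ofId A K)) (Subsingleton.elim _ _),
      hx]
    refine Finset.prod_congr rfl fun i _ => ?_
    rw [← mu_rB, ← AlgHom.comp_assoc m, hmR, AlgHom.comp_assoc]
  have h2 := congrArg θ key
  rw [map_prod, ← evl_nat' F _ θ (g' := j.comp (Algebra.ofId A R))
      (by rw [← AlgHom.comp_assoc, hθR]), rB_rB, hθV] at h2
  refine h2.trans (Finset.prod_congr rfl fun i _ => ?_)
  rw [← mu_rB, ← AlgHom.comp_assoc, hθR, rB_rB, hθV]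

theorem exists_generic {D : Type u} [CommRing D] [IsDomain D] [Algebra A D]
    {Ω : Type u} [Field Ω] [IsAlgClosed Ω] [Algebra A Ω] (f : D →ₐ[A] Ω)
    (y : B →ₐ[A] Ω) (hy : ∀ b ∈ PolLaw.ker F.law, y b = 0) :
    ∃ (R : Type u) (_ : CommRing R) (_ : IsDomain R) (_ : Algebra A R)
      (e : D →ₐ[A] R) (x : B →ₐ[A] R) (h : R →ₐ[A] Ω), Function.Injective e ∧
        (∀ b ∈ PolLaw.ker F.law, x b = 0) ∧ h.comp e = f ∧ h.comp x = y := by
  let K := AlgebraicClosure (FractionRing D)
  let R := integralClosure D K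
  obtain ⟨xK, hxK⟩ := exists_points F (Algebra.ofId A K)
  have hint : ∀ i b, xK i b ∈ R := by
    intro i b
    have := isIntegral_image F
    have h1 : IsIntegral A (Ideal.Quotient.mk (PolLaw.ker F.law) b) := Algebra.IsIntegral.isIntegral _
    let q : PolLaw.image F.law →ₐ[A] K := Ideal.Quotient.liftₐ _ (xK i) fun c hc =>
      point_kills_ker hxK hc i
    exact (h1.map q).tower_top
  let x : Fin d → (B →ₐ[A] R) := fun i =>
    (xK i).codRestrict (R.restrictScalars A) (hint i)
  let ι : R →ₐ[A] K := R.val.restrictScalars A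
  have hιx : ∀ i, ι.comp (x i) = xK i := fun i => AlgHom.ext fun b => rfl
  have hR := points_of_injective F ι Subtype.val_injective x fun S _ _ j z => by
    simpa only [hιx] using hxK S j z
  obtain ⟨h₀, hh₀⟩ := exists_ringHom_ext_of_isIntegral (T := R) f.toRingHom (by
    intro a ha
    have h1 : algebraMap D K a = 0 := congrArg Subtype.val ha
    rw [RingHom.mem_ker]
    have h2 : a = 0 := by
      apply IsFractionRing.injective D (FractionRing D)
      apply (algebraMap (FractionRing D) K).injective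
      rw [map_zero, map_zero, ← IsScalarTower.algebraMap_apply, h1]
    rw [h2, map_zero])
  let h : R →ₐ[A] Ω := AlgHom.mk h₀ (fun a => by
    show h₀ (algebraMap A R a) = _
    rw [IsScalarTower.algebraMap_apply A D R, ← f.commutes]
    exact DFunLike.congr_fun hh₀ (algebraMap A D a))
  have hz : ∀ (S : Type u) [CommRing S] [Algebra A S] (j : Ω →ₐ[A] S) (z : S ⊗[A] B),
      evl F (j.comp (Algebra.ofId A Ω)) z = ∏ i, mu (j.comp (h.comp (x i))) z := by
    intro S _ _ j z
    rw [show j.comp (Algebra.ofId A Ω) = (j.comp h).comp (Algebra.ofId A R) from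
      Subsingleton.elim _ _, hR]
    simp only [AlgHom.comp_assoc]
  obtain ⟨i, hi⟩ := point_eq_of_kills_ker hz y hy
  refine ⟨R, inferInstance, inferInstance, inferInstance, IsScalarTower.toAlgHom A D R, x i, h, ?_,
    fun b hb => Subtype.val_injective (point_kills_ker hxK hb i), AlgHom.ext fun a =>
      DFunLike.congr_fun hh₀ a, hi.symm⟩
  intro a b hab
  apply IsFractionRing.injective D (FractionRing D)
  apply (algebraMap (FractionRing D) K).injective
  rw [← IsScalarTower.algebraMap_apply, ← IsScalarTower.algebraMap_apply]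
  exact congrArg Subtype.val hab

/-- Generisations lift along `Spec (A' ⊗ image) → Spec A'`. -/
theorem exists_le_over (A' : Type u) [CommRing A'] [Algebra A A'] (p : Ideal A') [p.IsPrime]
    (Q : Ideal (A' ⊗[A] B)) [Q.IsPrime]
    (hQker : (PolLaw.ker F.law).map (Algebra.TensorProduct.includeRight : B →ₐ[A] A' ⊗[A] B) ≤ Q)
    (hpQ : p ≤ Q.comap (algebraMap A' (A' ⊗[A] B))) :
    ∃ P : Ideal (A' ⊗[A] B), P.IsPrime ∧ P ≤ Q ∧
      (PolLaw.ker F.law).map (Algebra.TensorProduct.includeRight : B →ₐ[A] A' ⊗[A] B) ≤ P ∧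
      P.comap (algebraMap A' (A' ⊗[A] B)) = p := by
  let Ω := AlgebraicClosure Q.ResidueField
  let q : A' ⊗[A] B →ₐ[A] Ω := IsScalarTower.toAlgHom A (A' ⊗[A] B) Ω
  have hker : RingHom.ker (algebraMap (A' ⊗[A] B) Ω) = Q := by
    rw [IsScalarTower.algebraMap_eq (A' ⊗[A] B) Q.ResidueField Ω, RingHom.ker_comp_of_injective _
      (RingHom.injective _), Ideal.ker_algebraMap_residueField]
  let i : A' →ₐ[A] Ω := q.comp Algebra.TensorProduct.includeLeft
  let y : B →ₐ[A] Ω := q.comp Algebra.TensorProduct.includeRight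
  let f : A' ⧸ p →ₐ[A] Ω := Ideal.Quotient.liftₐ p i fun a ha => by
    have h1 : algebraMap A' (A' ⊗[A] B) a ∈ Q := hpQ ha
    rw [← hker] at h1
    exact h1
  have hy : ∀ b ∈ PolLaw.ker F.law, y b = 0 := fun b hb => by
    have h1 : (1 : A') ⊗ₜ[A] b ∈ RingHom.ker (algebraMap (A' ⊗[A] B) Ω) := by
      rw [hker]; exact hQker (Ideal.mem_map_of_mem _ hb)
    exact h1
  obtain ⟨R, _, _, _, e, x, h, he, hx, hhe, hhx⟩ := exists_generic F f y hy
  let g : A' ⊗[A] B →ₐ[A] R := Algebra.TensorProduct.productMap (e.comp (Ideal.Quotient.mkₐ A p)) x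
  have hg : h.comp g = q := by
    refine Algebra.TensorProduct.ext' fun a b => ?_
    simp only [g, AlgHom.comp_apply, Algebra.TensorProduct.productMap_apply_tmul, map_mul]
    rw [show h (e (Ideal.Quotient.mkₐ A p a)) = i a from DFunLike.congr_fun hhe _,
      show h (x b) = y b from DFunLike.congr_fun hhx b]
    simp [i, y, ← map_mul]
  refine ⟨RingHom.ker g, RingHom.ker_isPrime _, fun z hz => ?_, ?_, ?_⟩
  · rw [← hker, RingHom.mem_ker]
    show q z = 0
    rw [← hg, AlgHom.comp_apply, RingHom.mem_ker.mp hz, map_zero]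
  · rw [Ideal.map_le_iff_le_comap]
    intro b hb
    simp [g, hx b hb]
  · ext a
    rw [Ideal.mem_comap, RingHom.mem_ker, Algebra.TensorProduct.algebraMap_apply,
      Algebra.TensorProduct.productMap_apply_tmul, map_one, mul_one, AlgHom.comp_apply,
      map_eq_zero_iff _ he, Ideal.Quotient.mkₐ_eq_mk, Ideal.Quotient.eq_zero_iff_mem]
    rfl

theorem exists_fg_le_ker [Algebra.FiniteType A B] :
    ∃ J : Ideal B, J.FG ∧ J ≤ PolLaw.ker F.law ∧ J.radical = (PolLaw.ker F.law).radical := by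
  classical
  obtain ⟨n, π, hπ⟩ := Algebra.FiniteType.iff_quotient_mvPolynomial''.mp
    (inferInstance : Algebra.FiniteType A B)
  let L : A[X] ⊗[A] B := ∑ k : Fin n, (X ^ (k : ℕ) : A[X]) ⊗ₜ[A] π (MvPolynomial.X k)
  let gA : A →ₐ[A] A[X] := Algebra.ofId A A[X]
  let z := aeval L (charX F gA L)
  have hz : z ∈ PolLaw.kerBC F.law A[X] := by
    refine mem_kerBC_of_evl F fun R _ _ i g u w => ?_
    simp only [z]
    rw [rB_aeval, ← charX_nat F gA i (Subsingleton.elim _ g)]
    exact evl_cayleyHamilton F g _ u w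
  obtain ⟨T, hTker, hzT⟩ : ∃ T : Finset B, (∀ c ∈ T, c ∈ PolLaw.ker F.law) ∧
      z ∈ (Ideal.span (T : Set B)).map
        (Algebra.TensorProduct.includeRight : B →ₐ[A] A[X] ⊗[A] B) := by
    have h1 := mem_map_ker_of_mem_kerBC_polynomial F hz
    obtain ⟨T, hT, hT'⟩ := Submodule.mem_span_finite_of_mem_span h1
    have hTs : ∀ t ∈ T, ∃ c, c ∈ PolLaw.ker F.law ∧
        (Algebra.TensorProduct.includeRight : B →ₐ[A] A[X] ⊗[A] B) c = t := fun t ht => hT ht
    choose c hc hct using hTs
    refine ⟨T.attach.image fun t => c t.1 t.2, fun b hb => ?_, ?_⟩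
    · obtain ⟨t, -, rfl⟩ := Finset.mem_image.mp hb
      exact hc _ _
    · refine Submodule.span_le.mpr ?_ hT'
      intro t ht
      rw [SetLike.mem_coe, ← hct t ht]
      exact Ideal.mem_map_of_mem _ (Ideal.subset_span
        (Finset.mem_image.mpr ⟨⟨t, ht⟩, Finset.mem_attach _ _, rfl⟩))
  refine ⟨Ideal.span (T : Set B), ⟨T, rfl⟩, Ideal.span_le.mpr hTker, le_antisymm
    (Ideal.radical_mono (Ideal.span_le.mpr hTker)) ?_⟩
  rw [Ideal.radical_le_radical_iff]
  intro b hb
  rw [Ideal.radical_eq_sInf, Submodule.mem_sInf]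
  rintro Q ⟨hQ, hQp⟩
  let K := AlgebraicClosure (Ideal.ResidueField Q)
  let y : B →ₐ[A] K := IsScalarTower.toAlgHom A B K
  have hker : RingHom.ker (algebraMap B K) = Q := by
    rw [IsScalarTower.algebraMap_eq B (Ideal.ResidueField Q) K, RingHom.ker_comp_of_injective _
      (RingHom.injective _), Ideal.ker_algebraMap_residueField]
  obtain ⟨x, hx⟩ := exists_points F (Algebra.ofId A K)
  let θ : A[X] →ₐ[A] K[X] := Polynomial.mapAlgHom (Algebra.ofId A K)
  let inK : K →ₐ[A] K[X] := IsScalarTower.toAlgHom A K K[X]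
  let Y : A[X] ⊗[A] B →ₐ[A] K[X] := Algebra.TensorProduct.lift θ (inK.comp y)
    fun _ _ => Commute.all _ _
  have hY : Y z = 0 := by
    suffices h2 : (Ideal.span (T : Set B)).map
        (Algebra.TensorProduct.includeRight : B →ₐ[A] A[X] ⊗[A] B) ≤ RingHom.ker Y from h2 hzT
    rw [Ideal.map_le_iff_le_comap]
    intro c hc
    have h1 : c ∈ RingHom.ker (algebraMap B K) := by rw [hker]; exact hQ hc
    have h2 : y c = 0 := h1
    simp [Y, h2]
  have hmap : (charX F gA L).map θ.toRingHom =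
      ∏ i, (Polynomial.C (mu (inK.comp (x i)) (rB B θ L)) - X) := by
    rw [← charX_nat F gA θ (Subsingleton.elim _ (inK.comp (Algebra.ofId A K)))]
    exact charX_eq_prod F _ x hx _ _
  simp only [z] at hY
  rw [aeval_def, ← AlgHom.coe_toRingHom, Polynomial.hom_eval₂] at hY
  have hc : Y.toRingHom.comp (algebraMap A[X] (A[X] ⊗[A] B)) = θ.toRingHom :=
    RingHom.ext fun p => by simp [Y, Algebra.TensorProduct.algebraMap_apply]
  erw [hc] at hY
  rw [← Polynomial.eval_map, hmap, Polynomial.eval_prod, Finset.prod_eq_zero_iff] at hY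
  obtain ⟨i, -, hi⟩ := hY
  simp only [Polynomial.eval_sub, Polynomial.eval_C, Polynomial.eval_X, sub_eq_zero] at hi
  have hxy : (x i).comp π = y.comp π := MvPolynomial.algHom_ext fun k => by
    have h4 := congrArg (Polynomial.coeff · (k : ℕ)) hi
    simp [L, Y, θ, inK, map_sum, Polynomial.coeff_X_pow, Fin.val_inj] at h4
    exact h4
  obtain ⟨b', rfl⟩ := hπ b
  have h5 : y (π b') = 0 := (DFunLike.congr_fun hxy b').symm.trans (point_kills_ker hx hb i)
  rw [← hker]
  exact h5

theorem comap_eq_bot_of_minimal [IsDomain A] {P : Ideal B}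
    (hP : P ∈ (PolLaw.ker F.law).minimalPrimes) :
    P.comap (algebraMap A B) = ⊥ ∧
      ∀ q : Ideal A, q.IsPrime → ∃ Q : Ideal B, Q.IsPrime ∧ P ≤ Q ∧ Q.comap (algebraMap A B) = q := by
  have := hP.1.1
  let e := Algebra.TensorProduct.lid A B
  have h1 : P.comap (algebraMap A B) = ⊥ := by
    let Q₀ : Ideal (A ⊗[A] B) := P.comap e.toAlgHom
    obtain ⟨P', hP'p, hP'le, hP'ker, hP'0⟩ := exists_le_over F A ⊥ Q₀ (by
      rw [Ideal.map_le_iff_le_comap]
      intro b hb
      simpa [Q₀, e] using hP.1.2 hb) bot_le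
    let P₁ : Ideal B := P'.comap (Algebra.TensorProduct.includeRight : B →ₐ[A] A ⊗[A] B)
    have hle : P₁ ≤ P := fun b hb => by simpa [Q₀, e] using hP'le hb
    have heq : P = P₁ :=
      le_antisymm (hP.2 ⟨Ideal.IsPrime.comap _, Ideal.map_le_iff_le_comap.mp hP'ker⟩ hle) hle
    rw [heq, ← hP'0]
    ext a
    simp [P₁, Algebra.algebraMap_eq_smul_one, TensorProduct.smul_tmul', Algebra.TensorProduct.one_def]
  refine ⟨h1, fun q hq => ?_⟩
  have hint := isIntegral_image F
  have hI : Algebra.IsIntegral A (B ⧸ P) :=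
    Algebra.IsIntegral.of_surjective (Ideal.Quotient.factorₐ A hP.1.2)
      (Ideal.Quotient.factor_surjective hP.1.2)
  obtain ⟨Q, -, hQ, hQq⟩ := Ideal.exists_ideal_over_prime_of_isIntegral q (⊥ : Ideal (B ⧸ P)) (by
    intro a ha
    have : a ∈ P.comap (algebraMap A B) :=
      Ideal.mem_comap.mpr (Ideal.Quotient.eq_zero_iff_mem.mp
        (show Ideal.Quotient.mk P (algebraMap A B a) = 0 from ha))
    rw [h1] at this
    rw [(Submodule.mem_bot A).mp this]
    exact zero_mem _)
  refine ⟨Q.comap (Ideal.Quotient.mkₐ A P), Ideal.IsPrime.comap _, fun b hb => ?_, ?_⟩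
  · rw [Ideal.mem_comap, Ideal.Quotient.mkₐ_eq_mk, Ideal.Quotient.eq_zero_iff_mem.mpr hb]
    exact zero_mem _
  · rw [← hQq]
    rfl

/-- The quotient map on base changes. -/
noncomputable def bcImage (A' : Type u) [CommRing A'] [Algebra A A'] :
    A' ⊗[A] B →ₐ[A'] A' ⊗[A] PolLaw.image F.law :=
  bc (Ideal.Quotient.mkₐ A (PolLaw.ker F.law)) A'

theorem ker_bcImage (A' : Type u) [CommRing A'] [Algebra A A'] :
    RingHom.ker (bcImage F A') =
      (PolLaw.ker F.law).map (Algebra.TensorProduct.includeRight : B →ₐ[A] A' ⊗[A] B) :=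
  (Algebra.TensorProduct.lTensor_ker _ (Ideal.Quotient.mkₐ_surjective A _)).trans
    (congrArg _ (Ideal.Quotient.mkₐ_ker A _))

theorem generalizingMap_image (A' : Type u) [CommRing A'] [Algebra A A'] :
    GeneralizingMap (PrimeSpectrum.comap (algebraMap A' (A' ⊗[A] PolLaw.image F.law))) := by
  intro Q p h
  rw [← PrimeSpectrum.le_iff_specializes] at h
  have hsurj : Function.Surjective (bcImage F A') :=
    bc_surjective (Ideal.Quotient.mkₐ_surjective A _)
  obtain ⟨P, hPp, hPQ, hPker, hPover⟩ := exists_le_over F A' p.asIdeal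
    (Q.asIdeal.comap (bcImage F A')) (by rw [← ker_bcImage]; exact Ideal.ker_le_comap _)
    (fun a ha => by
      rw [Ideal.mem_comap, Ideal.mem_comap, AlgHom.commutes]
      exact h ha)
  rw [← ker_bcImage] at hPker
  refine ⟨⟨P.map (bcImage F A'), Ideal.map_isPrime_of_surjective hsurj hPker⟩, ?_,
    PrimeSpectrum.ext ?_⟩
  · show _ ⤳ _
    rw [← PrimeSpectrum.le_iff_specializes]
    exact Ideal.map_le_iff_le_comap.mpr hPQ
  · show (P.map (bcImage F A')).comap (algebraMap A' _) = p.asIdeal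
    have hc : (P.map (bcImage F A')).comap (bcImage F A') = P := by
      rw [Ideal.comap_map_of_surjective _ hsurj, sup_eq_left]
      exact hPker
    rw [← hPover]
    ext a
    rw [Ideal.mem_comap, Ideal.mem_comap, ← (bcImage F A').commutes a, ← Ideal.mem_comap, hc]

theorem isOpenMap_image (A' : Type u) [CommRing A'] [Algebra A A'] :
    IsOpenMap (PrimeSpectrum.comap (algebraMap A' (A' ⊗[A] PolLaw.image F.law))) := by
  classical
  rw [PrimeSpectrum.isTopologicalBasis_basic_opens.isOpenMap_iff]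
  rintro _ ⟨g, rfl⟩
  obtain ⟨g', rfl⟩ := bc_surjective (S := A') (Ideal.Quotient.mkₐ_surjective A (PolLaw.ker F.law)) g
  obtain ⟨T, hT⟩ := TensorProduct.exists_finset g'
  let n := T.card
  let bfun : Fin n → B := fun k => (T.equivFin.symm k).1.2
  let π : MvPolynomial (Fin n) A →ₐ[A] B := MvPolynomial.aeval bfun
  let g₀ : A' ⊗[A] MvPolynomial (Fin n) A :=
    ∑ t : T, t.1.1 ⊗ₜ[A] MvPolynomial.X (T.equivFin t)
  have hg₀ : bc π A' g₀ = g' := by
    rw [hT, ← Finset.sum_coe_sort T]
    simp [g₀, π, bfun]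
  let F₀ := MulLaw.precomp F π
  obtain ⟨J, hJfg, hJle, hJrad⟩ := exists_fg_le_ker F₀
  have hbij : Algebra.FinitePresentation A (MvPolynomial (Fin n) A ⧸ J) :=
    Algebra.FinitePresentation.quotient hJfg
  let S₀ := A' ⊗[A] (MvPolynomial (Fin n) A ⧸ J)
  let σ : A' ⊗[A] MvPolynomial (Fin n) A →ₐ[A'] S₀ := bc (Ideal.Quotient.mkₐ A J) A'
  have hσ : Function.Surjective σ := bc_surjective (Ideal.Quotient.mkₐ_surjective A J)
  have hkσ : RingHom.ker σ ≤
      ((PolLaw.ker F₀.law).map (Algebra.TensorProduct.includeRight :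
        MvPolynomial (Fin n) A →ₐ[A] A' ⊗[A] MvPolynomial (Fin n) A)) := by
    rw [show RingHom.ker σ = _ from (Algebra.TensorProduct.lTensor_ker _
      (Ideal.Quotient.mkₐ_surjective A J)).trans (congrArg _ (Ideal.Quotient.mkₐ_ker A J))]
    exact Ideal.map_mono hJle
  have hgen : ∀ (Q : PrimeSpectrum S₀), (PolLaw.ker F₀.law).map (Algebra.TensorProduct.includeRight :
        MvPolynomial (Fin n) A →ₐ[A] A' ⊗[A] MvPolynomial (Fin n) A) ≤ Q.asIdeal.comap σ := by
    intro Q
    rw [Ideal.map_le_iff_le_comap]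
    refine le_trans (Ideal.le_radical.trans hJrad.ge) ?_
    have hp : (Q.asIdeal.comap σ).IsPrime := Ideal.IsPrime.comap _
    rw [(Ideal.IsPrime.comap _).radical_le_iff]
    intro b hb
    show σ (1 ⊗ₜ[A] b) ∈ Q.asIdeal
    show (1 : A') ⊗ₜ[A] Ideal.Quotient.mk J b ∈ Q.asIdeal
    rw [Ideal.Quotient.eq_zero_iff_mem.mpr hb, TensorProduct.tmul_zero]
    exact zero_mem _
  have hgd : Algebra.HasGoingDown A' S₀ := by
    rw [Algebra.HasGoingDown.iff_generalizingMap_primeSpectrumComap]
    intro Q p h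
    rw [← PrimeSpectrum.le_iff_specializes] at h
    obtain ⟨P, hPp, hPQ, hPker, hPover⟩ := exists_le_over F₀ A' p.asIdeal
      (Q.asIdeal.comap σ) (hgen Q)
      (fun a ha => by
        rw [Ideal.mem_comap, Ideal.mem_comap, AlgHom.commutes]
        exact h ha)
    have hk : RingHom.ker σ ≤ P := hkσ.trans hPker
    refine ⟨⟨P.map σ, Ideal.map_isPrime_of_surjective hσ hk⟩, ?_, PrimeSpectrum.ext ?_⟩
    · show _ ⤳ _
      rw [← PrimeSpectrum.le_iff_specializes]
      exact Ideal.map_le_iff_le_comap.mpr hPQ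
    · show (P.map σ).comap (algebraMap A' _) = p.asIdeal
      have hc : (P.map σ).comap σ = P := by
        rw [Ideal.comap_map_of_surjective _ hσ, sup_eq_left]
        exact hk
      rw [← hPover]
      ext a
      rw [Ideal.mem_comap, Ideal.mem_comap, ← σ.commutes a, ← Ideal.mem_comap, hc]
  have hopen : IsOpenMap (PrimeSpectrum.comap (algebraMap A' S₀)) :=
    PrimeSpectrum.isOpenMap_comap_of_hasGoingDown_of_finitePresentation
  convert hopen _ (PrimeSpectrum.isOpen_basicOpen (a := σ g₀)) using 1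
  ext p
  constructor
  · rintro ⟨Q, hQ, rfl⟩
    let c : A' ⊗[A] MvPolynomial (Fin n) A →ₐ[A'] A' ⊗[A] PolLaw.image F.law :=
      bc ((Ideal.Quotient.mkₐ A (PolLaw.ker F.law)).comp π) A'
    have hk : RingHom.ker σ ≤ Q.asIdeal.comap c := by
      refine hkσ.trans ?_
      rw [Ideal.map_le_iff_le_comap]
      intro b hb
      have h1 : π b ∈ (PolLaw.ker F.law).radical := by
        have := radical_ker_precomp F π
        have h2 : b ∈ ((PolLaw.ker F.law).comap π).radical := this ▸ Ideal.le_radical hb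
        rwa [← Ideal.comap_radical] at h2
      obtain ⟨m, hm⟩ := h1
      show c (1 ⊗ₜ[A] b) ∈ Q.asIdeal
      refine Ideal.IsPrime.mem_of_pow_mem inferInstance m ?_
      have : c (1 ⊗ₜ[A] b) ^ m = 0 := by
        simp only [c, ← map_pow]
        show bc ((Ideal.Quotient.mkₐ A (PolLaw.ker F.law)).comp π) A' (((1 : A') ⊗ₜ[A] b) ^ m) = 0
        rw [Algebra.TensorProduct.tmul_pow, bc_tmul, AlgHom.comp_apply, map_pow π,
          Ideal.Quotient.mkₐ_eq_mk, Ideal.Quotient.eq_zero_iff_mem.mpr hm,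
          TensorProduct.tmul_zero]
      rw [this]
      exact zero_mem _
    refine ⟨⟨(Q.asIdeal.comap c).map σ, Ideal.map_isPrime_of_surjective hσ hk⟩, ?_,
      PrimeSpectrum.ext ?_⟩
    all_goals
      have hc : ((Q.asIdeal.comap c).map σ).comap σ = Q.asIdeal.comap c := by
        rw [Ideal.comap_map_of_surjective _ hσ, sup_eq_left]
        exact hk
    · show σ g₀ ∉ (Q.asIdeal.comap c).map σ
      rw [← Ideal.mem_comap, hc, Ideal.mem_comap]
      simp only [c]
      rw [← bc_bc, hg₀]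
      exact hQ
    · ext a
      show algebraMap A' S₀ a ∈ (Q.asIdeal.comap c).map σ ↔ algebraMap A' _ a ∈ Q.asIdeal
      rw [← σ.commutes, ← Ideal.mem_comap, hc, Ideal.mem_comap, c.commutes]
  · rintro ⟨Q, hQ, rfl⟩
    let Ω := AlgebraicClosure Q.asIdeal.ResidueField
    let q : S₀ →ₐ[A] Ω := IsScalarTower.toAlgHom A S₀ Ω
    have hker : RingHom.ker (algebraMap S₀ Ω) = Q.asIdeal := by
      rw [IsScalarTower.algebraMap_eq S₀ Q.asIdeal.ResidueField Ω, RingHom.ker_comp_of_injective _
        (RingHom.injective _), Ideal.ker_algebraMap_residueField]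
    let y₀ : MvPolynomial (Fin n) A →ₐ[A] Ω :=
      q.comp ((σ.restrictScalars A).comp Algebra.TensorProduct.includeRight)
    have hy₀ : ∀ b ∈ PolLaw.ker F₀.law, y₀ b = 0 := fun b hb => by
      have h1 : σ (1 ⊗ₜ[A] b) ∈ RingHom.ker (algebraMap S₀ Ω) := by
        rw [hker]; exact hgen Q (Ideal.mem_map_of_mem _ hb)
      exact h1
    obtain ⟨x, hx⟩ := exists_points F (Algebra.ofId A Ω)
    have hx₀ : ∀ (R : Type u) [CommRing R] [Algebra A R] (j : Ω →ₐ[A] R)
        (z : R ⊗[A] MvPolynomial (Fin n) A),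
        evl F₀ (j.comp (Algebra.ofId A Ω)) z = ∏ i, mu (j.comp ((x i).comp π)) z := by
      intro R _ _ j z
      rw [evl, ev_precomp]
      refine (hx R j (bc π R z)).trans (Finset.prod_congr rfl fun i _ => ?_)
      rw [mu_bc, AlgHom.comp_assoc]
    obtain ⟨k, hk⟩ := point_eq_of_kills_ker hx₀ y₀ hy₀
    let i : A' →ₐ[A] Ω := q.comp (IsScalarTower.toAlgHom A A' S₀)
    let xI : PolLaw.image F.law →ₐ[A] Ω :=
      Ideal.Quotient.liftₐ _ (x k) fun b hb => point_kills_ker hx hb k
    let r : A' ⊗[A] PolLaw.image F.law →ₐ[A] Ω := Algebra.TensorProduct.productMap i xI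
    refine ⟨⟨RingHom.ker r, RingHom.ker_isPrime _⟩, ?_, PrimeSpectrum.ext ?_⟩
    · show ¬ r _ = 0
      have h1 : ∀ z, r (bc (Ideal.Quotient.mkₐ A _) A' (bc π A' z)) = q (σ z) := by
        intro z
        induction z using TensorProduct.induction_on with
        | zero => simp
        | add a b ha hb => simp only [map_add, ha, hb]
        | tmul a b =>
          have h2 : x k (π b) = y₀ b := (DFunLike.congr_fun hk b).symm
          have h3 : r (a ⊗ₜ[A] Ideal.Quotient.mk _ (π b)) = i a * x k (π b) := rfl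
          rw [bc_tmul, bc_tmul, Ideal.Quotient.mkₐ_eq_mk, h3, h2]
          show q (algebraMap A' S₀ a) * q ((1 : A') ⊗ₜ[A] Ideal.Quotient.mk J b) =
            q (a ⊗ₜ[A] Ideal.Quotient.mk J b)
          rw [← map_mul]
          congr 1
          simp [S₀, Algebra.TensorProduct.algebraMap_apply]
      rw [← hg₀, h1]
      intro h0
      apply hQ
      show σ g₀ ∈ Q.asIdeal
      rw [← hker]
      exact h0
    · ext a
      show r (a ⊗ₜ[A] 1) = 0 ↔ algebraMap A' S₀ a ∈ Q.asIdeal
      refine Iff.trans ?_ (SetLike.ext_iff.mp hker (algebraMap A' S₀ a))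
      rw [RingHom.mem_ker]
      simp [r, i, q]

end Groth.Agent.PolLib
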