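import Groth.Agent.PolLib.Chi
import Groth.Agent.IdemSpec.Basic
import Mathlib.Topology.Connected.Clopen

/-! Idempotents and multiplicative laws over a connected base. -/

universe u

open scoped TensorProduct

namespace Groth.Agent.PolLib

open PolLaw Polynomial

variable {A : Type u} [CommRing A] {B : Type u} [CommRing B] [Algebra A B] {d : ℕ}
  (F : MulLaw A B A d)

theorem idem_eq_zero_or_one [ConnectedSpace (PrimeSpectrum A)] {a : A}
    (ha : IsIdempotentElem a) : a = 0 ∨ a = 1 := by
  rcases isClopen_iff.mp (PrimeSpectrum.isClopen_iff.mpr ⟨a, ha, rfl⟩ :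
    IsClopen (PrimeSpectrum.basicOpen a : Set (PrimeSpectrum A))) with h | h
  · refine Or.inl (PrimeSpectrum.basicOpen_injOn_isIdempotentElem ha IsIdempotentElem.zero ?_)
    exact SetLike.ext' (by simpa using h)
  · refine Or.inr (PrimeSpectrum.basicOpen_injOn_isIdempotentElem ha IsIdempotentElem.one ?_)
    exact SetLike.ext' (by simpa using h)

/-- The value of a law on `X · b + (1 - b)`. -/
noncomputable def pw (b : B) : A[X] :=
  evl F (Algebra.ofId A A[X]) ((X : A[X]) ⊗ₜ[A] b + (1 : A[X]) ⊗ₜ[A] (1 - b))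

theorem evl_pw {R : Type u} [CommRing R] [Algebra A R] (u : R) (b : B) :
    evl F (Algebra.ofId A R) (u ⊗ₜ[A] b + (1 : R) ⊗ₜ[A] (1 - b)) = aeval u (pw F b) := by
  rw [pw, ← evl_nat' F (Algebra.ofId A A[X]) (aeval u) (Subsingleton.elim _ _), map_add, rB_tmul,
    rB_tmul, aeval_X, map_one]

theorem evl_congr_ker {R : Type u} [CommRing R] [Algebra A R] (g : A →ₐ[A] R) (x w : R ⊗[A] B)
    {b : B} (hb : b ∈ PolLaw.ker F.law) :
    evl F g (x + w * (1 ⊗ₜ[A] b)) = evl F g x := evl_add_of_mem_ker F hb g x w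

theorem pw_mul {b : B} (hb : b * b - b ∈ PolLaw.ker F.law) {R : Type u} [CommRing R]
    [Algebra A R] (u v : R) :
    aeval u (pw F b) * aeval v (pw F b) = aeval (u * v) (pw F b) := by
  have e : ∀ w : R, w ⊗ₜ[A] b + (1 : R) ⊗ₜ[A] (1 - b) =
      Algebra.TensorProduct.includeLeft (R := A) (S := A) (A := R) (B := B) w *
        Algebra.TensorProduct.includeRight b +
      (1 - Algebra.TensorProduct.includeRight (R := A) (A := R) b) := fun w => by
    simp [Algebra.TensorProduct.tmul_mul_tmul, Algebra.TensorProduct.one_def,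
      TensorProduct.tmul_sub]
  rw [← evl_pw, ← evl_pw, ← evl_pw, ← evl_mul,
    ← evl_congr_ker F _ ((u * v) ⊗ₜ[A] b + (1 : R) ⊗ₜ[A] (1 - b))
      (Algebra.TensorProduct.includeLeft (R := A) (S := A) (u * v - u - v + 1)) hb]
  congr 1
  rw [e, e, e, ← Algebra.TensorProduct.includeRight_apply]
  simp only [map_sub, map_mul, map_add, map_one]
  ring

theorem exists_pw_eq_pow [ConnectedSpace (PrimeSpectrum A)] {b : B}
    (hb : b * b - b ∈ PolLaw.ker F.law) : ∃ k : ℕ, pw F b = X ^ k := by
  classical
  set P := pw F b with hP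
  have h1 : P.eval 1 = 1 := by
    have h := (evl_pw F (1 : A) b).symm
    rw [← TensorProduct.tmul_add, add_sub_cancel, ← Algebra.TensorProduct.one_def, evl_one,
      coe_aeval_eq_eval] at h
    exact h
  have hmul := pw_mul F hb (R := A[X][X]) (Polynomial.C X) X
  rw [← hP] at hmul
  have key : ∀ k l, P.coeff k * P.coeff l = if k = l then P.coeff l else 0 := by
    intro k l
    have e1 : aeval (Polynomial.C (X : A[X])) P = Polynomial.C P := by
      rw [show Polynomial.C (X : A[X]) = IsScalarTower.toAlgHom A A[X] A[X][X] X from rfl,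
        aeval_algHom_apply, aeval_X_left_apply]
      rfl
    have e2 : aeval (X : A[X][X]) P = P.map Polynomial.C := by
      rw [← aeval_map_algebraMap A[X], aeval_X_left_apply]
      rfl
    have e3 : aeval (Polynomial.C (X : A[X]) * X) P =
        P.sum fun n a => Polynomial.C (Polynomial.C a * X ^ n) * X ^ n := by
      rw [aeval_eq_sum_range' (Nat.lt_succ_self P.natDegree), P.sum_over_range (by simp)]
      refine Finset.sum_congr rfl fun n _ => ?_
      rw [mul_pow, Algebra.smul_def, map_mul, map_pow, mul_assoc]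
      rfl
    rw [e1, e2, e3] at hmul
    have h2 := congrArg (fun q => (q.coeff l).coeff k) hmul
    simp only [Polynomial.coeff_C_mul, Polynomial.coeff_map, Polynomial.sum,
      Polynomial.finsetSum_coeff, Polynomial.coeff_X_pow, mul_ite, mul_one, mul_zero,
      Polynomial.coeff_mul_C, apply_ite (fun q : A[X] => q.coeff k),
      Polynomial.coeff_zero] at h2
    rw [h2, Finset.sum_ite_eq]
    by_cases hl : l ∈ P.support
    · rw [if_pos hl]
    · rw [if_neg hl, Polynomial.notMem_support_iff.mp hl, ite_self]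
  have hid : ∀ k, P.coeff k = 0 ∨ P.coeff k = 1 := fun k =>
    idem_eq_zero_or_one (by have := key k k; rwa [if_pos rfl] at this)
  have : Nontrivial A := PrimeSpectrum.nontrivial (Nonempty.some inferInstance : PrimeSpectrum A)
  obtain ⟨k, hk⟩ : ∃ k, P.coeff k = 1 := by
    by_contra hne
    have : P = 0 := Polynomial.ext fun k => by
      rw [Polynomial.coeff_zero]
      exact (hid k).resolve_right fun h => hne ⟨k, h⟩
    rw [this, eval_zero] at h1
    exact zero_ne_one h1
  refine ⟨k, Polynomial.ext fun l => ?_⟩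
  rw [coeff_X_pow]
  by_cases h : l = k
  · rw [if_pos h, h, hk]
  · rw [if_neg h, ← one_mul (P.coeff l), ← hk, key, if_neg (Ne.symm h)]

theorem evl_idem_of_pow [ConnectedSpace (PrimeSpectrum A)] {b : B} {k : ℕ}
    (hk : pw F b = X ^ k) {R : Type u} [CommRing R] [Algebra A R] (u : R) :
    evl F (Algebra.ofId A R) (u ⊗ₜ[A] b + (1 : R) ⊗ₜ[A] (1 - b)) = u ^ k := by
  rw [evl_pw, hk, map_pow, aeval_X]

theorem mem_ker_of_pw_eq_one {b : B} (hb : b * b - b ∈ PolLaw.ker F.law) (h : pw F b = 1) :
    b ∈ PolLaw.ker F.law := by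
  rw [mem_ker_iff_evl]
  intro R _ _ g x w
  rw [Subsingleton.elim g (Algebra.ofId A R)]
  have h0 : evl F (Algebra.ofId A R) ((1 : R) ⊗ₜ[A] (1 - b)) = 1 := by
    have := evl_pw F (0 : R) b
    rw [h, map_one, TensorProduct.zero_tmul, zero_add] at this
    exact this
  have hm : ∀ z, evl F (Algebra.ofId A R) z =
      evl F (Algebra.ofId A R) (z * ((1 : R) ⊗ₜ[A] (1 - b))) := fun z => by
    rw [evl_mul, h0, mul_one]
  rw [hm (x + _), hm x]
  rw [← evl_congr_ker F (Algebra.ofId A R) (x * ((1 : R) ⊗ₜ[A] (1 - b))) (-w) hb]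
  congr 1
  simp only [← Algebra.TensorProduct.includeRight_apply, map_sub, map_mul, map_one]
  ring

theorem sum_exponent_le [ConnectedSpace (PrimeSpectrum A)] {ι : Type*} (T : Finset ι) (b : ι → B)
    (hb : ∀ i ∈ T, b i * b i - b i ∈ PolLaw.ker F.law)
    (horth : ∀ i ∈ T, ∀ j ∈ T, i ≠ j → b i * b j ∈ PolLaw.ker F.law)
    (hne : ∀ i ∈ T, b i ∉ PolLaw.ker F.law) : T.card ≤ d := by
  classical
  have main : ∀ S : Finset ι, S ⊆ T → (∑ i ∈ S, b i) * (∑ i ∈ S, b i) - ∑ i ∈ S, b i ∈
      PolLaw.ker F.law ∧ ∃ k, S.card ≤ k ∧ pw F (∑ i ∈ S, b i) = X ^ k := by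
    intro S
    induction S using Finset.induction_on with
    | empty =>
      intro _
      refine ⟨by simp, 0, le_rfl, ?_⟩
      rw [Finset.sum_empty, pow_zero, pw, TensorProduct.tmul_zero, zero_add, sub_zero,
        ← Algebra.TensorProduct.one_def, evl_one]
    | insert j S hj ih =>
      intro hS
      have hjT : j ∈ T := hS (Finset.mem_insert_self j S)
      have hST : S ⊆ T := (Finset.subset_insert j S).trans hS
      obtain ⟨hs, k, hk, hks⟩ := ih hST
      have hjs : b j * ∑ i ∈ S, b i ∈ PolLaw.ker F.law := by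
        rw [Finset.mul_sum]
        exact sum_mem fun i hi => horth j hjT i (hST hi) (fun e => hj (e ▸ hi))
      rw [Finset.sum_insert hj]
      set s := ∑ i ∈ S, b i with hsdef
      have hid : (b j + s) * (b j + s) - (b j + s) ∈ PolLaw.ker F.law := by
        have : (b j + s) * (b j + s) - (b j + s) =
            (b j * b j - b j) + (s * s - s) + (b j * s + b j * s) := by ring
        rw [this]
        exact add_mem (add_mem (hb j hjT) hs) (add_mem hjs hjs)
      obtain ⟨l, hl⟩ := exists_pw_eq_pow F (hb j hjT)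
      have hl1 : l ≠ 0 := fun h0 => hne j hjT (mem_ker_of_pw_eq_one F (hb j hjT) (by
        rw [hl, h0, pow_zero]))
      refine ⟨hid, k + l, by rw [Finset.card_insert_of_notMem hj]; omega, ?_⟩
      have h3 := evl_mul F (Algebra.ofId A A[X]) ((X : A[X]) ⊗ₜ[A] b j + (1 : A[X]) ⊗ₜ[A] (1 - b j))
        ((X : A[X]) ⊗ₜ[A] s + (1 : A[X]) ⊗ₜ[A] (1 - s))
      rw [show evl F _ ((X : A[X]) ⊗ₜ[A] b j + (1 : A[X]) ⊗ₜ[A] (1 - b j)) = pw F (b j) from rfl,
        show evl F _ ((X : A[X]) ⊗ₜ[A] s + (1 : A[X]) ⊗ₜ[A] (1 - s)) = pw F s from rfl,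
        hl, hks] at h3
      rw [pow_add, mul_comm (X ^ k), ← h3, pw,
        ← evl_congr_ker F _ _ (Algebra.TensorProduct.includeLeft (R := A) (S := A)
          ((X : A[X]) * X - 2 * X + 1)) hjs]
      congr 1
      have e : ∀ (w : A[X]) (y : B), w ⊗ₜ[A] y + (1 : A[X]) ⊗ₜ[A] (1 - y) =
          Algebra.TensorProduct.includeLeft (R := A) (S := A) (A := A[X]) (B := B) w *
            Algebra.TensorProduct.includeRight y +
          (1 - Algebra.TensorProduct.includeRight (R := A) (A := A[X]) y) := fun w y => by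
        simp [Algebra.TensorProduct.tmul_mul_tmul, Algebra.TensorProduct.one_def,
          TensorProduct.tmul_sub]
      rw [e, e, e, ← Algebra.TensorProduct.includeRight_apply]
      simp only [map_sub, map_mul, map_add, map_one, map_ofNat]
      ring
  obtain ⟨hs, k, hk, hks⟩ := main T subset_rfl
  obtain ⟨l, hl⟩ := exists_pw_eq_pow F (b := 1 - ∑ i ∈ T, b i) (by
    have : (1 - ∑ i ∈ T, b i) * (1 - ∑ i ∈ T, b i) - (1 - ∑ i ∈ T, b i) =
        (∑ i ∈ T, b i) * (∑ i ∈ T, b i) - ∑ i ∈ T, b i := by ring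
    rw [this]; exact hs)
  set s := ∑ i ∈ T, b i
  have h3 := evl_mul F (Algebra.ofId A A[X]) ((X : A[X]) ⊗ₜ[A] s + (1 : A[X]) ⊗ₜ[A] (1 - s))
    ((X : A[X]) ⊗ₜ[A] (1 - s) + (1 : A[X]) ⊗ₜ[A] (1 - (1 - s)))
  rw [show evl F _ ((X : A[X]) ⊗ₜ[A] s + (1 : A[X]) ⊗ₜ[A] (1 - s)) = pw F s from rfl,
    show evl F _ ((X : A[X]) ⊗ₜ[A] (1 - s) + (1 : A[X]) ⊗ₜ[A] (1 - (1 - s))) = pw F (1 - s)
      from rfl, hks, hl, ← pow_add] at h3
  have h4 : evl F (Algebra.ofId A A[X]) ((X : A[X]) ⊗ₜ[A] (1 : B)) = X ^ d := evl_scalar F _ _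
  rw [← evl_congr_ker F _ _ (Algebra.TensorProduct.includeLeft (R := A) (S := A)
      (-((X : A[X]) * X) + 2 * X - 1)) hs] at h4
  have h5 : (X : A[X]) ^ d = X ^ (k + l) := by
    rw [← h4, ← h3]
    congr 1
    have e : ∀ (w : A[X]) (y : B), w ⊗ₜ[A] y =
        Algebra.TensorProduct.includeLeft (R := A) (S := A) (A := A[X]) (B := B) w *
          Algebra.TensorProduct.includeRight y := fun w y => by
      simp [Algebra.TensorProduct.tmul_mul_tmul]
    rw [e (X : A[X]), e (X : A[X]), e (X : A[X]), e (1 : A[X]), e (1 : A[X]),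
      ← Algebra.TensorProduct.includeRight_apply]
    simp only [map_sub, map_mul, map_add, map_one, map_ofNat, map_neg]
    ring
  have : Nontrivial A := PrimeSpectrum.nontrivial (Nonempty.some inferInstance : PrimeSpectrum A)
  have := congrArg Polynomial.natDegree h5
  rw [natDegree_X_pow, natDegree_X_pow] at this
  omega

theorem natCard_connectedComponents_image [ConnectedSpace (PrimeSpectrum A)] :
    Finite (ConnectedComponents (PrimeSpectrum (PolLaw.image F.law))) ∧
      Nat.card (ConnectedComponents (PrimeSpectrum (PolLaw.image F.law))) ≤ d := by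
  classical
  have key : ∀ f : Fin (d + 1) → ConnectedComponents (PrimeSpectrum (PolLaw.image F.law)),
      ¬ Function.Injective f := by
    intro f hf
    choose p hp using fun i => ConnectedComponents.surjective_coe (f i)
    have hsep : ∀ i j, i ≠ j → ∃ e, IsIdempotentElem e ∧ e ∈ (p i).asIdeal ∧ e ∉ (p j).asIdeal := by
      intro i j hij
      by_contra hne
      have hj : p j ∈ connectedComponent (p i) := by
        rw [Groth.Agent.IdemSpec.connectedComponent_eq]
        intro e he
        by_contra h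
        exact hne ⟨e, he.1, he.2, h⟩
      exact hij (hf (by rw [← hp i, ← hp j]; exact
        (ConnectedComponents.coe_eq_coe'.mpr hj).symm))
    choose e he hein heout using hsep
    let v : Fin (d + 1) → PolLaw.image F.law := fun i =>
      ∏ j ∈ Finset.univ.filter (· ≠ i), if h : j ≠ i then e j i h else 1
    have hv_id : ∀ i, IsIdempotentElem (v i) := fun i => by
      show v i * v i = v i
      rw [← Finset.prod_mul_distrib]
      refine Finset.prod_congr rfl fun j hj => ?_
      rw [dif_pos (Finset.mem_filter.mp hj).2]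
      exact he _ _ _
    have hv_in : ∀ i j, i ≠ j → v i ∈ (p j).asIdeal := fun i j hij => by
      refine (p j).isPrime.prod_mem_iff.mpr ⟨j, Finset.mem_filter.mpr
        ⟨Finset.mem_univ j, hij.symm⟩, ?_⟩
      rw [dif_pos hij.symm]
      exact hein _ _ _
    have hv_out : ∀ i, v i ∉ (p i).asIdeal := fun i h => by
      obtain ⟨j, hj, hj'⟩ := (p i).isPrime.prod_mem_iff.mp h
      rw [dif_pos (Finset.mem_filter.mp hj).2] at hj'
      exact heout _ _ _ hj'
    let g : Fin (d + 1) → PolLaw.image F.law := fun i =>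
      v i * ∏ j ∈ Finset.univ.filter (· < i), (1 - v j)
    have hg_id : ∀ i, IsIdempotentElem (g i) := fun i => by
      refine (hv_id i).mul ?_
      show _ * _ = _
      rw [← Finset.prod_mul_distrib]
      exact Finset.prod_congr rfl fun j _ => (hv_id j).one_sub
    have hg_out : ∀ i, g i ∉ (p i).asIdeal := fun i h => by
      rcases (p i).isPrime.mem_or_mem h with h | h
      · exact hv_out i h
      · obtain ⟨j, hj, hj'⟩ := (p i).isPrime.prod_mem_iff.mp h
        have := add_mem hj' (hv_in j i (ne_of_lt (Finset.mem_filter.mp hj).2))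
        rw [sub_add_cancel] at this
        exact (p i).isPrime.ne_top ((Ideal.eq_top_iff_one _).mpr this)
    have hg_orth : ∀ i j, i ≠ j → g i * g j = 0 := by
      intro i j hij
      wlog hlt : i < j generalizing i j
      · rw [mul_comm]; exact this j i hij.symm (lt_of_le_of_ne (not_lt.mp hlt) hij.symm)
      simp only [g]
      rw [← Finset.mul_prod_erase (Finset.univ.filter (· < j)) (fun k => 1 - v k)
        (Finset.mem_filter.mpr ⟨Finset.mem_univ i, hlt⟩)]
      have h0 : v i * (1 - v i) = 0 := by rw [mul_sub, mul_one, (hv_id i).eq, sub_self]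
      generalize ∏ k ∈ Finset.univ.filter (· < i), (1 - v k) = P₁
      generalize ∏ k ∈ (Finset.univ.filter (· < j)).erase i, (1 - v k) = P₂
      linear_combination (P₁ * v j * P₂) * h0
    choose b hb using fun i => Ideal.Quotient.mk_surjective (g i)
    have := sum_exponent_le F Finset.univ b
      (fun i _ => by
        rw [← Ideal.Quotient.eq_zero_iff_mem, map_sub, map_mul, hb, (hg_id i).eq, sub_self])
      (fun i _ j _ hij => by
        rw [← Ideal.Quotient.eq_zero_iff_mem, map_mul, hb, hb, hg_orth i j hij])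
      (fun i _ h => hg_out i (by
        rw [← hb i, Ideal.Quotient.eq_zero_iff_mem.mpr h]; exact zero_mem _))
    rw [Finset.card_univ, Fintype.card_fin] at this
    omega
  have hfin : Finite (ConnectedComponents (PrimeSpectrum (PolLaw.image F.law))) := by
    by_contra h
    have := not_finite_iff_infinite.mp h
    exact key (fun i => Infinite.natEmbedding _ i.1) fun i j hij =>
      Fin.ext ((Infinite.natEmbedding _).injective hij)
  refine ⟨hfin, ?_⟩
  by_contra h
  let := Fintype.ofFinite (ConnectedComponents (PrimeSpectrum (PolLaw.image F.law)))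
  rw [Nat.card_eq_fintype_card, not_le] at h
  exact key (fun i => (Fintype.equivFin _).symm (Fin.castLE h i))
    ((Fintype.equivFin _).symm.injective.comp (Fin.castLE_injective h))

end Groth.Agent.PolLib
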