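import Groth.Agent.PolLib.Gamma
import Mathlib.LinearAlgebra.Multilinear.Basic
import Mathlib.LinearAlgebra.TensorProduct.Finiteness

/-! Comparison of divided powers with symmetric tensors: polarisation. -/

universe u v w

open scoped TensorProduct

namespace Groth.Agent.PolLib

open PolLaw

variable {A : Type u} [CommRing A] {B : Type u} [CommRing B] [Algebra A B]
  {C : Type u} [CommRing C] [Algebra A C] {d : ℕ}

theorem bc_tmap_tpowLaw {B' : Type u} [CommRing B'] [Algebra A B'] (f : B →ₐ[A] B') (S : Type u)
    [CommSemiring S] [Algebra A S] (x : S ⊗[A] B) :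
    bc (SymTen.tmap A d f) S ((SymTen.tpowLaw A B d).law.toFun' S x) =
      (SymTen.tpowLaw A B' d).law.toFun' S (bc f S x) := by
  rw [SymTen.tpowLaw, SymTen.tpowLaw, MulLaw.prodMap_toFun', MulLaw.prodMap_toFun', map_prod]
  refine Finset.prod_congr rfl fun i _ => ?_
  show bc _ S (bc _ S x) = bc _ S (bc f S x)
  rw [bc_bc, bc_bc]
  congr 2
  refine AlgHom.ext fun b => ?_
  classical
  simp only [AlgHom.comp_apply, PiTensorProduct.singleAlgHom_apply, MonoidHom.mulSingle_apply,
    SymTen.tmap_tprod]
  congr 1
  funext j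
  by_cases h : j = i
  · subst h; simp
  · simp [h]

theorem tpowLaw_eq_of_sum {f : C →ₐ[A] (⨂[A] _ : Fin d, B)} {γ : MulLaw A B C d}
    (h : ∀ (S : Type u) [CommSemiring S] [Algebra A S] (n : ℕ) (s : Fin n → S) (b : Fin n → B),
      f.toLinearMap.lTensor S (γ.law.toFun' S (∑ j, s j ⊗ₜ[A] b j)) =
        ∑ c : Fin d → Fin n, (∏ i, s (c i)) ⊗ₜ[A] PiTensorProduct.tprod A (fun i => b (c i)))
    (S : Type u) [CommSemiring S] [Algebra A S] (x : S ⊗[A] B) :
    bc f S (ev γ S x) = (SymTen.tpowLaw A B d).law.toFun' S x := by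
  classical
  obtain ⟨T, rfl⟩ := TensorProduct.exists_finset x
  have e : ∑ p ∈ T, p.1 ⊗ₜ[A] p.2 =
      ∑ j : Fin T.card, (T.equivFin.symm j).1.1 ⊗ₜ[A] (T.equivFin.symm j).1.2 :=
    (Finset.sum_coe_sort T fun p : S × B => p.1 ⊗ₜ[A] p.2).symm.trans
      (T.equivFin.symm.sum_comp fun p : T => p.1.1 ⊗ₜ[A] p.1.2).symm
  rw [e, ← lTensor_eq_bc, tpowLaw_sum]
  exact h S _ _ _

theorem sum_of_tpowLaw_eq {f : C →ₐ[A] (⨂[A] _ : Fin d, B)} {γ : MulLaw A B C d}
    (h : ∀ (S : Type u) [CommSemiring S] [Algebra A S] (x : S ⊗[A] B),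
      bc f S (ev γ S x) = (SymTen.tpowLaw A B d).law.toFun' S x)
    (S : Type u) [CommSemiring S] [Algebra A S] (n : ℕ) (s : Fin n → S) (b : Fin n → B) :
    f.toLinearMap.lTensor S (γ.law.toFun' S (∑ j, s j ⊗ₜ[A] b j)) =
      ∑ c : Fin d → Fin n, (∏ i, s (c i)) ⊗ₜ[A] PiTensorProduct.tprod A (fun i => b (c i)) := by
  classical
  rw [← tpowLaw_sum S s b, ← h S]
  exact lTensor_eq_bc f _

section Quot

variable {P : Type u} [CommRing P] [Algebra A P] {κ : Type u} [DecidableEq κ]
  (b : Module.Basis κ A P) (π : P →ₐ[A] B) (γ : MulLaw A B C d)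

theorem comp_classHom (f : C →ₐ[A] (⨂[A] _ : Fin d, B))
    (hf : ∀ (S : Type u) [CommSemiring S] [Algebra A S] (x : S ⊗[A] B),
      bc f S (ev γ S x) = (SymTen.tpowLaw A B d).law.toFun' S x) :
    f.comp (classHom d b (MulLaw.precomp γ π)) =
      (SymTen.tmap A d π).comp (SymTen.TS A P d).val := by
  apply AlgHom.toLinearMap_injective
  refine lin_eq_of_tau d b fun S _ _ x => ?_
  rw [lTensor_eq_bc, lTensor_eq_bc, ← bc_bc, classHom_tau, ev_precomp, hf, ← bc_bc, val_tau,
    bc_tmap_tpowLaw]

end Quot

section Symm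

variable (A B d)

/-- The sum over all permutations of the factors. -/
noncomputable def symmSum : (⨂[A] _ : Fin d, B) →ₗ[A] SymTen.TS A B d :=
  LinearMap.codRestrict (SymTen.TS A B d).toSubmodule
    (∑ σ : Equiv.Perm (Fin d),
      (PiTensorProduct.reindex A (fun _ : Fin d => B) σ).toLinearMap)
    (fun t τ => by
      simp only [LinearMap.coe_sum, Finset.sum_apply, LinearEquiv.coe_coe, map_sum]
      have h : ∀ σ, PiTensorProduct.reindex A (fun _ : Fin d => B) τ
          (PiTensorProduct.reindex A (fun _ : Fin d => B) σ t) =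
          PiTensorProduct.reindex A (fun _ : Fin d => B) (τ * σ) t := fun σ => by
        rw [← SymTen.perm_apply, ← SymTen.perm_apply, ← SymTen.perm_apply]
        induction t using PiTensorProduct.induction_on with
        | smul_tprod r f =>
          rw [map_smul, map_smul, map_smul, SymTen.perm_tprod, SymTen.perm_tprod, SymTen.perm_tprod]
          rfl
        | add x y hx hy => rw [map_add, map_add, map_add, hx, hy]
      simp only [h]
      exact Equiv.sum_comp (Equiv.mulLeft τ)
        fun σ => PiTensorProduct.reindex A (fun _ : Fin d => B) σ t)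

theorem val_symmSum (t : ⨂[A] _ : Fin d, B) :
    (SymTen.TS A B d).val (symmSum A B d t) =
      ∑ σ : Equiv.Perm (Fin d), PiTensorProduct.reindex A (fun _ : Fin d => B) σ t :=
  LinearMap.sum_apply _ _ _

variable {A B d}

theorem symmSum_of_mem (t : SymTen.TS A B d) :
    symmSum A B d t.1 = d.factorial • t := by
  refine Subtype.val_injective ?_
  rw [← Subalgebra.coe_val, val_symmSum, map_nsmul, Subalgebra.coe_val,
    Finset.sum_congr rfl fun σ _ => t.2 σ, Finset.sum_const, Finset.card_univ, Fintype.card_perm,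
    Fintype.card_fin]

variable {P : Type u} [CommRing P] [Algebra A P] {κ : Type u} (b : Module.Basis κ A P)

/-- `Σ Xᵢ ⊗ pᵢ`. -/
noncomputable def multiElt (p : Fin d → B) : MvPolynomial (Fin d) A ⊗[A] B :=
  ∑ i, MvPolynomial.X i ⊗ₜ[A] p i

theorem bc_multiElt {B' : Type u} [CommRing B'] [Algebra A B'] (f : B →ₐ[A] B') (p : Fin d → B) :
    bc f _ (multiElt (A := A) p) = multiElt (A := A) fun i => f (p i) := by
  simp [multiElt, map_sum]

theorem cf_tau_multiElt (p : Fin d → P) :
    cf (expo (id : Fin d → Fin d)) (ev (tau d b) _ (multiElt (A := A) p)) =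
      symmSum A P d (PiTensorProduct.tprod A p) := by
  classical
  refine Subtype.val_injective ?_
  rw [← Subalgebra.coe_val, ← cf_bc₀, val_tau, val_symmSum, multiElt, tpowLaw_sum]
  have e : ∀ c : Fin d → Fin d, (∏ i, (MvPolynomial.X (c i) : MvPolynomial (Fin d) A)) =
      MvPolynomial.monomial (expo c) 1 := fun c => by
    rw [expo, MvPolynomial.monomial_sum_one]
    rfl
  simp only [e, map_sum, cf_tmul, MvPolynomial.coeff_monomial, ite_smul, one_smul, zero_smul,
    PiTensorProduct.reindex_tprod]
  rw [← Finset.sum_filter]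
  symm
  refine Finset.sum_nbij (fun σ : Equiv.Perm (Fin d) => (σ.symm : Fin d → Fin d)) ?_ ?_ ?_ ?_
  · intro σ _
    exact Finset.mem_filter.mpr ⟨Finset.mem_univ _, expo_comp id σ.symm⟩
  · intro σ _ τ _ h
    exact Equiv.symm_bijective.injective (Equiv.ext (congrFun h))
  · intro c hc
    obtain ⟨σ, hσ⟩ := cls_eq_iff.mp (expo_eq_iff.mp (Finset.mem_filter.mp hc).2.symm)
    exact ⟨σ.symm, Finset.mem_coe.mpr (Finset.mem_univ _), by simpa using hσ.symm⟩
  · intro σ _
    rfl

end Symm

section Polar

variable (γ : MulLaw A B C d) {P : Type u} [CommRing P] [Algebra A P] {κ : Type u} [DecidableEq κ]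
  (b : Module.Basis κ A P) (π : P →ₐ[A] B) (hπ : Function.Surjective π)

theorem classHom_symmSum (p : Fin d → P) :
    classHom d b (MulLaw.precomp γ π) (symmSum A P d (PiTensorProduct.tprod A p)) =
      cf (expo (id : Fin d → Fin d)) (ev γ _ (multiElt (A := A) fun i => π (p i))) := by
  rw [← cf_tau_multiElt b, ← cf_bc₀, classHom_tau, ev_precomp, bc_multiElt]

/-- Polarisation as a multilinear map. -/
noncomputable def polarMul : MultilinearMap A (fun _ : Fin d => B) C where
  toFun x := cf (expo (id : Fin d → Fin d)) (ev γ _ (multiElt (A := A) x))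
  map_update_add' {_} x i u v := by
    classical
    let b := MvPolynomial.basisMonomials B A
    let s := Function.surjInv (cover_surjective A B)
    have hs : ∀ z, cover A B (s z) = z := Function.surjInv_eq (cover_surjective A B)
    have key : ∀ (z : B) (q : MvPolynomial B A), cover A B q = z →
        cf (expo (id : Fin d → Fin d)) (ev γ _ (multiElt (A := A) (Function.update x i z))) =
          ((classHom d b (MulLaw.precomp γ (cover A B))).toLinearMap.comp
            (symmSum A (MvPolynomial B A) d))
            (PiTensorProduct.tprod A (Function.update (fun k => s (x k)) i q)) := by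
      intro z q hq
      rw [LinearMap.comp_apply, AlgHom.toLinearMap_apply, classHom_symmSum]
      congr 3
      funext k
      by_cases hk : k = i
      · subst hk; simp [hq]
      · simp [hk, hs]
    rw [key (u + v) (s u + s v) (by rw [map_add, hs, hs]), key u (s u) (hs u), key v (s v) (hs v),
      ← map_add, MultilinearMap.map_update_add]
  map_update_smul' {_} x i a u := by
    classical
    let b := MvPolynomial.basisMonomials B A
    let s := Function.surjInv (cover_surjective A B)
    have hs : ∀ z, cover A B (s z) = z := Function.surjInv_eq (cover_surjective A B)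
    have key : ∀ (z : B) (q : MvPolynomial B A), cover A B q = z →
        cf (expo (id : Fin d → Fin d)) (ev γ _ (multiElt (A := A) (Function.update x i z))) =
          ((classHom d b (MulLaw.precomp γ (cover A B))).toLinearMap.comp
            (symmSum A (MvPolynomial B A) d))
            (PiTensorProduct.tprod A (Function.update (fun k => s (x k)) i q)) := by
      intro z q hq
      rw [LinearMap.comp_apply, AlgHom.toLinearMap_apply, classHom_symmSum]
      congr 3
      funext k
      by_cases hk : k = i
      · subst hk; simp [hq]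
      · simp [hk, hs]
    rw [key (a • u) (a • s u) (by rw [map_smul, hs]), key u (s u) (hs u), ← map_smul,
      MultilinearMap.map_update_smul]

/-- Polarisation `B^{⊗ d} → Γ^d(B)`. -/
noncomputable def polar : (⨂[A] _ : Fin d, B) →ₗ[A] C := PiTensorProduct.lift (polarMul γ)

theorem polar_tmap (t : ⨂[A] _ : Fin d, P) :
    polar γ (SymTen.tmap A d π t) =
      classHom d b (MulLaw.precomp γ π) (symmSum A P d t) := by
  induction t using PiTensorProduct.induction_on with
  | smul_tprod r f =>
    simp only [map_smul, SymTen.tmap_tprod, polar, PiTensorProduct.lift.tprod, classHom_symmSum]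
    rfl
  | add x y hx hy => simp only [map_add, hx, hy]

include hπ in
theorem tmap_surjective : Function.Surjective (SymTen.tmap A d π) := by
  intro z
  induction z using PiTensorProduct.induction_on with
  | smul_tprod r f =>
    refine ⟨r • PiTensorProduct.tprod A (fun i => Function.surjInv hπ (f i)), ?_⟩
    simp [Function.surjInv_eq hπ]
  | add x y hx hy =>
    obtain ⟨x', rfl⟩ := hx
    obtain ⟨y', rfl⟩ := hy
    exact ⟨x' + y', map_add _ _ _⟩

theorem tmap_symmSum (t : ⨂[A] _ : Fin d, P) :
    SymTen.tmap A d π ((SymTen.TS A P d).val (symmSum A P d t)) =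
      (SymTen.TS A B d).val (symmSum A B d (SymTen.tmap A d π t)) := by
  rw [val_symmSum, val_symmSum, map_sum]
  exact Finset.sum_congr rfl fun σ _ => SymTen.tmap_reindex A d π σ t

variable (hγ : IsGammaD γ) (φ : C →ₐ[A] SymTen.TS A B d)
  (hφ : ∀ (S : Type u) [CommSemiring S] [Algebra A S] (x : S ⊗[A] B),
    bc ((SymTen.TS A B d).val.comp φ) S (ev γ S x) = (SymTen.tpowLaw A B d).law.toFun' S x)

include hγ hφ in
theorem polar_val (x : C) : polar γ (φ x).1 = d.factorial • x := by
  classical
  obtain ⟨t, rfl⟩ :=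
    classHom_surjective hγ (MvPolynomial.basisMonomials B A) (cover A B) (cover_surjective A B) x
  have h := DFunLike.congr_fun (comp_classHom (MvPolynomial.basisMonomials B A) (cover A B) γ _ hφ) t
  show polar γ (((SymTen.TS A B d).val.comp φ).comp
    (classHom d (MvPolynomial.basisMonomials B A) (MulLaw.precomp γ (cover A B))) t) = _
  rw [h, AlgHom.comp_apply,
    polar_tmap γ (MvPolynomial.basisMonomials B A) (cover A B), Subalgebra.coe_val,
    symmSum_of_mem, map_nsmul]

include hφ in
theorem phi_polar (z : ⨂[A] _ : Fin d, B) : φ (polar γ z) = symmSum A B d z := by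
  classical
  obtain ⟨t, rfl⟩ :=
    tmap_surjective (cover A B) (cover_surjective A B) z
  rw [polar_tmap γ (MvPolynomial.basisMonomials B A) (cover A B)]
  refine Subtype.val_injective ?_
  refine (DFunLike.congr_fun
    (comp_classHom (MvPolynomial.basisMonomials B A) (cover A B) γ _ hφ) _).trans ?_
  rw [AlgHom.comp_apply, tmap_symmSum]
  rfl

include hγ hφ in
theorem factorial_kills : (∀ x : C, φ x = 0 → d.factorial • x = 0) ∧
    (∀ y : SymTen.TS A B d, d.factorial • y ∈ φ.range) := by
  refine ⟨fun x hx => ?_, fun y => ⟨polar γ y.1, ?_⟩⟩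
  · rw [← polar_val γ hγ φ hφ x, hx]
    exact map_zero _
  · show φ _ = _
    rw [phi_polar γ φ hφ, symmSum_of_mem]

end Polar

end Groth.Agent.PolLib
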