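import Groth.Agent.PolLib.Points
import Groth.Agent.PolLib.Polar
import Mathlib.Algebra.Polynomial.BigOperators

/-! The law `z ↦ ∏ σ z` descends to a law `B^{⊗ d} → Γ^d(B)`. -/

universe u v w

open scoped TensorProduct

namespace Groth.Agent.PolLib

open PolLaw Polynomial

variable {A : Type u} [CommRing A] {P : Type u} [CommRing P] [Algebra A P] {d : ℕ}
  {κ : Type u} (b : Module.Basis κ A P)

section Stabilizer

variable (R : Type u) [CommRing R] [Algebra A R]

/-- The permutations of the factors on the base change of a tensor power. -/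
noncomputable abbrev permS (σ : Equiv.Perm (Fin d)) :
    R ⊗[A] (⨂[A] _ : Fin d, P) →ₐ[A] R ⊗[A] (⨂[A] _ : Fin d, P) :=
  (bc (SymTen.perm A P d σ) R).restrictScalars A

local notation "pS" => permS (A := A) (P := P)

theorem permS_comp (σ τ : Equiv.Perm (Fin d)) (z : R ⊗[A] (⨂[A] _ : Fin d, P)) :
    pS R σ (pS R τ z) = pS R (σ * τ) z := by
  show bc _ R (bc _ R z) = bc _ R z
  rw [bc_bc]
  congr 2
  refine AlgHom.ext fun t => ?_
  induction t using PiTensorProduct.induction_on with
  | smul_tprod r f =>
    rw [map_smul, map_smul, AlgHom.comp_apply, SymTen.perm_tprod, SymTen.perm_tprod,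
      SymTen.perm_tprod]
    rfl
  | add x y hx hy => rw [map_add, map_add, hx, hy]

theorem permS_one (z : R ⊗[A] (⨂[A] _ : Fin d, P)) : pS R (1 : Equiv.Perm (Fin d)) z = z := by
  show bc _ R z = z
  have h : SymTen.perm A P d 1 = AlgHom.id A _ := AlgHom.ext fun t => by
    induction t using PiTensorProduct.induction_on with
    | smul_tprod r f => rw [map_smul, SymTen.perm_tprod]; rfl
    | add x y hx hy => rw [map_add, hx, hy]; rfl
  rw [h, bc_id]

theorem permS_prS (σ : Equiv.Perm (Fin d)) (i : Fin d) (y : (R ⊗[A] SymTen.TS A P d) ⊗[A] P) :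
    pS R σ (prS (A := A) (P := P) d R i y) = prS (A := A) (P := P) d R (σ i) y := by
  induction y using TensorProduct.induction_on with
  | zero => simp
  | add a b ha hb => simp only [map_add, ha, hb]
  | tmul s p =>
    simp only [prS, Algebra.TensorProduct.lift_tmul, map_mul, AlgHom.comp_apply,
      Algebra.TensorProduct.includeRight_apply]
    congr 1
    · show bc _ R (bc (SymTen.TS A P d).val R s) = bc (SymTen.TS A P d).val R s
      rw [bc_bc]
      congr 2
      refine AlgHom.ext fun t => ?_
      rw [AlgHom.comp_apply, SymTen.perm_apply]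
      exact t.2 σ
    · show bc _ R ((1 : R) ⊗ₜ[A] _) = _
      rw [bc_tmul, perm_singleAlgHom]

include b in
theorem exists_vS_of_invariant (z : R ⊗[A] (⨂[A] _ : Fin d, P))
    (hz : ∀ σ : Equiv.Perm (Fin d), pS R σ z = z) :
    ∃ s, vS (A := A) (P := P) d R s = z := by
  refine ⟨(retr b).lTensor R z, val_retr_of_invariant b R z fun σ => ?_⟩
  have h : (PiTensorProduct.reindex A (fun _ : Fin d => P) σ).toLinearMap =
      (SymTen.perm A P d σ).toLinearMap :=
    LinearMap.ext fun t => (SymTen.perm_apply A P d σ t).symm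
  rw [h, lTensor_eq_bc]
  exact hz σ

theorem prS_includeLeft (i : Fin d) (s : R ⊗[A] SymTen.TS A P d) :
    prS (A := A) (P := P) d R i (s ⊗ₜ[A] 1) = vS (A := A) (P := P) d R s := by
  simp only [prS, Algebra.TensorProduct.lift_tmul, AlgHom.comp_apply, map_one, mul_one]

include b in
/-- The product of the factors other than `i₀`. -/
theorem prod_erase_mem (i₀ : Fin d) (L : R ⊗[A] P) :
    ∏ i ∈ (Finset.univ : Finset (Fin d)).erase i₀,
        prS (A := A) (P := P) d R i (rB P Algebra.TensorProduct.includeLeft L) ∈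
      (prS (A := A) (P := P) d R i₀).range := by
  classical
  let l : Fin d → R ⊗[A] (⨂[A] _ : Fin d, P) :=
    fun i => prS (A := A) (P := P) d R i (rB P Algebra.TensorProduct.includeLeft L)
  let F : (R ⊗[A] (⨂[A] _ : Fin d, P))[X] :=
    ∏ i ∈ (Finset.univ : Finset (Fin d)).erase i₀, (1 + C (l i) * X)
  let G : (R ⊗[A] (⨂[A] _ : Fin d, P))[X] := ∏ i, (1 + C (l i) * X)
  have hFG : (1 + C (l i₀) * X) * F = G :=
    Finset.mul_prod_erase Finset.univ (fun i => 1 + C (l i) * X) (Finset.mem_univ i₀)
  have hG : ∀ σ, G.map (pS R σ).toRingHom = G := by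
    intro σ
    simp only [G, Polynomial.map_prod, Polynomial.map_add, Polynomial.map_one, Polynomial.map_mul,
      Polynomial.map_C, Polynomial.map_X]
    refine Eq.trans (Finset.prod_congr rfl fun i _ => ?_)
      (Equiv.prod_comp σ fun i => 1 + C (l i) * X)
    rw [show (pS R σ).toRingHom (l i) = l (σ i) from permS_prS R σ i _]
  have hGk : ∀ k, G.coeff k ∈ (prS (A := A) (P := P) d R i₀).range := by
    intro k
    obtain ⟨s, hs⟩ := exists_vS_of_invariant b R (G.coeff k) fun σ => by
      conv_rhs => rw [← hG σ, Polynomial.coeff_map]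
      rfl
    exact ⟨s ⊗ₜ[A] 1, (prS_includeLeft R i₀ s).trans hs⟩
  have hl : l i₀ ∈ (prS (A := A) (P := P) d R i₀).range := ⟨_, rfl⟩
  have hFk : ∀ k, F.coeff k ∈ (prS (A := A) (P := P) d R i₀).range := by
    intro k
    induction k with
    | zero =>
      have h := congrArg (Polynomial.coeff · 0) hFG
      simp only [Polynomial.mul_coeff_zero, Polynomial.coeff_add, Polynomial.coeff_one_zero,
        Polynomial.coeff_X_zero, mul_zero, add_zero, one_mul] at h
      rw [h]
      exact hGk 0
    | succ k ih =>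
      have h := congrArg (Polynomial.coeff · (k + 1)) hFG
      simp only [add_mul, one_mul, Polynomial.coeff_add, mul_assoc, Polynomial.coeff_C_mul,
        Polynomial.coeff_X_mul] at h
      rw [eq_sub_of_add_eq h]
      exact sub_mem (hGk (k + 1)) (mul_mem hl ih)
  have hdeg : ∀ i ∈ (Finset.univ : Finset (Fin d)).erase i₀,
      (1 + C (l i) * X : (R ⊗[A] (⨂[A] _ : Fin d, P))[X]).natDegree ≤ 1 := fun i _ =>
    natDegree_add_le_of_degree_le (by simp) ((natDegree_C_mul_le _ _).trans natDegree_X_le)
  have h1 := Polynomial.coeff_prod_of_natDegree_le _ _ 1 hdeg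
  rw [mul_one] at h1
  have h2 : ∀ i, (1 + C (l i) * X : (R ⊗[A] (⨂[A] _ : Fin d, P))[X]).coeff 1 = l i := fun i => by
    simp [Polynomial.coeff_one]
  simp only [h2] at h1
  exact h1 ▸ hFk _

end Stabilizer

section Span

local notation "pS" => permS (A := A) (P := P)

/-- Sum of the basis tuples in an orbit with a given value at `i₀`. -/
noncomputable def orbAt [DecidableEq κ] (i₀ : Fin d) (a : κ) (q : Orb κ d) :
    ⨂[A] _ : Fin d, P :=
  ∑ c ∈ (fib q).filter (fun c => c i₀ = a), beta b d c

/-- `t ⊗ p ↦ t · p` with `p` placed in the factor `i₀`. -/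
noncomputable def theta (i₀ : Fin d) : SymTen.TS A P d ⊗[A] P →ₐ[A] (⨂[A] _ : Fin d, P) :=
  Algebra.TensorProduct.productMap (S := ⨂[A] _ : Fin d, P) (SymTen.TS A P d).val
    (PiTensorProduct.singleAlgHom (R := A) (A := fun _ : Fin d => P) i₀)

theorem cf_prS_mem (i₀ : Fin d) {σ : Type u} (μ : σ →₀ ℕ)
    (y : (MvPolynomial σ A ⊗[A] SymTen.TS A P d) ⊗[A] P) :
    cf μ (prS (A := A) (P := P) d (MvPolynomial σ A) i₀ y) ∈
      (theta (A := A) (P := P) (d := d) i₀).range := by
  induction y using TensorProduct.induction_on with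
  | zero => simp
  | add a b ha hb => rw [map_add, map_add]; exact add_mem ha hb
  | tmul s p =>
    induction s using TensorProduct.induction_on with
    | zero => simp
    | add a b ha hb => rw [TensorProduct.add_tmul, map_add, map_add]; exact add_mem ha hb
    | tmul r t =>
      refine ⟨(MvPolynomial.coeff μ r • t) ⊗ₜ[A] p, ?_⟩
      simp only [theta, prS, Algebra.TensorProduct.productMap_apply_tmul,
        Algebra.TensorProduct.lift_tmul, AlgHom.comp_apply, Algebra.TensorProduct.includeRight_apply,
        map_smul, smul_mul_assoc]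
      show _ = cf μ ((r ⊗ₜ[A] (SymTen.TS A P d).val t) * ((1 : MvPolynomial σ A) ⊗ₜ[A] _))
      rw [Algebra.TensorProduct.tmul_mul_tmul, mul_one, cf_tmul]
      simp [smul_mul_assoc]

theorem orbAt_mem [DecidableEq κ] (i₀ : Fin d) (a : κ) (q : Orb κ d) :
    orbAt b i₀ a q ∈ (theta (A := A) (P := P) (d := d) i₀).range := by
  classical
  by_cases hne : ∃ c ∈ fib q, c i₀ = a
  swap
  · have : (fib q).filter (fun c => c i₀ = a) = ∅ :=
      Finset.filter_eq_empty_iff.mpr fun c hc h => hne ⟨c, hc, h⟩
    rw [orbAt, this, Finset.sum_empty]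
    exact zero_mem _
  let s : Finset κ := (qexpo q).support
  let t : Fin d → Finset κ := fun i => if i = i₀ then {a} else s
  let μ : κ →₀ ℕ := qexpo q - Finsupp.single a 1
  let w : Fin d → κ → MvPolynomial κ A := fun i j => if i = i₀ then 1 else MvPolynomial.X j
  let E := ∏ i ∈ (Finset.univ : Finset (Fin d)).erase i₀,
    prS (A := A) (P := P) d (MvPolynomial κ A) i (rB P Algebra.TensorProduct.includeLeft (xu b s))
  let hd := (1 : MvPolynomial κ A) ⊗ₜ[A]
    PiTensorProduct.singleAlgHom (R := A) (A := fun _ : Fin d => P) i₀ (b a)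
  have hE : E ∈ (prS (A := A) (P := P) d (MvPolynomial κ A) i₀).range :=
    prod_erase_mem b (MvPolynomial κ A) i₀ _
  have hhd : hd ∈ (prS (A := A) (P := P) d (MvPolynomial κ A) i₀).range :=
    ⟨1 ⊗ₜ[A] b a, by
      show prS (A := A) (P := P) d (MvPolynomial κ A) i₀ (1 ⊗ₜ[A] b a) = hd
      simp only [prS, Algebra.TensorProduct.lift_tmul, map_one, one_mul, AlgHom.comp_apply,
        Algebra.TensorProduct.includeRight_apply, hd]⟩
  suffices h : cf μ (hd * E) = orbAt b i₀ a q by
    obtain ⟨y, hy⟩ := mul_mem hhd hE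
    rw [← h, ← hy]
    exact cf_prS_mem i₀ μ y
  have hprod : hd * E = ∏ i, ∑ j ∈ t i, w i j ⊗ₜ[A]
      PiTensorProduct.singleAlgHom (R := A) (A := fun _ : Fin d => P) i (b j) := by
    rw [← Finset.mul_prod_erase Finset.univ _ (Finset.mem_univ i₀)]
    congr 1
    · simp [t, w, hd]
    · refine Finset.prod_congr rfl fun i hi => ?_
      have hi' : i ≠ i₀ := Finset.ne_of_mem_erase hi
      simp only [t, w, if_neg hi', xu, map_sum]
      refine Finset.sum_congr rfl fun j _ => ?_
      simp [prS, Algebra.TensorProduct.tmul_mul_tmul]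
  rw [hprod, Finset.prod_univ_sum, map_sum]
  have hterm : ∀ c ∈ Fintype.piFinset t, cf μ (∏ i, w i (c i) ⊗ₜ[A]
      PiTensorProduct.singleAlgHom (R := A) (A := fun _ : Fin d => P) i (b (c i))) =
      if expo c = qexpo q then beta b d c else 0 := by
    intro c hc
    have hci : c i₀ = a := by
      have := Fintype.mem_piFinset.mp hc i₀
      simpa [t] using this
    have hsplit : ∀ u : Finset (Fin d), (∏ i ∈ u, w i (c i) ⊗ₜ[A]
        PiTensorProduct.singleAlgHom (R := A) (A := fun _ : Fin d => P) i (b (c i))) =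
        (∏ i ∈ u, w i (c i)) ⊗ₜ[A] ∏ i ∈ u,
          PiTensorProduct.singleAlgHom (R := A) (A := fun _ : Fin d => P) i (b (c i)) := by
      intro u
      induction u using Finset.induction_on with
      | empty => simp [Algebra.TensorProduct.one_def]
      | insert j u hj ih =>
        rw [Finset.prod_insert hj, Finset.prod_insert hj, Finset.prod_insert hj, ih,
          Algebra.TensorProduct.tmul_mul_tmul]
    have hsingle : (∏ i, PiTensorProduct.singleAlgHom (R := A) (A := fun _ : Fin d => P) i
        (b (c i))) = beta b d c := by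
      simp only [PiTensorProduct.singleAlgHom_apply, MonoidHom.mulSingle_apply]
      rw [← PiTensorProduct.tprod_prod, beta_apply]
      exact congrArg _ (Finset.univ_prod_mulSingle (fun i => b (c i)))
    have hw : (∏ i, w i (c i)) =
        MvPolynomial.monomial (expo c - Finsupp.single a 1) (1 : A) := by
      rw [← Finset.mul_prod_erase Finset.univ _ (Finset.mem_univ i₀)]
      simp only [w, if_true, one_mul]
      rw [Finset.prod_congr rfl fun i hi => if_neg (Finset.ne_of_mem_erase hi), expo,
        ← Finset.add_sum_erase Finset.univ _ (Finset.mem_univ i₀), hci, add_tsub_cancel_left,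
        MvPolynomial.monomial_sum_one]
      rfl
    rw [hsplit, hsingle, hw, cf_tmul, MvPolynomial.coeff_monomial]
    have hle : Finsupp.single a 1 ≤ qexpo q := by
      obtain ⟨c', hc', hca⟩ := hne
      rw [← mem_fib.mp hc', qexpo_cls, expo,
        ← Finset.add_sum_erase Finset.univ _ (Finset.mem_univ i₀), hca]
      exact le_self_add
    have hle' : Finsupp.single a 1 ≤ expo c := by
      rw [expo, ← Finset.add_sum_erase Finset.univ _ (Finset.mem_univ i₀), hci]
      exact le_self_add
    have hiff : expo c - Finsupp.single a 1 = μ ↔ expo c = qexpo q := by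
      refine ⟨fun h => ?_, fun h => by rw [h]⟩
      rw [← tsub_add_cancel_of_le hle', h, tsub_add_cancel_of_le hle]
    by_cases h : expo c = qexpo q
    · rw [if_pos h, if_pos (hiff.mpr h), one_smul]
    · rw [if_neg h, if_neg (fun h' => h (hiff.mp h')), zero_smul]
  rw [Finset.sum_congr rfl hterm, ← Finset.sum_filter, orbAt]
  refine Finset.sum_congr (Finset.ext fun c => ?_) fun _ _ => rfl
  rw [Finset.mem_filter, Finset.mem_filter, Fintype.mem_piFinset, mem_fib, ← qexpo_cls c]
  constructor
  · rintro ⟨hc, he⟩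
    refine ⟨qexpo_injective he, ?_⟩
    simpa [t] using hc i₀
  · rintro ⟨hc, hca⟩
    refine ⟨fun i => ?_, by rw [hc]⟩
    by_cases hi : i = i₀
    · subst hi; simp [t, hca]
    · simp only [t, if_neg hi, s]
      rw [← hc, qexpo_cls, expo_support]
      exact Finset.mem_image_of_mem _ (Finset.mem_univ i)

theorem exists_same_of_eq {i₀ : Fin d} {c c' : Fin d → κ} (h : cls c = cls c')
    (h0 : c i₀ = c' i₀) : ∃ σ : Equiv.Perm (Fin d), σ i₀ = i₀ ∧ c' = c ∘ σ := by
  classical
  obtain ⟨σ, rfl⟩ := cls_eq_iff.mp h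
  refine ⟨Equiv.swap i₀ (σ i₀) * σ, by simp, funext fun k => ?_⟩
  simp only [Function.comp_apply, Equiv.Perm.mul_apply, Equiv.swap_apply_def] at h0 ⊢
  split_ifs with h1 h2
  · rw [h1, h0]
  · rw [h2, h0]
  · rfl

include b in
theorem exists_prS_of_stab (R : Type u) [CommRing R] [Algebra A R] (i₀ : Fin d)
    (z : R ⊗[A] (⨂[A] _ : Fin d, P))
    (hz : ∀ σ : Equiv.Perm (Fin d), σ i₀ = i₀ → pS R σ z = z) :
    ∃ y, prS (A := A) (P := P) d R i₀ y = z := by
  classical
  let key : (Fin d → κ) → κ × Orb κ d := fun c => (c i₀, cls c)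
  let rp : κ × Orb κ d → (Fin d → κ) := fun k =>
    if h : ∃ c, key c = k then h.choose else fun _ => k.1
  have hrp : ∀ c, key (rp (key c)) = key c := fun c => by
    simp only [rp, dif_pos (⟨c, rfl⟩ : ∃ c', key c' = key c)]
    exact (⟨c, rfl⟩ : ∃ c', key c' = key c).choose_spec
  choose pre hpre using fun k : κ × Orb κ d => orbAt_mem b i₀ k.1 k.2
  let L : (⨂[A] _ : Fin d, P) →ₗ[A] SymTen.TS A P d ⊗[A] P :=
    (beta b d).constr A fun c => if c = rp (key c) then pre (key c) else 0
  have hco : ∀ c, ((beta b d).coord c).comp ((theta (A := A) (P := P) i₀).toLinearMap.comp L) =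
      (beta b d).coord (rp (key c)) := by
    intro c
    refine (beta b d).ext fun c' => ?_
    simp only [LinearMap.comp_apply, L, Module.Basis.constr_basis, AlgHom.toLinearMap_apply,
      Module.Basis.coord_apply, Module.Basis.repr_self, Finsupp.single_apply]
    by_cases h1 : c' = rp (key c')
    · rw [if_pos h1]
      erw [hpre]
      rw [orbAt, map_sum, Finsupp.finsetSum_apply]
      simp only [Module.Basis.repr_self, Finsupp.single_apply, Finset.sum_ite_eq',
        Finset.mem_filter, mem_fib]
      by_cases h2 : key c = key c'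
      · have h2' : cls c = (key c').2 ∧ c i₀ = (key c').1 :=
          ⟨congrArg Prod.snd h2, congrArg Prod.fst h2⟩
        rw [if_pos h2', if_pos (by rw [h2]; exact h1)]
      · rw [if_neg fun h => h2 (Prod.ext h.2 h.1), if_neg fun h => h2 (by rw [h, hrp])]
    · rw [if_neg h1, map_zero, map_zero]
      have : c' ≠ rp (key c) := fun h => h1 (by rw [h, hrp])
      simp [this]
  let asc : R ⊗[A] (SymTen.TS A P d ⊗[A] P) →ₗ[A] (R ⊗[A] SymTen.TS A P d) ⊗[A] P :=
    (TensorProduct.assoc A R (SymTen.TS A P d) P).symm.toLinearMap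
  refine ⟨asc (L.lTensor R z), ?_⟩
  have hθ : ∀ y, prS (A := A) (P := P) d R i₀ (asc y) =
      (theta (A := A) (P := P) i₀).toLinearMap.lTensor R y := by
    intro y
    induction y using TensorProduct.induction_on with
    | zero => simp
    | add a b ha hb => simp only [map_add, ha, hb]
    | tmul r y =>
      induction y using TensorProduct.induction_on with
      | zero => simp
      | add a b ha hb => simp only [TensorProduct.tmul_add, map_add, ha, hb]
      | tmul t p =>
        simp [asc, prS, theta, Algebra.TensorProduct.tmul_mul_tmul]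
  rw [hθ]
  have hrepr : ∀ (c : Fin d → κ) (w : R ⊗[A] (⨂[A] _ : Fin d, P)),
      (Algebra.TensorProduct.basis R (beta b d)).repr w c =
        TensorProduct.rid A R (((beta b d).coord c).lTensor R w) := by
    intro c w
    induction w using TensorProduct.induction_on with
    | zero => simp
    | tmul s t => simp [Algebra.smul_def, mul_comm]
    | add x y hx hy => simp [hx, hy]
  refine (Algebra.TensorProduct.basis R (beta b d)).ext_elem fun c => ?_
  rw [hrepr, hrepr]
  congr 1
  rw [← LinearMap.lTensor_comp_apply, ← LinearMap.lTensor_comp_apply, LinearMap.comp_assoc, hco]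
  obtain ⟨σ, hσ0, hσ⟩ := exists_same_of_eq (i₀ := i₀) (c := rp (key c)) (c' := c)
    (congrArg Prod.snd (hrp c)) (congrArg Prod.fst (hrp c))
  have h2 : ((beta b d).coord (rp (key c))).comp
      (SymTen.perm A P d σ).toLinearMap = (beta b d).coord c := by
    refine LinearMap.ext fun t => ?_
    rw [LinearMap.comp_apply, AlgHom.toLinearMap_apply, SymTen.perm_apply, coord_reindex, ← hσ]
  rw [← h2, LinearMap.lTensor_comp_apply, lTensor_eq_bc,
    show bc (SymTen.perm A P d σ) R z = z from hz σ hσ0]

end Span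

section Norm

local notation "pS" => permS (A := A) (P := P)

/-- The law `z ↦ ∏ σ z` into symmetric tensors, for an algebra with a basis. -/
noncomputable def normTau (d : ℕ) :
    MulLaw A (⨂[A] _ : Fin d, P) (SymTen.TS A P d) d.factorial where
  law :=
  { toFun' := fun S _ _ z => (retr b).lTensor S ((SymTen.symmLaw A P d).law.toFun' S z)
    isCompat' := fun {S} _ _ {S'} _ _ φ => by
      funext z
      simp only [Function.comp_apply]
      rw [← LinearMap.comp_apply, LinearMap.rTensor_comp_lTensor, ← LinearMap.lTensor_comp_rTensor,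
        LinearMap.comp_apply]
      exact congrArg _ (congrFun ((SymTen.symmLaw A P d).law.isCompat' φ) z) }
  homog S _ _ s z := by
    show (retr b).lTensor S _ = s ^ d.factorial • (retr b).lTensor S _
    rw [(SymTen.symmLaw A P d).homog S s z]
    generalize (SymTen.symmLaw A P d).law.toFun' S z = y
    induction y using TensorProduct.induction_on with
    | zero => simp
    | tmul a t => simp [TensorProduct.smul_tmul']
    | add u v hu hv => simp only [smul_add, map_add, hu, hv]
  mult S _ _ := by
    have hv : ∀ z, bc (SymTen.TS A P d).val S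
        ((retr b).lTensor S ((SymTen.symmLaw A P d).law.toFun' S z)) =
          (SymTen.symmLaw A P d).law.toFun' S z := fun z => by
      refine val_retr_of_invariant b S _ fun τ => ?_
      have h : (PiTensorProduct.reindex A (fun _ : Fin d => P) τ).toLinearMap =
          (SymTen.perm A P d τ).toLinearMap :=
        LinearMap.ext fun t => (SymTen.perm_apply A P d τ t).symm
      rw [h, lTensor_eq_bc, SymTen.symmLaw, MulLaw.prodMap_toFun', map_prod]
      refine Eq.trans (Finset.prod_congr rfl fun σ _ => ?_)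
        (Equiv.prod_comp (Equiv.mulLeft τ) fun σ =>
          Algebra.TensorProduct.map (AlgHom.id S S) (SymTen.perm A P d σ) z)
      show bc _ S (bc _ S z) = bc _ S z
      rw [bc_bc]
      congr 2
      refine AlgHom.ext fun t => ?_
      induction t using PiTensorProduct.induction_on with
      | smul_tprod r f =>
        rw [map_smul, map_smul, AlgHom.comp_apply, SymTen.perm_tprod, SymTen.perm_tprod,
          SymTen.perm_tprod]
        rfl
      | add x y hx hy => rw [map_add, map_add, hx, hy]
    refine ⟨retr_lTensor_injective b S ?_, fun x y => retr_lTensor_injective b S ?_⟩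
    · rw [hv, map_one]
      exact ((SymTen.symmLaw A P d).mult S).1
    · show bc _ S ((retr b).lTensor S _) =
        bc _ S ((retr b).lTensor S _ * (retr b).lTensor S _)
      rw [map_mul, hv, hv, hv]
      exact ((SymTen.symmLaw A P d).mult S).2 x y

theorem val_normTau (R : Type u) [CommRing R] [Algebra A R] (z : R ⊗[A] (⨂[A] _ : Fin d, P)) :
    vS (A := A) (P := P) d R (ev (normTau b d) R z) = ∏ σ : Equiv.Perm (Fin d), pS R σ z := by
  show bc (SymTen.TS A P d).val R ((retr b).lTensor R ((SymTen.symmLaw A P d).law.toFun' R z)) = _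
  rw [val_retr_of_invariant b R _ fun τ => ?_]
  · rw [SymTen.symmLaw, MulLaw.prodMap_toFun']
    rfl
  · have h : (PiTensorProduct.reindex A (fun _ : Fin d => P) τ).toLinearMap =
        (SymTen.perm A P d τ).toLinearMap :=
      LinearMap.ext fun t => (SymTen.perm_apply A P d τ t).symm
    rw [h, lTensor_eq_bc, SymTen.symmLaw, MulLaw.prodMap_toFun', map_prod]
    refine Eq.trans (Finset.prod_congr rfl fun σ _ => ?_)
      (Equiv.prod_comp (Equiv.mulLeft τ) fun σ =>
        Algebra.TensorProduct.map (AlgHom.id R R) (SymTen.perm A P d σ) z)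
    exact permS_comp R τ σ z

variable {B : Type u} [CommRing B] [Algebra A B] {C : Type u} [CommRing C] [Algebra A C]
  (γ : MulLaw A B C d) (π : P →ₐ[A] B) [DecidableEq κ]

theorem single_mem_ker (i₀ : Fin d) {q : P} (hq : π q = 0) :
    PiTensorProduct.singleAlgHom (R := A) (A := fun _ : Fin d => P) i₀ q ∈
      PolLaw.ker (MulLaw.postcomp (classHom d b (MulLaw.precomp γ π)) (normTau b d)).law := by
  classical
  rw [mem_ker_iff_evl]
  intro R _ _ g x w
  let cl := classHom d b (MulLaw.precomp γ π)
  let ι : R →ₐ[A] R ⊗[A] SymTen.TS A P d := Algebra.TensorProduct.includeLeft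
  let iT : SymTen.TS A P d →ₐ[A] R ⊗[A] SymTen.TS A P d := Algebra.TensorProduct.includeRight
  let ψ : R ⊗[A] SymTen.TS A P d →ₐ[A] R := (mu (g.comp cl)).restrictScalars A
  have hψT : ψ.comp iT = g.comp cl := AlgHom.ext fun t => by simp [ψ, iT]
  have hψS : ∀ y, ψ (mu iT (ev (tau d b) _ y)) = evl γ g (bc π R (rB P ψ y)) := by
    intro y
    rw [← mu_rB iT ψ, hψT, ev_nat, ← mu_bc cl g, classHom_tau, ev_precomp]
    rfl
  have hevl : ∀ z, evl (MulLaw.postcomp cl (normTau b d)) g z = ψ (ev (normTau b d) R z) := by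
    intro z
    rw [evl, ev_postcomp, mu_bc]
    rfl
  let Gs : Fin d → Finset (Equiv.Perm (Fin d)) :=
    fun i => Finset.univ.filter fun σ => σ i₀ = i
  let Pi : Fin d → (R ⊗[A] (⨂[A] _ : Fin d, P))[X] :=
    fun i => ∏ σ ∈ Gs i, (Polynomial.C (pS R σ x) + Polynomial.C (pS R σ w) * X)
  have hPi : ∀ (τ : Equiv.Perm (Fin d)) (i : Fin d),
      (Pi i).map (pS R τ).toRingHom = Pi (τ i) := by
    intro τ i
    simp only [Pi, Polynomial.map_prod, Polynomial.map_add, Polynomial.map_mul, Polynomial.map_C,
      Polynomial.map_X]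
    refine Finset.prod_nbij' (fun σ => τ * σ) (fun σ => τ⁻¹ * σ) ?_ ?_ ?_ ?_ ?_
    · intro σ hσ
      simp only [Gs, Finset.mem_filter, Finset.mem_univ, true_and] at hσ ⊢
      rw [Equiv.Perm.mul_apply, hσ]
    · intro σ hσ
      simp only [Gs, Finset.mem_filter, Finset.mem_univ, true_and] at hσ ⊢
      rw [Equiv.Perm.mul_apply, hσ]
      simp
    · intro σ _; simp
    · intro σ _; simp
    · intro σ _
      show Polynomial.C (pS R τ (pS R σ x)) + Polynomial.C (pS R τ (pS R σ w)) * X = _
      rw [permS_comp, permS_comp]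
  choose ch hch using fun k : ℕ => exists_prS_of_stab b R i₀ ((Pi i₀).coeff k) fun σ hσ => by
    conv_rhs => rw [← hσ, ← hPi σ i₀, Polynomial.coeff_map]
    rfl
  have hcoeff : ∀ i k, prS (A := A) (P := P) d R i (ch k) = (Pi i).coeff k := by
    intro i k
    obtain ⟨σ, hσ⟩ : ∃ σ : Equiv.Perm (Fin d), σ i₀ = i := ⟨Equiv.swap i₀ i, by simp⟩
    rw [← hσ, ← permS_prS, hch, ← hPi, Polynomial.coeff_map]
    rfl
  let N := (Finset.univ.sup fun i => (Pi i).natDegree) + 1
  let qh : (R ⊗[A] SymTen.TS A P d) ⊗[A] P := 1 ⊗ₜ[A] q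
  let y := ∑ k ∈ Finset.range N, ch k * qh ^ k
  have hqh : ∀ i, prS (A := A) (P := P) d R i qh =
      (1 : R) ⊗ₜ[A] PiTensorProduct.singleAlgHom (R := A) (A := fun _ : Fin d => P) i q := by
    intro i
    simp only [qh, prS, Algebra.TensorProduct.lift_tmul, map_one, one_mul, AlgHom.comp_apply,
      Algebra.TensorProduct.includeRight_apply]
  have hlt : ∀ i, (Pi i).natDegree < N :=
    fun i => Nat.lt_succ_of_le (Finset.le_sup (f := fun i => (Pi i).natDegree) (Finset.mem_univ i))
  have hy : ∀ i, prS (A := A) (P := P) d R i y =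
      (Pi i).eval ((1 : R) ⊗ₜ[A]
        PiTensorProduct.singleAlgHom (R := A) (A := fun _ : Fin d => P) i q) := by
    intro i
    simp only [y, map_sum, map_mul, hcoeff]
    have hpow : ∀ k, prS (A := A) (P := P) d R i (qh ^ k) = ((1 : R) ⊗ₜ[A]
        PiTensorProduct.singleAlgHom (R := A) (A := fun _ : Fin d => P) i q) ^ k := fun k => by
      rw [← hqh i]
      exact (prS (A := A) (P := P) d R i).toRingHom.map_pow qh k
    simp only [hpow]
    exact ((Pi i).eval_eq_sum_range' (hlt i) _).symm
  have hy0 : ∀ i, prS (A := A) (P := P) d R i (ch 0) = (Pi i).eval 0 := fun i => by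
    rw [hcoeff, Polynomial.coeff_zero_eq_eval_zero]
  have hsingle : ∀ σ : Equiv.Perm (Fin d),
      pS R σ ((1 : R) ⊗ₜ[A] PiTensorProduct.singleAlgHom (R := A)
          (A := fun _ : Fin d => P) i₀ q) =
        (1 : R) ⊗ₜ[A] PiTensorProduct.singleAlgHom (R := A)
          (A := fun _ : Fin d => P) (σ i₀) q := fun σ => by
    show bc _ R _ = _
    rw [bc_tmul, perm_singleAlgHom]
  have hN : ev (normTau b d) R (x + w * ((1 : R) ⊗ₜ[A]
      PiTensorProduct.singleAlgHom (R := A) (A := fun _ : Fin d => P) i₀ q)) =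
      mu iT (ev (tau d b) _ y) := by
    refine retr_lTensor_injective b R ((val_normTau b R _).trans ?_)
    show _ = vS (A := A) (P := P) d R _
    rw [vS_mu_tau, ← Finset.prod_fiberwise Finset.univ fun σ : Equiv.Perm (Fin d) => σ i₀]
    refine Finset.prod_congr rfl fun i _ => ?_
    rw [hy, Polynomial.eval_prod]
    refine Finset.prod_congr rfl fun σ hσ => ?_
    have hσi : σ i₀ = i := (Finset.mem_filter.mp hσ).2
    rw [map_add, map_mul, hsingle, hσi, eval_add, eval_mul, eval_C, eval_C, eval_X]
  have hN0 : ev (normTau b d) R x = mu iT (ev (tau d b) _ (ch 0)) := by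
    refine retr_lTensor_injective b R ((val_normTau b R _).trans ?_)
    show _ = vS (A := A) (P := P) d R _
    rw [vS_mu_tau, ← Finset.prod_fiberwise Finset.univ fun σ : Equiv.Perm (Fin d) => σ i₀]
    refine Finset.prod_congr rfl fun i _ => ?_
    rw [hy0, Polynomial.eval_prod]
    refine Finset.prod_congr rfl fun σ hσ => ?_
    simp
  rw [hevl, hevl, hN, hN0, hψS, hψS]
  congr 1
  simp only [y, map_sum, map_mul, map_pow, qh, rB_tmul, bc_tmul, map_one, hq,
    TensorProduct.tmul_zero]
  rw [Finset.sum_eq_single 0]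
  · simp
  · intro k _ hk
    rw [zero_pow hk, mul_zero]
  · intro h
    exact absurd (Finset.mem_range.mpr (Nat.succ_pos _)) h

end Norm

end Groth.Agent.PolLib
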