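import Groth.Agent.PolLib.Induced
import Mathlib.RingTheory.Flat.Basic

/-! The law `B^{⊗ d} → Γ^d(B)` lifting `z ↦ ∏ σ z`. -/

universe u v w

open scoped TensorProduct

namespace Groth.Agent.PolLib

open PolLaw

variable {A : Type u} [CommRing A] {B : Type u} [CommRing B] [Algebra A B]
  {C : Type u} [CommRing C] [Algebra A C] {P : Type u} [CommRing P] [Algebra A P] {d : ℕ}

theorem mem_of_tmap_eq_zero {π : P →ₐ[A] B} (hπ : Function.Surjective π)
    (I : Ideal (⨂[A] _ : Fin d, P))
    (hI : ∀ (i : Fin d) (q : P), π q = 0 →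
      PiTensorProduct.singleAlgHom (R := A) (A := fun _ : Fin d => P) i q ∈ I)
    {z : ⨂[A] _ : Fin d, P} (hz : SymTen.tmap A d π z = 0) : z ∈ I := by
  obtain ⟨Q, _, _, q, -, hq0⟩ := exists_quot (A := A) I
  let h : Fin d → B →ₐ[A] Q := fun i =>
    AlgHom.liftOfSurjective π hπ
      (q.comp (PiTensorProduct.singleAlgHom (R := A) (A := fun _ : Fin d => P) i))
      (fun x hx => (hq0 _).mpr (hI i x hx))
  have hh : ∀ i x, h i (π x) =
      q (PiTensorProduct.singleAlgHom (R := A) (A := fun _ : Fin d => P) i x) := fun i x => by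
    simp [h]
  let g : (⨂[A] _ : Fin d, B) →ₗ[A] Q := PiTensorProduct.lift
    ((MultilinearMap.mkPiAlgebra A (Fin d) Q).compLinearMap fun i => (h i).toLinearMap)
  have hg : ∀ t, g (SymTen.tmap A d π t) = q t := by
    intro t
    induction t using PiTensorProduct.induction_on with
    | add x y hx hy => simp only [map_add, hx, hy]
    | smul_tprod r f =>
      simp only [map_smul, SymTen.tmap_tprod, g, PiTensorProduct.lift.tprod,
        MultilinearMap.compLinearMap_apply, MultilinearMap.mkPiAlgebra_apply,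
        AlgHom.toLinearMap_apply, hh]
      rw [← map_prod]
      congr 2
      simp only [PiTensorProduct.singleAlgHom_apply, MonoidHom.mulSingle_apply]
      rw [← PiTensorProduct.tprod_prod]
      exact congrArg _ (Finset.univ_prod_mulSingle f)
  rw [← hq0, ← hg, hz, map_zero]

/-- A law factors through a surjection as soon as the kernel of the surjection lies in its kernel. -/
theorem stable_of_ker_le {D : Type u} [CommRing D] [Algebra A D] (G : MulLaw A P D d)
    (π : P →ₐ[A] B) (hπ : Function.Surjective π)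
    (h : ∀ t, π t = 0 → t ∈ PolLaw.ker G.law) : Stable G π := by
  refine stable_of_polynomial G π hπ fun n x y hxy => ?_
  have hex : Function.Exact (LinearMap.ker π.toLinearMap).subtype π.toLinearMap :=
    LinearMap.exact_subtype_ker_map _
  obtain ⟨w, hw⟩ := ((lTensor_exact (MvPolynomial (Fin n) A) hex hπ) (x - y)).mp (by
    rw [map_sub, lTensor_eq_bc, lTensor_eq_bc, hxy, sub_self])
  suffices h' : ∀ a, ev G _ (a + (LinearMap.ker π.toLinearMap).subtype.lTensor _ w) = ev G _ a by
    rw [← h' y, hw, add_sub_cancel]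
  clear hw hxy
  induction w using TensorProduct.induction_on with
  | zero => simp
  | add u v hu hv => intro a; rw [map_add, ← add_assoc, hv, hu]
  | tmul s k =>
    intro a
    have e := h k.1 k.2 (MvPolynomial (Fin n) A) a (s ⊗ₜ[A] 1)
    rw [Algebra.TensorProduct.tmul_mul_tmul, mul_one, one_mul] at e
    exact e

theorem perm_comp_tmap (π : P →ₐ[A] B) (σ : Equiv.Perm (Fin d)) :
    (SymTen.tmap A d π).comp (SymTen.perm A P d σ) =
      (SymTen.perm A B d σ).comp (SymTen.tmap A d π) := by
  refine AlgHom.ext fun t => ?_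
  rw [AlgHom.comp_apply, AlgHom.comp_apply, SymTen.perm_apply, SymTen.perm_apply,
    SymTen.tmap_reindex]

/-- The law on the tensor power into a divided power algebra, with its two defining properties. -/
theorem exists_induced {γ : MulLaw A B C d} (hγ : IsGammaD γ) (φ : C →ₐ[A] SymTen.TS A B d)
    (hφ : ∀ (S : Type u) [CommSemiring S] [Algebra A S] (n : ℕ) (s : Fin n → S) (b : Fin n → B),
      ((SymTen.TS A B d).val.comp φ).toLinearMap.lTensor S (γ.law.toFun' S (∑ j, s j ⊗ₜ[A] b j)) =
        ∑ c : Fin d → Fin n, (∏ i, s (c i)) ⊗ₜ[A] PiTensorProduct.tprod A (fun i => b (c i))) :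
    ∃ F : MulLaw A (⨂[A] _ : Fin d, B) C d.factorial,
      (∀ (S : Type u) [CommRing S] [Algebra A S] (z : S ⊗[A] (⨂[A] _ : Fin d, B)),
        bc ((SymTen.TS A B d).val.comp φ) S (ev F S z) =
          ∏ σ : Equiv.Perm (Fin d), bc (SymTen.perm A B d σ) S z) ∧
      (∀ (S : Type u) [CommRing S] [Algebra A S] (x : S ⊗[A] C),
        ev F S (bc ((SymTen.TS A B d).val.comp φ) S x) = x ^ d.factorial) := by
  classical
  let b := MvPolynomial.basisMonomials B A
  let π := cover A B
  have hπ : Function.Surjective π := cover_surjective A B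
  let ξ := (SymTen.TS A B d).val.comp φ
  let cl := classHom d b (MulLaw.precomp γ π)
  have hcl : ξ.comp cl =
      (SymTen.tmap A d π).comp (SymTen.TS A (MvPolynomial B A) d).val :=
    comp_classHom b π γ ξ fun S _ _ x => tpowLaw_eq_of_sum (f := ξ) hφ S x
  let G := MulLaw.postcomp cl (normTau b d)
  have hker : ∀ t, SymTen.tmap A d π t = 0 → t ∈ PolLaw.ker G.law := fun t ht =>
    mem_of_tmap_eq_zero hπ _ (fun i q hq => single_mem_ker b γ π i hq) ht
  have hst : Stable G (SymTen.tmap A d π) :=
    stable_of_ker_le G _ (tmap_surjective π hπ) hker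
  refine ⟨descend G _ (tmap_surjective π hπ) hst, fun S _ _ z => ?_, fun S _ _ x => ?_⟩
  · obtain ⟨u, rfl⟩ := bc_surjective (tmap_surjective (d := d) π hπ) z
    rw [ev_descend, ev_postcomp, bc_bc, hcl, ← bc_bc,
      show bc (SymTen.TS A (MvPolynomial B A) d).val S (ev (normTau b d) S u) = _
        from val_normTau b S u, map_prod]
    refine Finset.prod_congr rfl fun σ _ => ?_
    show bc _ S (bc (SymTen.perm A (MvPolynomial B A) d σ) S u) = _
    rw [bc_bc, perm_comp_tmap, ← bc_bc]
  · obtain ⟨u, rfl⟩ := bc_surjective (S := S) (classHom_surjective hγ b π hπ) x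
    rw [bc_bc, hcl, ← bc_bc, ev_descend, ev_postcomp, ← map_pow]
    refine congrArg _ (retr_lTensor_injective b S ?_)
    rw [show bc (SymTen.TS A (MvPolynomial B A) d).val S (ev (normTau b d) S _) = _
        from val_normTau b S _, map_pow]
    rw [Finset.prod_congr rfl fun σ _ => ?_, Finset.prod_const, Finset.card_univ,
      Fintype.card_perm, Fintype.card_fin]
    show bc (SymTen.perm A (MvPolynomial B A) d σ) S _ = _
    rw [bc_bc]
    congr 2
    exact AlgHom.ext fun t => (SymTen.perm_apply _ _ _ σ _).trans (t.2 σ)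

/-- The induced law on symmetric tensors splits the canonical map up to a power. -/
theorem exists_induced_TS {γ : MulLaw A B C d} (hγ : IsGammaD γ) (φ : C →ₐ[A] SymTen.TS A B d)
    (hφ : ∀ (S : Type u) [CommSemiring S] [Algebra A S] (n : ℕ) (s : Fin n → S) (b : Fin n → B),
      ((SymTen.TS A B d).val.comp φ).toLinearMap.lTensor S (γ.law.toFun' S (∑ j, s j ⊗ₜ[A] b j)) =
        ∑ c : Fin d → Fin n, (∏ i, s (c i)) ⊗ₜ[A] PiTensorProduct.tprod A (fun i => b (c i))) :
    ∃ F : MulLaw A (SymTen.TS A B d) C d.factorial,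
      MulLaw.postcomp φ F = MulLaw.pow A (SymTen.TS A B d) d.factorial ∧
      MulLaw.precomp F φ = MulLaw.pow A C d.factorial := by
  obtain ⟨F, h1, h2⟩ := exists_induced hγ φ hφ
  refine ⟨MulLaw.precomp F (SymTen.TS A B d).val, MulLaw.ext (law_ext fun n p => ?_),
    mulLaw_ext fun S _ _ x => ?_⟩
  · show ev (MulLaw.postcomp φ (MulLaw.precomp F (SymTen.TS A B d).val)) _ p = p ^ d.factorial
    rw [ev_postcomp, ev_precomp]
    have hinj : Function.Injective (bc (SymTen.TS A B d).val (MvPolynomial (Fin n) A)) := by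
      intro a a' h
      refine Module.Flat.lTensor_preserves_injective_linearMap (M := MvPolynomial (Fin n) A)
        (SymTen.TS A B d).val.toLinearMap Subtype.val_injective ?_
      rw [lTensor_eq_bc, lTensor_eq_bc]
      exact h
    refine hinj ?_
    rw [bc_bc, h1, map_pow]
    rw [Finset.prod_congr rfl fun σ _ => ?_, Finset.prod_const, Finset.card_univ,
      Fintype.card_perm, Fintype.card_fin]
    rw [bc_bc]
    congr 2
    exact AlgHom.ext fun t => (SymTen.perm_apply _ _ _ σ _).trans (t.2 σ)
  · rw [ev_precomp, ev_precomp, bc_bc, h2]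
    rfl

end Groth.Agent.PolLib
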