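import Groth.Agent.PolLib.Gamma
import Mathlib.Algebra.Polynomial.AlgebraMap
import Mathlib.RingTheory.TensorProduct.Basic

/-! The Iversen map is surjective. -/

universe u

open scoped TensorProduct

namespace Groth.Agent.PolLib

open PolLaw Polynomial

variable {A : Type u} [CommRing A]

/-- `R[T] ⊗ D → (R ⊗ D)[T]`. -/
noncomputable def polyT (R D : Type u) [CommRing R] [Algebra A R] [CommRing D] [Algebra A D] :
    R[X] ⊗[A] D →ₐ[A] (R ⊗[A] D)[X] :=
  Algebra.TensorProduct.lift
    (Polynomial.mapAlgHom (Algebra.TensorProduct.includeLeft : R →ₐ[A] R ⊗[A] D))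
    ((IsScalarTower.toAlgHom A (R ⊗[A] D) _).comp Algebra.TensorProduct.includeRight)
    fun _ _ => Commute.all _ _

theorem polyT_X_tmul {R D : Type u} [CommRing R] [Algebra A R] [CommRing D] [Algebra A D] (v : D) :
    polyT R D ((X : R[X]) ⊗ₜ[A] v) = X * Polynomial.C ((1 : R) ⊗ₜ[A] v) := by
  simp [polyT]

theorem polyT_const {R D : Type u} [CommRing R] [Algebra A R] [CommRing D] [Algebra A D]
    (z : R ⊗[A] D) :
    polyT R D (rB D (IsScalarTower.toAlgHom A R R[X]) z) = Polynomial.C z := by
  induction z using TensorProduct.induction_on with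
  | zero => simp
  | add a b ha hb => simp only [map_add, ha, hb]
  | tmul r v =>
    simp [polyT, ← Polynomial.C_mul, Algebra.TensorProduct.tmul_mul_tmul]

theorem eval_one_polyT {R D : Type u} [CommRing R] [Algebra A R] [CommRing D] [Algebra A D]
    (w : R[X] ⊗[A] D) :
    (polyT R D w).eval 1 = rB D ((Polynomial.aeval (1 : R)).restrictScalars A) w := by
  induction w using TensorProduct.induction_on with
  | zero => simp
  | add a b ha hb => simp only [map_add, eval_add, ha, hb]
  | tmul p v =>
    induction p using Polynomial.induction_on' with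
    | add p q hp hq => simp only [TensorProduct.add_tmul, map_add, eval_add, hp, hq]
    | monomial n r =>
      simp [polyT, Polynomial.aeval_monomial, Algebra.TensorProduct.tmul_mul_tmul]

theorem polyT_bc {R D E : Type u} [CommRing R] [Algebra A R] [CommRing D] [Algebra A D]
    [CommRing E] [Algebra A E] (f : D →ₐ[A] E) (w : R[X] ⊗[A] D) :
    polyT R E (bc f R[X] w) =
      Polynomial.mapAlgHom ((bc f R).restrictScalars A) (polyT R D w) := by
  induction w using TensorProduct.induction_on with
  | zero => simp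
  | add a b ha hb => simp only [map_add, ha, hb]
  | tmul p v =>
    induction p using Polynomial.induction_on' with
    | add p q hp hq => simp only [TensorProduct.add_tmul, map_add, hp, hq]
    | monomial n r =>
      simp [polyT, Algebra.TensorProduct.tmul_mul_tmul, ← Polynomial.C_mul]

variable {B Cd Ce : Type u} [CommRing B] [Algebra A B] [CommRing Cd] [Algebra A Cd] [CommRing Ce]
  [Algebra A Ce] {e : ℕ} (γd : MulLaw A B Cd (e + 1)) (γe : MulLaw A B Ce e)
  (ω : Cd ⊗[A] B →ₐ[A] Ce ⊗[A] B)

theorem iversen_surjective (hγe : IsGammaD γe)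
    (hω : ∀ (S : Type u) [CommSemiring S] [Algebra A S] (x y : S ⊗[A] B),
      ω.toLinearMap.lTensor S
        ((Algebra.TensorProduct.includeLeft : Cd →ₐ[A] Cd ⊗[A] B).toLinearMap.lTensor S
            (γd.law.toFun' S x) *
          (Algebra.TensorProduct.includeRight : B →ₐ[A] Cd ⊗[A] B).toLinearMap.lTensor S y) =
      (Algebra.TensorProduct.includeLeft : Ce →ₐ[A] Ce ⊗[A] B).toLinearMap.lTensor S
          (γe.law.toFun' S x) *
        (Algebra.TensorProduct.includeRight : B →ₐ[A] Ce ⊗[A] B).toLinearMap.lTensor S (x * y)) :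
    Function.Surjective ω := by
  let il : Ce →ₐ[A] Ce ⊗[A] B := Algebra.TensorProduct.includeLeft
  let ir : B →ₐ[A] Ce ⊗[A] B := Algebra.TensorProduct.includeRight
  let il' : Cd →ₐ[A] Cd ⊗[A] B := Algebra.TensorProduct.includeLeft
  let ir' : B →ₐ[A] Cd ⊗[A] B := Algebra.TensorProduct.includeRight
  have h : ∀ (S : Type u) [CommRing S] [Algebra A S] (x y : S ⊗[A] B),
      bc ω S (bc il' S (ev γd S x) * bc ir' S y) = bc il S (ev γe S x) * bc ir S (x * y) := by
    intro S _ _ x y
    have h1 := hω S x y
    simp only [lTensor_eq_bc] at h1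
    exact h1
  have hir : ∀ b : B, ω (ir' b) = ir b := by
    intro b
    have h1 := h A 1 ((1 : A) ⊗ₜ[A] b)
    rw [ev_one, ev_one, map_one, map_one, one_mul, one_mul, one_mul, bc_tmul, bc_tmul,
      bc_tmul] at h1
    simpa using congrArg (TensorProduct.lid A (Ce ⊗[A] B)) h1
  have key : ∀ c : Ce, ∃ w, ω w = il c := by
    intro c
    have hc : c ∈ Submodule.span A (coeffs γe) := span_coeffs hγe ▸ trivial
    induction hc using Submodule.span_induction with
    | zero => exact ⟨0, by simp⟩
    | add u v _ _ hu hv =>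
      obtain ⟨a, ha⟩ := hu
      obtain ⟨b, hb⟩ := hv
      exact ⟨a + b, by rw [map_add, map_add, ha, hb]⟩
    | smul a u _ hu =>
      obtain ⟨w, hw⟩ := hu
      exact ⟨a • w, by rw [map_smul, map_smul, hw]⟩
    | mem u hu =>
      obtain ⟨σ, μ, z, rfl⟩ := hu
      let R := MvPolynomial σ A
      let L := (bc ω R).range
      let cst : R →ₐ[A] R[X] := IsScalarTower.toAlgHom A R R[X]
      let x : R[X] ⊗[A] B := 1 + ((X : R[X]) ⊗ₜ[A] (1 : B)) * rB B cst (z - 1)
      let P := polyT R (Ce ⊗[A] B) (bc il R[X] (ev γe R[X] x))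
      let u := bc ir R (z - 1)
      have hu : u ∈ L := by
        refine ⟨bc ir' R (z - 1), ?_⟩
        show bc ω R (bc ir' R (z - 1)) = _
        rw [bc_bc, show ω.comp ir' = ir from AlgHom.ext hir]
      have hPu : P * (1 + X * Polynomial.C u) =
          Polynomial.mapAlgHom ((bc ω R).restrictScalars A)
            (polyT R (Cd ⊗[A] B) (bc il' R[X] (ev γd R[X] x))) := by
        have h1 := congrArg (polyT R (Ce ⊗[A] B)) (h R[X] x 1)
        rw [map_one, mul_one, mul_one, polyT_bc, map_mul] at h1
        rw [h1]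
        congr 1
        simp only [x, map_add, map_one, map_mul, bc_tmul, polyT_X_tmul, ← bc_rB, cst, polyT_const,
          u]
        simp [← Algebra.TensorProduct.one_def]
      have hP : ∀ k, P.coeff k ∈ L := by
        intro k
        have hQ : ∀ k, (P * (1 + X * Polynomial.C u)).coeff k ∈ L := by
          intro k
          rw [hPu, Polynomial.coe_mapAlgHom, Polynomial.coeff_map]
          exact ⟨_, rfl⟩
        induction k with
        | zero => simpa [Polynomial.mul_coeff_zero] using hQ 0
        | succ k ih =>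
          have h1 := hQ (k + 1)
          rw [mul_add, mul_one, coeff_add, ← mul_assoc, coeff_mul_C, coeff_mul_X] at h1
          have h2 := sub_mem h1 (mul_mem ih hu)
          rwa [add_sub_cancel_right] at h2
      have h1 : P.eval 1 ∈ L := by
        rw [Polynomial.eval_eq_sum_range]
        exact sum_mem fun k _ => mul_mem (hP k) (pow_mem (one_mem _) _)
      let q : R[X] →ₐ[A] R := (Polynomial.aeval (1 : R)).restrictScalars A
      have hqx : rB B q x = z := by
        have hq : q.comp cst = AlgHom.id A R := AlgHom.ext fun r => by simp [q, cst]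
        simp only [x, map_add, map_one, map_mul, rB_tmul, rB_rB, hq, rB_id]
        rw [show q X = 1 from by simp [q], ← Algebra.TensorProduct.one_def, one_mul]
        abel
      rw [eval_one_polyT, bc_rB, ev_nat, hqx] at h1
      obtain ⟨w, hw⟩ := h1
      refine ⟨cf μ w, ?_⟩
      rw [← cf_bc, ← cf_bc]
      exact congrArg (cf μ) hw
  intro t
  induction t using TensorProduct.induction_on with
  | zero => exact ⟨0, map_zero _⟩
  | add a b ha hb =>
    obtain ⟨u, rfl⟩ := ha
    obtain ⟨v, rfl⟩ := hb
    exact ⟨u + v, map_add _ _ _⟩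
  | tmul c b =>
    obtain ⟨w, hw⟩ := key c
    refine ⟨w * ir' b, ?_⟩
    rw [map_mul, hw, hir]
    simp [il, ir, Algebra.TensorProduct.tmul_mul_tmul]

end Groth.Agent.PolLib
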