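import Groth.Agent.PolLib.Polar
import Groth.Prelude.Def_PolLaw2
import Mathlib.RingTheory.Norm.Basic
import Mathlib.Algebra.BigOperators.Ring.Finset

/-! The norm as the value of a character of symmetric tensors. -/

universe u

open scoped TensorProduct

namespace Groth.Agent.PolLib

open PolLaw

variable {A : Type u} [CommRing A] {R : Type u} [CommRing R] [Algebra A R]

/-- Polarisation by inclusion and exclusion. -/
theorem symmSum_tprod_mem_span (n : ℕ) (p : Fin n → R) :
    symmSum A R n (PiTensorProduct.tprod A p) ∈
      Submodule.span A (Set.range fun r : R => SymTen.tpow A R n r) := by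
  classical
  have key : symmSum A R n (PiTensorProduct.tprod A p) =
      ∑ T ∈ (Finset.univ : Finset (Fin n)).powerset,
        ((-1 : A) ^ T.card) • SymTen.tpow A R n (∑ i ∈ Finset.univ \ T, p i) := by
    refine Subtype.val_injective ?_
    rw [← Subalgebra.coe_val, val_symmSum, map_sum]
    have h1 : ∀ T : Finset (Fin n), (SymTen.TS A R n).val
        (((-1 : A) ^ T.card) • SymTen.tpow A R n (∑ i ∈ Finset.univ \ T, p i)) =
        ∑ c : Fin n → Fin n, if (∀ i, c i ∉ T) then
          ((-1 : A) ^ T.card) • PiTensorProduct.tprod A (fun i => p (c i)) else 0 := by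
      intro T
      rw [map_smul]
      show (-1 : A) ^ T.card • PiTensorProduct.tprod A (fun _ : Fin n => ∑ i ∈ Finset.univ \ T, p i) = _
      rw [MultilinearMap.map_sum_finset, ← Finset.sum_filter, Finset.smul_sum]
      refine Finset.sum_congr (Finset.ext fun c => ?_) fun _ _ => rfl
      simp [Fintype.mem_piFinset]
    simp only [h1]
    rw [Finset.sum_comm]
    have h2 : ∀ c : Fin n → Fin n,
        (∑ T ∈ (Finset.univ : Finset (Fin n)).powerset, if (∀ i, c i ∉ T) then
          ((-1 : A) ^ T.card) • PiTensorProduct.tprod A (fun i => p (c i)) else 0) =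
        if Function.Surjective c then PiTensorProduct.tprod A (fun i => p (c i)) else 0 := by
      intro c
      rw [← Finset.sum_filter, ← Finset.sum_smul]
      have hset : (Finset.univ : Finset (Fin n)).powerset.filter (fun T => ∀ i, c i ∉ T) =
          ((Finset.univ : Finset (Fin n)) \ Finset.univ.image c).powerset := by
        ext T
        rw [Finset.mem_filter, Finset.mem_powerset, Finset.mem_powerset]
        constructor
        · rintro ⟨-, h⟩ x hx
          refine Finset.mem_sdiff.mpr ⟨Finset.mem_univ x, fun hx' => ?_⟩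
          obtain ⟨i, -, rfl⟩ := Finset.mem_image.mp hx'
          exact h i hx
        · intro h
          exact ⟨Finset.subset_univ T, fun i hi =>
            (Finset.mem_sdiff.mp (h hi)).2 (Finset.mem_image_of_mem c (Finset.mem_univ i))⟩
      rw [hset]
      have hz : (∑ T ∈ ((Finset.univ : Finset (Fin n)) \ Finset.univ.image c).powerset,
          (-1 : A) ^ T.card) =
          ((∑ T ∈ ((Finset.univ : Finset (Fin n)) \ Finset.univ.image c).powerset,
            (-1 : ℤ) ^ T.card : ℤ) : A) := by
        push_cast; rfl
      rw [hz, Finset.sum_powerset_neg_one_pow_card]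
      by_cases hs : Function.Surjective c
      · rw [if_pos hs, if_pos (by simp [Finset.sdiff_eq_empty_iff_subset, Finset.subset_iff, hs _]),
          Int.cast_one, one_smul]
      · rw [if_neg hs, if_neg (fun h => hs fun x => by
          simpa using Finset.sdiff_eq_empty_iff_subset.mp h (Finset.mem_univ x)),
          Int.cast_zero, zero_smul]
    simp only [h2]
    rw [← Finset.sum_filter]
    simp only [PiTensorProduct.reindex_tprod]
    refine Finset.sum_nbij (fun σ : Equiv.Perm (Fin n) => (σ.symm : Fin n → Fin n)) ?_ ?_ ?_ ?_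
    · intro σ _
      exact Finset.mem_filter.mpr ⟨Finset.mem_univ _, σ.symm.surjective⟩
    · intro σ _ τ _ h
      exact Equiv.symm_bijective.injective (Equiv.ext (congrFun h))
    · intro c hc
      have hb : Function.Bijective c :=
        ⟨Finite.injective_iff_surjective.mpr (Finset.mem_filter.mp hc).2, (Finset.mem_filter.mp hc).2⟩
      exact ⟨(Equiv.ofBijective c hb).symm, Finset.mem_coe.mpr (Finset.mem_univ _), rfl⟩
    · intro σ _
      rfl
  rw [key]
  exact Submodule.sum_mem _ fun T _ => Submodule.smul_mem _ _ (Submodule.subset_span ⟨_, rfl⟩)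

theorem span_tpow_eq_top (n : ℕ) (hfact : IsUnit ((n.factorial : ℕ) : A)) :
    Submodule.span A (Set.range fun r : R => SymTen.tpow A R n r) = ⊤ := by
  rw [eq_top_iff]
  intro t _
  have h : symmSum A R n t.1 ∈ Submodule.span A (Set.range fun r : R => SymTen.tpow A R n r) := by
    generalize t.1 = z
    induction z using PiTensorProduct.induction_on with
    | smul_tprod r f =>
      rw [map_smul]
      exact Submodule.smul_mem _ _ (symmSum_tprod_mem_span n f)
    | add x y hx hy => rw [map_add]; exact Submodule.add_mem _ hx hy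
  rw [symmSum_of_mem, ← Nat.cast_smul_eq_nsmul A] at h
  have h2 := Submodule.smul_mem _ (↑hfact.unit⁻¹ : A) h
  rwa [smul_smul, IsUnit.val_inv_mul, one_smul] at h2

theorem existsUnique_norm_char [Module.Free A R] [Module.Finite A R] (n : ℕ)
    (hn : Module.finrank A R = n) (hfact : IsUnit ((n.factorial : ℕ) : A)) :
    ∃! φ : SymTen.TS A R n →ₐ[A] A, ∀ r : R, φ (SymTen.tpow A R n r) = Algebra.norm A r := by
  classical
  let b := Module.Free.chooseBasis A R
  let φ := classHom n b (normLaw A R n hn)
  have hφ : ∀ r : R, φ (SymTen.tpow A R n r) = Algebra.norm A r := by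
    intro r
    have h1 : ev (tau n b) A ((1 : A) ⊗ₜ[A] r) = (1 : A) ⊗ₜ[A] SymTen.tpow A R n r := by
      refine retr_lTensor_injective b A ?_
      rw [val_tau, bc_tmul]
      have e : (1 : A) ⊗ₜ[A] r = ∑ _j : Fin 1, (1 : A) ⊗ₜ[A] r := by simp
      rw [e, tpowLaw_sum, Fintype.sum_unique]
      simp only [Finset.prod_const_one]
      rfl
    have h2 := classHom_tau n b (normLaw A R n hn) A ((1 : A) ⊗ₜ[A] r)
    rw [h1, bc_tmul] at h2
    have h3 := congrArg (TensorProduct.lid A A) (h2.trans (normLaw_apply A R n hn A _))
    rw [TensorProduct.lid_tmul, TensorProduct.lid_tmul, one_smul, smul_eq_mul, mul_one] at h3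
    show φ _ = _
    rw [h3, ← Algebra.norm_eq_of_algEquiv (Algebra.TensorProduct.lid A R).symm r]
    rfl
  refine ⟨φ, hφ, fun ψ hψ => AlgHom.ext fun t => ?_⟩
  have ht : t ∈ Submodule.span A (Set.range fun r : R => SymTen.tpow A R n r) :=
    span_tpow_eq_top (A := A) (R := R) n hfact ▸ trivial
  induction ht using Submodule.span_induction with
  | zero => simp
  | add u v _ _ hu hv => rw [map_add, map_add, hu, hv]
  | smul a u _ hu => rw [map_smul, map_smul, hu]
  | mem u hu =>
    obtain ⟨r, rfl⟩ := hu
    exact (hψ r).trans (hφ r).symm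

end Groth.Agent.PolLib
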