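import Groth.Agent.PolLib.Chi
import Groth.Agent.PolLib.Finite
import Mathlib.FieldTheory.IsAlgClosed.Basic
import Mathlib.RingTheory.Ideal.GoingUp

/-! Kernels over polynomial rings and geometric points of a multiplicative law. -/

universe u v w

open scoped TensorProduct

namespace Groth.Agent.PolLib

open PolLaw Polynomial

variable {A : Type u} [CommRing A] {B : Type u} [CommRing B] [Algebra A B]
  {C : Type u} [CommRing C] [Algebra A C] {d : ℕ}

theorem evl_add_of_X_mul_mem (F : MulLaw A B C d) {z : A[X] ⊗[A] B}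
    (hz : (X ⊗ₜ[A] 1) * z ∈ PolLaw.kerBC F.law A[X]) {R : Type u} [CommRing R] [Algebra A R]
    (g : C →ₐ[A] R) (i : A[X] →ₐ[A] R) (ht : ∀ (m : ℕ) (r : R), r * i X ^ m = 0 → r = 0)
    (x w : R ⊗[A] B) : evl F g (x + w * rB B i z) = evl F g x := by
  let cst : R →ₐ[A] R[X] := IsScalarTower.toAlgHom A R R[X]
  let σ : R[X] →ₐ[A] R[X] := (Polynomial.aeval (Polynomial.C (i X) * X : R[X])).restrictScalars A
  let e₁ : R[X] →ₐ[A] R := (Polynomial.aeval (1 : R)).restrictScalars A
  have hσc : σ.comp cst = cst := AlgHom.ext fun r => by simp [σ, cst]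
  have he : e₁.comp cst = AlgHom.id A R := AlgHom.ext fun r => by simp [e₁, cst]
  let v := w * rB B i z
  let G : R[X] := evl F (cst.comp g) (rB B cst x + (X : R[X]) • rB B cst v)
  have hσG : σ G = Polynomial.C (evl F g x) := by
    have h0 := evl_nat' F (cst.comp g) σ (g' := cst.comp g) (by rw [← AlgHom.comp_assoc, hσc])
      (rB B cst x + (X : R[X]) • rB B cst v)
    rw [map_add, rB_smul, rB_rB, rB_rB, hσc] at h0
    have hsplit : ∀ r : R[X], r ⊗ₜ[A] (1 : B) = r • (1 : R[X] ⊗[A] B) := fun r => by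
      rw [Algebra.TensorProduct.one_def, TensorProduct.smul_tmul', smul_eq_mul, mul_one]
    have h2 : σ X • rB B cst v =
        ((X : R[X]) • rB B cst w) * rB B (cst.comp i) ((X ⊗ₜ[A] 1) * z) := by
      rw [show σ X = (cst (i X)) * X from by simp [σ, cst]]
      simp only [v, map_mul, rB_rB, rB_tmul, AlgHom.comp_apply]
      rw [hsplit, Algebra.smul_mul_assoc (X : R[X]), Algebra.smul_mul_assoc (cst (i X)), one_mul,
        mul_smul_comm, smul_smul, mul_comm X]
    rw [h2, evl_add_of_mem_kerBC F hz] at h0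
    exact h0.symm.trans (evl_nat F g cst x)
  have hG : G = Polynomial.C (evl F g x) := by
    refine Polynomial.ext fun m => ?_
    have h := congrArg (Polynomial.coeff · m) hσG
    have hco : (σ G).coeff m = G.coeff m * i X ^ m := by
      show (Polynomial.aeval (Polynomial.C (i X) * X : R[X]) G).coeff m = _
      rw [← Polynomial.comp_eq_aeval, Polynomial.comp_C_mul_X_coeff]
    simp only [hco] at h
    cases m with
    | zero => simpa using h
    | succ m =>
      rw [Polynomial.coeff_C_succ] at h ⊢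
      exact ht _ _ h
  have h1 := evl_nat' F (cst.comp g) e₁ (g' := g) (by rw [← AlgHom.comp_assoc, he, AlgHom.id_comp])
    (rB B cst x + (X : R[X]) • rB B cst v)
  rw [map_add, rB_smul, rB_rB, rB_rB, he, rB_id, rB_id] at h1
  simp only [e₁, AlgHom.restrictScalars_apply, aeval_X, one_smul] at h1
  refine h1.trans ?_
  show Polynomial.aeval (1 : R) G = _
  rw [hG, Polynomial.aeval_C]
  rfl

theorem mem_kerBC_polynomial_of_X_mul (F : MulLaw A B C d) {z : A[X] ⊗[A] B}
    (hz : (X ⊗ₜ[A] 1) * z ∈ PolLaw.kerBC F.law A[X]) : z ∈ PolLaw.kerBC F.law A[X] := by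
  refine mem_kerBC_of_evl F fun R _ _ i g x w => ?_
  obtain ⟨n, ψ, x₀, w₀, rfl, rfl⟩ := exists_lift₂ R x w
  let inC : C →ₐ[A] MvPolynomial (Fin n) C[X] :=
    (IsScalarTower.toAlgHom A C[X] _).comp (IsScalarTower.toAlgHom A C C[X])
  let inT : A[X] →ₐ[A] MvPolynomial (Fin n) C[X] :=
    (IsScalarTower.toAlgHom A C[X] _).comp (Polynomial.mapAlgHom (Algebra.ofId A C))
  let inV : MvPolynomial (Fin n) A →ₐ[A] MvPolynomial (Fin n) C[X] :=
    MvPolynomial.aeval MvPolynomial.X
  let θ₁ : C[X] →ₐ[A] R := AlgHom.mk (Polynomial.eval₂RingHom g.toRingHom (i X)) (fun a => by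
    show Polynomial.eval₂ g.toRingHom (i X) (algebraMap A C[X] a) = _
    rw [Polynomial.algebraMap_apply, Polynomial.eval₂_C]
    exact g.commutes a)
  let θ : MvPolynomial (Fin n) C[X] →ₐ[A] R :=
    AlgHom.mk (MvPolynomial.eval₂Hom θ₁.toRingHom fun k => ψ (MvPolynomial.X k)) (fun a => by
      show MvPolynomial.eval₂Hom θ₁.toRingHom _ (MvPolynomial.C (algebraMap A C[X] a)) = _
      rw [MvPolynomial.eval₂Hom_C]
      exact θ₁.commutes a)
  have hθT : θ.comp inT = i := Polynomial.algHom_ext (by simp [θ, θ₁, inT])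
  have hθC : θ.comp inC = g := AlgHom.ext fun c => by simp [θ, θ₁, inC]
  have hθV : θ.comp inV = ψ := MvPolynomial.algHom_ext fun k => by simp [θ, inV]
  have ht : ∀ (m : ℕ) (r : MvPolynomial (Fin n) C[X]), r * inT X ^ m = 0 → r = 0 := by
    intro m r hr
    refine MvPolynomial.ext _ _ fun e => ?_
    have h1 : inT X ^ m = MvPolynomial.C ((X : C[X]) ^ m) := by
      rw [map_pow]; simp [inT]
    rw [h1, mul_comm] at hr
    have h2 := congrArg (MvPolynomial.coeff e) hr
    rw [MvPolynomial.coeff_C_mul, MvPolynomial.coeff_zero] at h2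
    rw [MvPolynomial.coeff_zero]
    exact (Polynomial.monic_X_pow m).mul_right_eq_zero_iff.mp h2
  have h1 := congrArg θ (evl_add_of_X_mul_mem F hz inC inT ht (rB B inV x₀) (rB B inV w₀))
  rw [← evl_nat' F inC θ hθC, ← evl_nat' F inC θ hθC] at h1
  simpa only [map_add, map_mul, rB_rB, hθV, hθT] using h1

theorem mem_map_ker_of_mem_kerBC_polynomial (F : MulLaw A B C d) {z : A[X] ⊗[A] B}
    (hz : z ∈ PolLaw.kerBC F.law A[X]) :
    z ∈ (PolLaw.ker F.law).map (Algebra.TensorProduct.includeRight : B →ₐ[A] A[X] ⊗[A] B) := by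
  have hform : ∃ (N : ℕ) (c : ℕ → B), z = ∑ k ∈ Finset.range N, (X ^ k : A[X]) ⊗ₜ[A] c k := by
    clear hz
    induction z using TensorProduct.induction_on with
    | zero => exact ⟨0, 0, by simp⟩
    | add a b ha hb =>
      obtain ⟨N, c, rfl⟩ := ha
      obtain ⟨N', c', rfl⟩ := hb
      refine ⟨max N N', fun k => (if k < N then c k else 0) + (if k < N' then c' k else 0), ?_⟩
      simp only [TensorProduct.tmul_add, Finset.sum_add_distrib]
      congr 1 <;>
      · refine Finset.sum_subset_zero_on_sdiff ?_ ?_ ?_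
        · intro k hk; simp only [Finset.mem_range] at hk ⊢; omega
        · intro k hk; simp only [Finset.mem_sdiff, Finset.mem_range] at hk
          rw [if_neg hk.2, TensorProduct.tmul_zero]
        · intro k hk; rw [if_pos (Finset.mem_range.mp hk)]
    | tmul p b =>
      refine ⟨p.natDegree + 1, fun k => p.coeff k • b, ?_⟩
      conv_lhs => rw [p.as_sum_range_C_mul_X_pow]
      rw [TensorProduct.sum_tmul]
      exact Finset.sum_congr rfl fun k _ => by
        rw [TensorProduct.tmul_smul, TensorProduct.smul_tmul', Polynomial.C_mul']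
  obtain ⟨N, c, rfl⟩ := hform
  induction N generalizing c with
  | zero => simp
  | succ N ih =>
    rw [Finset.sum_range_succ'] at hz ⊢
    have hc : c 0 ∈ PolLaw.ker F.law := by
      rw [mem_ker_iff_evl]
      intro R _ _ g x w
      have := evl_add_of_mem_kerBC F hz ((Polynomial.aeval (0 : R)).restrictScalars A) g x w
      simpa using this
    have h0 : (X ^ 0 : A[X]) ⊗ₜ[A] c 0 ∈
        (PolLaw.ker F.law).map (Algebra.TensorProduct.includeRight : B →ₐ[A] A[X] ⊗[A] B) := by
      rw [pow_zero]; exact Ideal.mem_map_of_mem _ hc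
    refine Ideal.add_mem _ ?_ h0
    have h2 := (PolLaw.kerBC F.law A[X]).sub_mem hz (map_ker_le_kerBC F A[X] h0)
    rw [add_sub_cancel_right] at h2
    have e : ∑ k ∈ Finset.range N, (X ^ (k + 1) : A[X]) ⊗ₜ[A] c (k + 1) =
        (X ⊗ₜ[A] 1) * ∑ k ∈ Finset.range N, (X ^ k : A[X]) ⊗ₜ[A] c (k + 1) := by
      rw [Finset.mul_sum]
      simp [Algebra.TensorProduct.tmul_mul_tmul, pow_succ']
    rw [e] at h2 ⊢
    exact Ideal.mul_mem_left _ _ (ih _ (mem_kerBC_polynomial_of_X_mul F h2))

theorem map_ker_eq_kerBC_polynomial (F : MulLaw A B C d) :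
    (PolLaw.ker F.law).map (Algebra.TensorProduct.includeRight : B →ₐ[A] A[X] ⊗[A] B) =
      PolLaw.kerBC F.law A[X] :=
  le_antisymm (map_ker_le_kerBC F _) fun _ => mem_map_ker_of_mem_kerBC_polynomial F

theorem exists_ringHom_ext_of_isIntegral {S T K : Type*} [CommRing S] [CommRing T] [Algebra S T]
    [Algebra.IsIntegral S T] [Field K] [IsAlgClosed K] (f : S →+* K)
    (h : RingHom.ker (algebraMap S T) ≤ RingHom.ker f) :
    ∃ g : T →+* K, g.comp (algebraMap S T) = f := by
  have : (RingHom.ker f).IsPrime := RingHom.ker_isPrime f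
  obtain ⟨Q, -, hQ, hQf⟩ := Ideal.exists_ideal_over_prime_of_isIntegral (RingHom.ker f)
    (⊥ : Ideal T) (by simpa [RingHom.ker_eq_comap_bot] using h)
  have : Q.LiesOver (RingHom.ker f) := ⟨hQf.symm⟩
  let _ : Algebra (S ⧸ RingHom.ker f) K := (RingHom.kerLift f).toAlgebra
  have hinj : Function.Injective (algebraMap (S ⧸ RingHom.ker f) K) := RingHom.kerLift_injective f
  have : Module.IsTorsionFree (S ⧸ RingHom.ker f) K := by
    exact Module.isTorsionFree_iff_algebraMap_injective.mpr hinj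
  have : Algebra.IsIntegral (S ⧸ RingHom.ker f) (T ⧸ Q) := inferInstance
  have : Module.IsTorsionFree (S ⧸ RingHom.ker f) (T ⧸ Q) := by
    exact Module.isTorsionFree_iff_algebraMap_injective.mpr
      (FaithfulSMul.algebraMap_injective _ _)
  let e : (T ⧸ Q) →ₐ[S ⧸ RingHom.ker f] K := IsAlgClosed.lift
  refine ⟨e.toRingHom.comp (Ideal.Quotient.mk Q), RingHom.ext fun s => ?_⟩
  exact e.commutes (Ideal.Quotient.mk _ s)

variable {K : Type u} [Field K] [Algebra A K]

theorem exists_points [IsAlgClosed K] (F : MulLaw A B C d) (g : C →ₐ[A] K) :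
    ∃ x : Fin d → (B →ₐ[A] K), ∀ (R : Type u) [CommRing R] [Algebra A R] (j : K →ₐ[A] R)
      (z : R ⊗[A] B), evl F (j.comp g) z = ∏ i, mu (j.comp (x i)) z := by
  classical
  let b := MvPolynomial.basisMonomials B A
  let π := cover A B
  let φ := classHom d b (MulLaw.precomp F π)
  have := isIntegral_over_TS A (MvPolynomial B A) d
  obtain ⟨h, hh⟩ := exists_ringHom_ext_of_isIntegral (T := ⨂[A] _ : Fin d, MvPolynomial B A)
    (g.comp φ).toRingHom (fun s hs => by
      have : s = 0 := Subtype.val_injective hs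
      simp [this])
  let H : (⨂[A] _ : Fin d, MvPolynomial B A) →ₐ[A] K :=
    AlgHom.mk h (fun a => by
      show h (algebraMap A _ a) = algebraMap A K a
      rw [← (g.comp φ).commutes a]
      exact DFunLike.congr_fun hh (algebraMap A (SymTen.TS A (MvPolynomial B A) d) a))
  have hH : H.comp (SymTen.TS A (MvPolynomial B A) d).val = g.comp φ :=
    AlgHom.ext fun s => DFunLike.congr_fun hh s
  let xP : Fin d → (MvPolynomial B A →ₐ[A] K) := fun i =>
    H.comp (PiTensorProduct.singleAlgHom (R := A) (A := fun _ : Fin d => MvPolynomial B A) i)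
  have key : ∀ (R : Type u) [CommRing R] [Algebra A R] (j : K →ₐ[A] R)
      (z : R ⊗[A] MvPolynomial B A),
      evl F (j.comp g) (bc π R z) = ∏ i, mu (j.comp (xP i)) z := by
    intro R _ _ j z
    rw [evl, ← ev_precomp, ← classHom_tau d b (MulLaw.precomp F π), mu_bc, AlgHom.comp_assoc, ← hH,
      ← AlgHom.comp_assoc, ← mu_bc, val_tau, SymTen.tpowLaw, MulLaw.prodMap_toFun', map_prod]
    refine Finset.prod_congr rfl fun i _ => ?_
    rw [show ∀ f y, Algebra.TensorProduct.map (AlgHom.id R R) f y = bc f R y from fun _ _ => rfl,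
      mu_bc, AlgHom.comp_assoc]
  have hkill : ∀ q, π q = 0 → ∀ i, xP i q = 0 := by
    intro q hq i
    have h1 := key K[X] (IsScalarTower.toAlgHom A K K[X]) (1 + (X : K[X]) ⊗ₜ[A] q)
    rw [map_add, map_one, bc_tmul, hq, TensorProduct.tmul_zero, add_zero, evl_one] at h1
    have h2 : IsUnit (∏ k, mu ((IsScalarTower.toAlgHom A K K[X]).comp (xP k))
        (1 + (X : K[X]) ⊗ₜ[A] q)) := h1 ▸ isUnit_one
    have h3 := IsUnit.prod_iff.mp h2 i (Finset.mem_univ i)
    simp only [map_add, map_one, mu_tmul, AlgHom.comp_apply, IsScalarTower.coe_toAlgHom',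
      Polynomial.algebraMap_apply, Algebra.algebraMap_self, RingHom.id_apply] at h3
    have h4 := Polynomial.natDegree_eq_zero_of_isUnit h3
    by_contra hne
    rw [add_comm, ← Polynomial.C_1, Polynomial.natDegree_add_C, mul_comm,
      Polynomial.natDegree_C_mul hne, Polynomial.natDegree_X] at h4
    exact one_ne_zero h4
  refine ⟨fun i => AlgHom.liftOfSurjective π (cover_surjective A B) (xP i)
      (fun q hq => hkill q hq i), fun R _ _ j z => ?_⟩
  obtain ⟨z, rfl⟩ := bc_surjective (cover_surjective A B) z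
  rw [key]
  refine Finset.prod_congr rfl fun i _ => ?_
  rw [mu_bc, AlgHom.comp_assoc]
  congr 2
  exact AlgHom.ext fun p => by simp [π]

theorem charX_eq_prod (F : MulLaw A B C d) (g : C →ₐ[A] K) (x : Fin d → (B →ₐ[A] K))
    (hx : ∀ (R : Type u) [CommRing R] [Algebra A R] (j : K →ₐ[A] R) (z : R ⊗[A] B),
      evl F (j.comp g) z = ∏ i, mu (j.comp (x i)) z)
    {R : Type u} [CommRing R] [Algebra A R] (j : K →ₐ[A] R) (β : R ⊗[A] B) :
    charX F (j.comp g) β = ∏ i, (Polynomial.C (mu (j.comp (x i)) β) - X) := by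
  rw [charX, gX, ← AlgHom.comp_assoc, hx]
  refine Finset.prod_congr rfl fun i _ => ?_
  rw [map_sub, mu_tmul, map_one, mul_one, AlgHom.comp_assoc, mu_rB]
  rfl

variable {F : MulLaw A B A d} {x : Fin d → (B →ₐ[A] K)}
  (hx : ∀ (R : Type u) [CommRing R] [Algebra A R] (j : K →ₐ[A] R) (z : R ⊗[A] B),
    evl F (j.comp (Algebra.ofId A K)) z = ∏ i, mu (j.comp (x i)) z)

include hx in
theorem point_kills_ker {b : B} (hb : b ∈ PolLaw.ker F.law) (i : Fin d) : x i b = 0 := by
  have h1 := charX_of_mem_kerBC F (Algebra.ofId A K)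
    (map_ker_le_kerBC F A (Ideal.mem_map_of_mem _ hb)) (Algebra.ofId A K)
  have h2 := charX_eq_prod F (Algebra.ofId A K) x hx (AlgHom.id A K)
    (rB B (Algebra.ofId A K) ((1 : A) ⊗ₜ[A] b))
  rw [AlgHom.id_comp] at h2
  have h3 := congrArg (Polynomial.eval (x i b)) (h1.symm.trans h2)
  rw [Polynomial.eval_prod, Finset.prod_eq_zero (Finset.mem_univ i) (by simp)] at h3
  simp only [Polynomial.eval_pow, Polynomial.eval_neg, Polynomial.eval_X] at h3
  exact neg_eq_zero.mp (eq_zero_of_pow_eq_zero h3)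

include hx in
theorem point_eq_of_kills_ker (y : B →ₐ[A] K) (hy : ∀ b ∈ PolLaw.ker F.law, y b = 0) :
    ∃ i, y = x i := by
  classical
  by_contra hne
  simp only [not_exists, AlgHom.ext_iff, not_forall] at hne
  choose b hb using hne
  let L : A[X] ⊗[A] B := ∑ k : Fin d, (X ^ (k : ℕ) : A[X]) ⊗ₜ[A] b k
  let θ : A[X] →ₐ[A] K[X] := Polynomial.mapAlgHom (Algebra.ofId A K)
  let Y : A[X] ⊗[A] B →ₐ[A] K[X] := Algebra.TensorProduct.lift θ
    ((IsScalarTower.toAlgHom A K K[X]).comp y) fun _ _ => Commute.all _ _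
  let gA : A →ₐ[A] A[X] := Algebra.ofId A A[X]
  have hL : aeval L (charX F gA L) ∈ PolLaw.kerBC F.law A[X] := by
    refine mem_kerBC_of_evl F fun R _ _ i g u w => ?_
    rw [rB_aeval, ← charX_nat F gA i (Subsingleton.elim _ g)]
    exact evl_cayleyHamilton F g _ u w
  have hY : Y (aeval L (charX F gA L)) = 0 := by
    have h1 := mem_map_ker_of_mem_kerBC_polynomial F hL
    suffices h2 : (PolLaw.ker F.law).map
        (Algebra.TensorProduct.includeRight : B →ₐ[A] A[X] ⊗[A] B) ≤ RingHom.ker Y from h2 h1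
    rw [Ideal.map_le_iff_le_comap]
    intro c hc
    simp [Y, hy c hc]
  have hmap : (charX F gA L).map θ.toRingHom =
      ∏ i, (Polynomial.C (mu ((IsScalarTower.toAlgHom A K K[X]).comp (x i)) (rB B θ L)) - X) := by
    rw [← charX_nat F gA θ (Subsingleton.elim _ ((IsScalarTower.toAlgHom A K K[X]).comp
      (Algebra.ofId A K)))]
    exact charX_eq_prod F _ x hx _ _
  rw [aeval_def, ← AlgHom.coe_toRingHom, Polynomial.hom_eval₂] at hY
  have hc : Y.toRingHom.comp (algebraMap A[X] (A[X] ⊗[A] B)) = θ.toRingHom :=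
    RingHom.ext fun p => by simp [Y, Algebra.TensorProduct.algebraMap_apply]
  erw [hc] at hY
  rw [← Polynomial.eval_map, hmap, Polynomial.eval_prod, Finset.prod_eq_zero_iff] at hY
  obtain ⟨i, -, hi⟩ := hY
  simp only [Polynomial.eval_sub, Polynomial.eval_C, Polynomial.eval_X, sub_eq_zero] at hi
  have h4 := congrArg (Polynomial.coeff · (i : ℕ)) hi
  simp [L, Y, θ, map_sum, Polynomial.coeff_X_pow, Fin.val_inj] at h4
  exact hb i h4.symm

end Groth.Agent.PolLib
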