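import Groth.Agent.PolLib.Idem

/-! A law on a product of algebras over a connected base is a product of laws. -/

universe u

open scoped TensorProduct

namespace Groth.Agent.PolLib

open PolLaw Polynomial

variable {A : Type u} [CommRing A] {B₁ : Type u} [CommRing B₁] [Algebra A B₁]
  {B₂ : Type u} [CommRing B₂] [Algebra A B₂]

section
variable {S : Type u} [CommSemiring S] [Algebra A S]

local notation "i₁" => LinearMap.lTensor S (LinearMap.inl A B₁ B₂)
local notation "i₂" => LinearMap.lTensor S (LinearMap.inr A B₁ B₂)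
local notation "e₁" => ((1 : S) ⊗ₜ[A] ((1, 0) : B₁ × B₂))
local notation "e₂" => ((1 : S) ⊗ₜ[A] ((0, 1) : B₁ × B₂))

theorem inl_mul (x y : S ⊗[A] B₁) : i₁ (x * y) = i₁ x * i₁ y := by
  induction x using TensorProduct.induction_on with
  | zero => simp
  | add a b ha hb => simp only [add_mul, map_add, ha, hb]
  | tmul s a =>
    induction y using TensorProduct.induction_on with
    | zero => simp
    | add a b ha hb => simp only [mul_add, map_add, ha, hb]
    | tmul t c => simp [Algebra.TensorProduct.tmul_mul_tmul, Prod.mk_zero_zero]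

theorem inr_mul (x y : S ⊗[A] B₂) : i₂ (x * y) = i₂ x * i₂ y := by
  induction x using TensorProduct.induction_on with
  | zero => simp
  | add a b ha hb => simp only [add_mul, map_add, ha, hb]
  | tmul s a =>
    induction y using TensorProduct.induction_on with
    | zero => simp
    | add a b ha hb => simp only [mul_add, map_add, ha, hb]
    | tmul t c => simp [Algebra.TensorProduct.tmul_mul_tmul, Prod.mk_zero_zero]

theorem inl_e₁ (x : S ⊗[A] B₁) : i₁ x * e₁ = i₁ x := by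
  induction x using TensorProduct.induction_on with
  | zero => simp
  | add a b ha hb => simp only [map_add, add_mul, ha, hb]
  | tmul s a => simp [Algebra.TensorProduct.tmul_mul_tmul, Prod.mk_zero_zero]

theorem inr_e₂ (x : S ⊗[A] B₂) : i₂ x * e₂ = i₂ x := by
  induction x using TensorProduct.induction_on with
  | zero => simp
  | add a b ha hb => simp only [map_add, add_mul, ha, hb]
  | tmul s a => simp [Algebra.TensorProduct.tmul_mul_tmul, Prod.mk_zero_zero]

theorem inl_e₂ (x : S ⊗[A] B₁) : i₁ x * e₂ = 0 := by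
  induction x using TensorProduct.induction_on with
  | zero => simp
  | add a b ha hb => simp only [map_add, add_mul, ha, hb, add_zero]
  | tmul s a => simp [Algebra.TensorProduct.tmul_mul_tmul, Prod.mk_zero_zero]

theorem inr_e₁ (x : S ⊗[A] B₂) : i₂ x * e₁ = 0 := by
  induction x using TensorProduct.induction_on with
  | zero => simp
  | add a b ha hb => simp only [map_add, add_mul, ha, hb, add_zero]
  | tmul s a => simp [Algebra.TensorProduct.tmul_mul_tmul, Prod.mk_zero_zero]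

theorem inl_inr (x : S ⊗[A] B₁) (y : S ⊗[A] B₂) : i₁ x * i₂ y = 0 := by
  rw [← inl_e₁ x, mul_assoc, mul_comm e₁, inr_e₁, mul_zero]

theorem e₁_e₁ : e₁ * e₁ = e₁ := by simp [Algebra.TensorProduct.tmul_mul_tmul, Prod.mk_zero_zero]

theorem e₂_e₂ : e₂ * e₂ = e₂ := by simp [Algebra.TensorProduct.tmul_mul_tmul, Prod.mk_zero_zero]

theorem e₁_e₂ : e₁ * e₂ = 0 := by simp [Algebra.TensorProduct.tmul_mul_tmul, Prod.mk_zero_zero]

theorem e_add : e₁ + e₂ = 1 := by
  rw [← TensorProduct.tmul_add, Algebra.TensorProduct.one_def]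
  simp [Prod.one_eq_mk]

theorem inl_one : i₁ 1 = e₁ := by simp [Algebra.TensorProduct.one_def]

theorem inr_one : i₂ 1 = e₂ := by simp [Algebra.TensorProduct.one_def]

theorem inl_smul (s : S) (x : S ⊗[A] B₁) :
    i₁ (s • x) = (s ⊗ₜ[A] ((1, 0) : B₁ × B₂)) * i₁ x := by
  induction x using TensorProduct.induction_on with
  | zero => simp
  | add a b ha hb => simp only [smul_add, map_add, mul_add, ha, hb]
  | tmul t a => simp [Algebra.TensorProduct.tmul_mul_tmul, TensorProduct.smul_tmul']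

theorem inr_smul (s : S) (x : S ⊗[A] B₂) :
    i₂ (s • x) = (s ⊗ₜ[A] ((0, 1) : B₁ × B₂)) * i₂ x := by
  induction x using TensorProduct.induction_on with
  | zero => simp
  | add a b ha hb => simp only [smul_add, map_add, mul_add, ha, hb]
  | tmul t a => simp [Algebra.TensorProduct.tmul_mul_tmul, TensorProduct.smul_tmul']

theorem inl_fst_add (x : S ⊗[A] (B₁ × B₂)) :
    i₁ ((LinearMap.fst A B₁ B₂).lTensor S x) + i₂ ((LinearMap.snd A B₁ B₂).lTensor S x) = x := by
  induction x using TensorProduct.induction_on with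
  | zero => simp
  | add a b ha hb =>
    simp only [map_add]
    conv_rhs => rw [← ha, ← hb]
    abel
  | tmul t a =>
    simp only [LinearMap.lTensor_tmul, ← TensorProduct.tmul_add]
    simp

end

variable {d : ℕ} (F : MulLaw A (B₁ × B₂) A d)

theorem ev_e_pow {c c' : B₁ × B₂} (hc : c + c' = 1) {k : ℕ} (hk : pw F c = X ^ k)
    (S : Type u) [CommSemiring S] [Algebra A S] (u : S) :
    ev F S (u ⊗ₜ[A] c + (1 : S) ⊗ₜ[A] c') = (u ^ k) ⊗ₜ[A] (1 : A) := by
  have h0 : ev F A[X] ((X : A[X]) ⊗ₜ[A] c + (1 : A[X]) ⊗ₜ[A] c') = (X ^ k) ⊗ₜ[A] (1 : A) := by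
    apply (TensorProduct.rid A A[X]).injective
    rw [TensorProduct.rid_tmul, one_smul, ← hk, pw, evl_eq_rid,
      show (1 : B₁ × B₂) - c = c' from sub_eq_iff_eq_add'.mpr hc.symm]
  have h1 := ev_nat F (aeval (R := A) u) ((X : A[X]) ⊗ₜ[A] c + (1 : A[X]) ⊗ₜ[A] c')
  rw [h0, map_add, rB_tmul, rB_tmul, rB_tmul, map_one, aeval_X, map_pow, aeval_X] at h1
  exact h1.symm

/-- The first factor. -/
noncomputable def factorL (k : ℕ) (hk : pw F (1, 0) = X ^ k) : MulLaw A B₁ A k where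
  law :=
  { toFun' := fun S _ _ z =>
      ev F S ((LinearMap.inl A B₁ B₂).lTensor S z + (1 : S) ⊗ₜ[A] ((0, 1) : B₁ × B₂))
    isCompat' := fun {S} _ _ {S'} _ _ φ => by
      funext z
      simp only [Function.comp_apply]
      rw [rTensor_eq_rB, ev_nat, map_add, rB_tmul, map_one, ← rTensor_eq_rB,
        ← LinearMap.comp_apply (LinearMap.rTensor _ _), LinearMap.rTensor_comp_lTensor,
        ← LinearMap.lTensor_comp_rTensor, LinearMap.comp_apply] }
  homog S _ _ s z := by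
    show ev F S _ = s ^ k • ev F S _
    rw [show s ^ k • ev F S ((LinearMap.inl A B₁ B₂).lTensor S z + _) =
        (s ^ k) ⊗ₜ[A] (1 : A) * ev F S ((LinearMap.inl A B₁ B₂).lTensor S z + _) by
      rw [← mul_one (s ^ k), ← smul_eq_mul, ← TensorProduct.smul_tmul', ← Algebra.TensorProduct.one_def,
        smul_mul_assoc, one_mul, smul_eq_mul, mul_one]]
    rw [← ev_e_pow F (c := (1, 0)) (c' := (0, 1)) (by simp [Prod.one_eq_mk]) hk S s, ← ev_mul]
    congr 1
    have h1 : s ⊗ₜ[A] ((1, 0) : B₁ × B₂) * (1 : S) ⊗ₜ[A] ((0, 1) : B₁ × B₂) = 0 := by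
      simp [Algebra.TensorProduct.tmul_mul_tmul, Prod.mk_zero_zero]
    rw [inl_smul, add_mul, mul_add, mul_add, h1, mul_comm ((1 : S) ⊗ₜ[A] ((0, 1) : B₁ × B₂)),
      inl_e₂, e₂_e₂, add_zero, zero_add]
  mult S _ _ := by
    refine ⟨?_, fun x y => ?_⟩
    · show ev F S _ = 1
      rw [inl_one, e_add, ev_one]
    · show ev F S _ = ev F S _ * ev F S _
      rw [← ev_mul, inl_mul, add_mul, mul_add, mul_add, inl_e₂,
        mul_comm ((1 : S) ⊗ₜ[A] ((0, 1) : B₁ × B₂)), inl_e₂, e₂_e₂, add_zero, zero_add]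

/-- The second factor. -/
noncomputable def factorR (k : ℕ) (hk : pw F (0, 1) = X ^ k) : MulLaw A B₂ A k where
  law :=
  { toFun' := fun S _ _ z =>
      ev F S ((LinearMap.inr A B₁ B₂).lTensor S z + (1 : S) ⊗ₜ[A] ((1, 0) : B₁ × B₂))
    isCompat' := fun {S} _ _ {S'} _ _ φ => by
      funext z
      simp only [Function.comp_apply]
      rw [rTensor_eq_rB, ev_nat, map_add, rB_tmul, map_one, ← rTensor_eq_rB,
        ← LinearMap.comp_apply (LinearMap.rTensor _ _), LinearMap.rTensor_comp_lTensor,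
        ← LinearMap.lTensor_comp_rTensor, LinearMap.comp_apply] }
  homog S _ _ s z := by
    show ev F S _ = s ^ k • ev F S _
    rw [show s ^ k • ev F S ((LinearMap.inr A B₁ B₂).lTensor S z + _) =
        (s ^ k) ⊗ₜ[A] (1 : A) * ev F S ((LinearMap.inr A B₁ B₂).lTensor S z + _) by
      rw [← mul_one (s ^ k), ← smul_eq_mul, ← TensorProduct.smul_tmul', ← Algebra.TensorProduct.one_def,
        smul_mul_assoc, one_mul, smul_eq_mul, mul_one]]
    rw [← ev_e_pow F (c := (0, 1)) (c' := (1, 0)) (by simp [Prod.one_eq_mk]) hk S s, ← ev_mul]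
    congr 1
    have h1 : s ⊗ₜ[A] ((0, 1) : B₁ × B₂) * (1 : S) ⊗ₜ[A] ((1, 0) : B₁ × B₂) = 0 := by
      simp [Algebra.TensorProduct.tmul_mul_tmul, Prod.mk_zero_zero]
    rw [inr_smul, add_mul, mul_add, mul_add, h1, mul_comm ((1 : S) ⊗ₜ[A] ((1, 0) : B₁ × B₂)),
      inr_e₁, e₁_e₁, add_zero, zero_add]
  mult S _ _ := by
    refine ⟨?_, fun x y => ?_⟩
    · show ev F S _ = 1
      rw [inr_one, add_comm, e_add, ev_one]
    · show ev F S _ = ev F S _ * ev F S _
      rw [← ev_mul, inr_mul, add_mul, mul_add, mul_add, inr_e₁,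
        mul_comm ((1 : S) ⊗ₜ[A] ((1, 0) : B₁ × B₂)), inr_e₁, e₁_e₁, add_zero, zero_add]

theorem exists_factors [ConnectedSpace (PrimeSpectrum A)] :
    ∃ d₁ d₂ : ℕ, d₁ + d₂ = d ∧
      (∃ (F₁ : MulLaw A B₁ A d₁) (F₂ : MulLaw A B₂ A d₂),
        ∀ (S : Type u) [CommSemiring S] [Algebra A S] (x : S ⊗[A] (B₁ × B₂)),
          F.law.toFun' S x = F₁.law.toFun' S (LinearMap.lTensor S (LinearMap.fst A B₁ B₂) x) *
            F₂.law.toFun' S (LinearMap.lTensor S (LinearMap.snd A B₁ B₂) x)) ∧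
      ∀ (c₁ c₂ : ℕ) (G₁ : MulLaw A B₁ A c₁) (G₂ : MulLaw A B₂ A c₂),
        (∀ (S : Type u) [CommSemiring S] [Algebra A S] (x : S ⊗[A] (B₁ × B₂)),
          F.law.toFun' S x = G₁.law.toFun' S (LinearMap.lTensor S (LinearMap.fst A B₁ B₂) x) *
            G₂.law.toFun' S (LinearMap.lTensor S (LinearMap.snd A B₁ B₂) x)) →
          c₁ = d₁ ∧ c₂ = d₂ := by
  obtain ⟨k, hk⟩ := exists_pw_eq_pow F (b := (1, 0)) (by simp)
  obtain ⟨l, hl⟩ := exists_pw_eq_pow F (b := (0, 1)) (by simp)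
  have : Nontrivial A := PrimeSpectrum.nontrivial (Nonempty.some inferInstance : PrimeSpectrum A)
  have hinj : ∀ m n : ℕ, ((X : A[X]) ^ m) ⊗ₜ[A] (1 : A) = (X ^ n) ⊗ₜ[A] (1 : A) → m = n := by
    intro m n h
    have h' := congrArg (TensorProduct.rid A A[X]) h
    rw [TensorProduct.rid_tmul, TensorProduct.rid_tmul, one_smul, one_smul] at h'
    simpa using congrArg Polynomial.natDegree h'
  have hc : ((1, 0) : B₁ × B₂) + (0, 1) = 1 := by simp [Prod.one_eq_mk]
  have hc' : ((0, 1) : B₁ × B₂) + (1, 0) = 1 := by simp [Prod.one_eq_mk]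
  have hsum : k + l = d := by
    refine hinj _ _ ?_
    rw [pow_add, ← mul_one (1 : A), ← Algebra.TensorProduct.tmul_mul_tmul, ← ev_e_pow F hc hk,
      ← ev_e_pow F hc' hl, ← ev_mul]
    have h2 := ev_smul F (X : A[X]) (1 : A[X] ⊗[A] (B₁ × B₂))
    rw [ev_one] at h2
    have h3 : ((X : A[X]) ⊗ₜ[A] ((1, 0) : B₁ × B₂) + 1 ⊗ₜ[A] (0, 1)) *
        ((X : A[X]) ⊗ₜ[A] (0, 1) + 1 ⊗ₜ[A] (1, 0)) = (X : A[X]) • (1 : A[X] ⊗[A] (B₁ × B₂)) := by
      simp only [add_mul, mul_add, Algebra.TensorProduct.tmul_mul_tmul, Prod.mk_mul_mk, mul_one,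
        one_mul, mul_zero, zero_mul, Prod.mk_zero_zero, TensorProduct.tmul_zero, add_zero, zero_add]
      rw [← TensorProduct.tmul_add, Algebra.TensorProduct.one_def, TensorProduct.smul_tmul',
        smul_eq_mul, mul_one]
      simp [Prod.one_eq_mk]
    rw [h3, h2, Algebra.TensorProduct.one_def, TensorProduct.smul_tmul', smul_eq_mul, mul_one,
      mul_one]
  refine ⟨k, l, hsum, ⟨factorL F k hk, factorR F l hl, fun S _ _ x => ?_⟩,
    fun c₁ c₂ G₁ G₂ h => ?_⟩
  · show ev F S x = ev F S _ * ev F S _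
    rw [← ev_mul, add_mul, mul_add, mul_add, inl_inr, inl_e₁,
      mul_comm ((1 : S) ⊗ₜ[A] ((0, 1) : B₁ × B₂)), inr_e₂,
      mul_comm ((1 : S) ⊗ₜ[A] ((0, 1) : B₁ × B₂)), e₁_e₂, add_zero, zero_add, inl_fst_add]
  · have h1 := h A[X] ((X : A[X]) ⊗ₜ[A] ((1, 0) : B₁ × B₂) + 1 ⊗ₜ[A] (0, 1))
    have h2 := h A[X] ((X : A[X]) ⊗ₜ[A] ((0, 1) : B₁ × B₂) + 1 ⊗ₜ[A] (1, 0))
    simp only [map_add, LinearMap.lTensor_tmul, LinearMap.fst_apply, LinearMap.snd_apply,
      TensorProduct.tmul_zero, add_zero, zero_add] at h1 h2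
    have key : ∀ {B : Type u} [CommRing B] [Algebra A B] {c : ℕ} (G : MulLaw A B A c),
        G.law.toFun' A[X] ((X : A[X]) ⊗ₜ[A] (1 : B)) = (X ^ c) ⊗ₜ[A] (1 : A) ∧
          G.law.toFun' A[X] ((1 : A[X]) ⊗ₜ[A] (1 : B)) = 1 := by
      intro B _ _ c G
      refine ⟨?_, (G.mult A[X]).1⟩
      have h2 := ev_smul G (X : A[X]) (1 : A[X] ⊗[A] B)
      rw [ev_one, Algebra.TensorProduct.one_def, Algebra.TensorProduct.one_def,
        TensorProduct.smul_tmul', TensorProduct.smul_tmul', smul_eq_mul, mul_one, smul_eq_mul,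
        mul_one] at h2
      exact h2
    rw [(key G₁).1, (key G₂).2, mul_one] at h1
    rw [(key G₁).2, (key G₂).1, one_mul] at h2
    exact ⟨hinj _ _ (h1.symm.trans (ev_e_pow F hc hk A[X] X)),
      hinj _ _ (h2.symm.trans (ev_e_pow F hc' hl A[X] X))⟩

end Groth.Agent.PolLib
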