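import Groth.Agent.PolLib.Points
import Mathlib.FieldTheory.IsAlgClosed.AlgebraicClosure
import Mathlib.RingTheory.TensorProduct.MvPolynomial
import Mathlib.RingTheory.MvPolynomial.Basic
import Mathlib.Algebra.MvPolynomial.Nilpotent

/-! The image of a law with reduced target is reduced. -/

universe u

open scoped TensorProduct

namespace Groth.Agent.PolLib

open PolLaw Polynomial

variable {A : Type u} [CommRing A] {B : Type u} [CommRing B] [Algebra A B]
  {C : Type u} [CommRing C] [Algebra A C] {d : ℕ}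

theorem point_kills_ker' (F : MulLaw A B C d) {K : Type u} [Field K] [Algebra A K] (g : C →ₐ[A] K)
    (x : Fin d → (B →ₐ[A] K))
    (hx : ∀ (R : Type u) [CommRing R] [Algebra A R] (j : K →ₐ[A] R) (z : R ⊗[A] B),
      evl F (j.comp g) z = ∏ i, mu (j.comp (x i)) z)
    {b : B} (hb : b ∈ PolLaw.ker F.law) (i : Fin d) : x i b = 0 := by
  have h0 := evl_add_of_mem_ker F hb ((IsScalarTower.toAlgHom A K K[X]).comp g) 1
    ((X : K[X]) ⊗ₜ[A] 1)
  rw [evl_one, Algebra.TensorProduct.tmul_mul_tmul, mul_one, one_mul, hx] at h0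
  have h3 := IsUnit.prod_iff.mp (h0 ▸ isUnit_one) i (Finset.mem_univ i)
  simp only [map_add, map_one, mu_tmul, AlgHom.comp_apply, IsScalarTower.coe_toAlgHom',
    Polynomial.algebraMap_apply, Algebra.algebraMap_self, RingHom.id_apply] at h3
  have h4 := Polynomial.natDegree_eq_zero_of_isUnit h3
  by_contra hne
  rw [add_comm, ← Polynomial.C_1, Polynomial.natDegree_add_C, mul_comm,
    Polynomial.natDegree_C_mul hne, Polynomial.natDegree_X] at h4
  exact one_ne_zero h4

theorem exists_field_point {T : Type u} [CommRing T] (P : Ideal T) [P.IsPrime] :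
    ∃ (Ω : Type u) (_ : Field Ω) (_ : IsAlgClosed Ω) (f : T →+* Ω), ∀ u, f u = 0 ↔ u ∈ P := by
  refine ⟨AlgebraicClosure (FractionRing (T ⧸ P)), inferInstance, inferInstance,
    ((algebraMap (FractionRing (T ⧸ P)) _).comp (algebraMap (T ⧸ P) _)).comp (Ideal.Quotient.mk P),
    fun u => ?_⟩
  simp only [RingHom.comp_apply]
  rw [map_eq_zero_iff _ (RingHom.injective _), map_eq_zero_iff _ (IsFractionRing.injective _ _),
    Ideal.Quotient.eq_zero_iff_mem]

theorem ker_pow_mem (F : MulLaw A B C d) [IsReduced C] {b : B} {n : ℕ}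
    (hb : b ^ n ∈ PolLaw.ker F.law) : b ∈ PolLaw.ker F.law := by
  refine mem_ker_of_polynomial F fun m x w => ?_
  let R := MvPolynomial (Fin m) A ⊗[A] C
  let ι : MvPolynomial (Fin m) A →ₐ[A] R := Algebra.TensorProduct.includeLeft
  let g : C →ₐ[A] R := Algebra.TensorProduct.includeRight
  have key : ∀ z, evl F g (rB B ι z) = ev F _ z := by
    intro z
    rw [evl, ← ev_nat]
    generalize ev F _ z = v
    induction v using TensorProduct.induction_on with
    | zero => simp
    | tmul a b => simp [ι, g, R]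
    | add a b ha hb => simp [ha, hb]
  have hred : IsReduced R :=
    isReduced_of_injective ((Algebra.TensorProduct.comm A (MvPolynomial (Fin m) A) C).trans
      (MvPolynomial.algebraTensorAlgEquiv A C |>.restrictScalars A)) (AlgEquiv.injective _)
  rw [← key, ← key x, map_add, map_mul, rB_tmul, map_one, ← sub_eq_zero]
  refine IsNilpotent.eq_zero ?_
  rw [nilpotent_iff_mem_prime]
  intro P _
  obtain ⟨K, _, _, φ, hφ⟩ := exists_field_point P
  let _ : Algebra A K := (φ.comp (algebraMap A R)).toAlgebra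
  let q : R →ₐ[A] K := { φ with commutes' := fun _ => rfl }
  have hq : ∀ u, q u = 0 → u ∈ P := fun u hu => (hφ u).mp hu
  apply hq
  obtain ⟨h, hh⟩ := exists_points F (q.comp g)
  have hk : ∀ i, h i b = 0 := fun i => by
    have := point_kills_ker' F (q.comp g) h hh hb i
    rw [map_pow] at this
    exact eq_zero_of_pow_eq_zero this
  have e : ∀ z, q (evl F g z) = ∏ i, mu (h i) (rB B q z) := fun z => by
    rw [← evl_nat F g q, ← AlgHom.id_comp (q.comp g), hh]
    exact Finset.prod_congr rfl fun i _ => by rw [AlgHom.id_comp]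
  rw [map_sub, e, e, sub_eq_zero]
  refine Finset.prod_congr rfl fun i _ => ?_
  rw [map_add, map_mul, rB_tmul, map_one, map_add, map_mul, mu_tmul, one_mul, hk, mul_zero,
    add_zero]

theorem isReduced_image (F : MulLaw A B C d) [IsReduced C] :
    IsReduced (PolLaw.image F.law) := by
  refine ⟨fun c hc => ?_⟩
  obtain ⟨n, hn⟩ := hc
  obtain ⟨b, rfl⟩ := Ideal.Quotient.mk_surjective c
  rw [← map_pow, Ideal.Quotient.eq_zero_iff_mem] at hn
  exact Ideal.Quotient.eq_zero_iff_mem.mpr (ker_pow_mem F hn)

end Groth.Agent.PolLib
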