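import Groth.Agent.PolLib.InducedLaw
import Groth.Agent.PolLib.Finite
import Mathlib.RingTheory.TensorProduct.Basic
import Mathlib.LinearAlgebra.Basis.VectorSpace
import Mathlib.FieldTheory.IsAlgClosed.AlgebraicClosure

/-! Points of symmetric tensors are determined by, and rational over, points of divided powers. -/

universe u v w

open scoped TensorProduct

namespace Groth.Agent.PolLib

open PolLaw

variable {A : Type u} [CommRing A] {B : Type u} [CommRing B] [Algebra A B]
  {C : Type u} [CommRing C] [Algebra A C] {d : ℕ}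

section Value

variable {K Ω : Type u} [Field K] [Field Ω] [Algebra A K] [Algebra A Ω] [Algebra K Ω]
  [IsScalarTower A K Ω]

/-- The map of tensor powers along `A → K`. -/
noncomputable def bcTP (K : Type u) [Field K] [Algebra A K] :
    (⨂[A] _ : Fin d, B) →ₗ[A] ⨂[K] _ : Fin d, K ⊗[A] B :=
  PiTensorProduct.lift
    (((PiTensorProduct.tprod K).restrictScalars A).compLinearMap fun _ => TensorProduct.mk A K B 1)

theorem bcTP_tprod (f : Fin d → B) :
    bcTP K (PiTensorProduct.tprod A f) =
      PiTensorProduct.tprod K (fun i => (1 : K) ⊗ₜ[A] f i) := by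
  simp [bcTP]

theorem bcTP_mem (t : SymTen.TS A B d) :
    bcTP K ((SymTen.TS A B d).val t) ∈ SymTen.TS K (K ⊗[A] B) d := by
  have key : ∀ (σ : Equiv.Perm (Fin d)) (z : ⨂[A] _ : Fin d, B),
      PiTensorProduct.reindex K (fun _ : Fin d => K ⊗[A] B) σ (bcTP K z) =
        bcTP K (PiTensorProduct.reindex A (fun _ : Fin d => B) σ z) := by
    intro σ z
    induction z using PiTensorProduct.induction_on with
    | smul_tprod r f =>
      simp only [map_smul, bcTP_tprod, PiTensorProduct.reindex_tprod]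
      rw [← LinearEquiv.coe_coe, LinearMap.map_smul_of_tower, LinearEquiv.coe_coe,
        PiTensorProduct.reindex_tprod]
    | add x y hx hy => simp only [map_add, hx, hy]
  intro σ
  rw [key]
  exact congrArg _ (t.2 σ)

set_option maxHeartbeats 400000 in
/-- Values of a point of the tensor power on symmetric tensors lie in any field containing the
values on divided powers. -/
theorem value_mem_range (γ : MulLaw A B C d) (ξ : C →ₐ[A] ⨂[A] _ : Fin d, B)
    (hξ : ∀ (S : Type u) [CommSemiring S] [Algebra A S] (x : S ⊗[A] B),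
      bc ξ S (ev γ S x) = (SymTen.tpowLaw A B d).law.toFun' S x)
    (y : (⨂[A] _ : Fin d, B) →ₐ[A] Ω) (g : C →ₐ[A] K)
    (hg : ∀ c, algebraMap K Ω (g c) = y (ξ c)) (t : SymTen.TS A B d) :
    y ((SymTen.TS A B d).val t) ∈ (algebraMap K Ω).range := by
  classical
  let h : Fin d → B →ₐ[A] Ω := fun i =>
    y.comp (PiTensorProduct.singleAlgHom (R := A) (A := fun _ : Fin d => B) i)
  let H : Fin d → K ⊗[A] B →ₐ[K] Ω := fun i =>
    Algebra.TensorProduct.lift (Algebra.ofId K Ω) (h i) fun _ _ => Commute.all _ _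
  let Pr : (⨂[K] _ : Fin d, K ⊗[A] B) →ₗ[K] Ω := PiTensorProduct.lift
    ((MultilinearMap.mkPiAlgebra K (Fin d) Ω).compLinearMap fun i => (H i).toLinearMap)
  have hPr : ∀ z, Pr (bcTP K z) = y z := by
    intro z
    induction z using PiTensorProduct.induction_on with
    | add a b ha hb => simp only [map_add, ha, hb]
    | smul_tprod r f =>
      simp only [map_smul, LinearMap.map_smul_of_tower, bcTP_tprod, Pr,
        PiTensorProduct.lift.tprod, MultilinearMap.compLinearMap_apply,
        MultilinearMap.mkPiAlgebra_apply, AlgHom.toLinearMap_apply, H,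
        Algebra.TensorProduct.lift_tmul, map_one, one_mul, h, AlgHom.comp_apply]
      rw [← map_prod]
      congr 2
      simp only [PiTensorProduct.singleAlgHom_apply, MonoidHom.mulSingle_apply]
      rw [← PiTensorProduct.tprod_prod]
      exact congrArg _ (Finset.univ_prod_mulSingle f)
  let κ := Module.Basis.ofVectorSpaceIndex K (K ⊗[A] B)
  let b : Module.Basis κ K (K ⊗[A] B) := Module.Basis.ofVectorSpace K (K ⊗[A] B)
  suffices horb : ∀ q : Orb κ d,
      Pr ((SymTen.TS K (K ⊗[A] B) d).val (orb b q)) ∈ (algebraMap K Ω).range by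
    rw [← hPr]
    have hspan : (⟨_, bcTP_mem (K := K) t⟩ : SymTen.TS K (K ⊗[A] B) d) ∈
        Submodule.span K (Set.range (orb b : Orb κ d → _)) := span_orb b ▸ trivial
    suffices h' : ∀ u ∈ Submodule.span K (Set.range (orb b : Orb κ d → _)),
        Pr ((SymTen.TS K (K ⊗[A] B) d).val u) ∈ (algebraMap K Ω).range from h' _ hspan
    intro u hu
    induction hu using Submodule.span_induction with
    | zero => simp
    | mem u hu => obtain ⟨q, rfl⟩ := hu; exact horb q
    | add u v _ _ hu hv => rw [map_add, map_add]; exact add_mem hu hv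
    | smul a u _ hu =>
      rw [map_smul, map_smul, Algebra.smul_def]
      exact mul_mem ⟨a, rfl⟩ hu
  intro q
  let s : Finset κ := (qexpo q).support
  let j : K →ₐ[A] MvPolynomial κ K := IsScalarTower.toAlgHom A K (MvPolynomial κ K)
  let jK : K →ₐ[A] Ω := IsScalarTower.toAlgHom A K Ω
  let ψ : MvPolynomial κ K →ₐ[A] MvPolynomial κ Ω := MvPolynomial.mapAlgHom jK
  let z : MvPolynomial κ K ⊗[A] B :=
    ∑ k ∈ s, (MvPolynomial.X k ⊗ₜ[A] (1 : B)) * rB B j (b k)
  let Y : (⨂[A] _ : Fin d, B) →ₐ[A] MvPolynomial κ Ω :=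
    (IsScalarTower.toAlgHom A Ω (MvPolynomial κ Ω)).comp y
  have h1 : ψ.comp (j.comp g) = Y.comp ξ := AlgHom.ext fun c => by
    simp [ψ, j, jK, Y, ← hg]
  have h2 : ψ (evl γ (j.comp g) z) =
      mu Y ((SymTen.tpowLaw A B d).law.toFun' _ (rB B ψ z)) := by
    rw [← evl_nat γ (j.comp g) ψ, h1, ← hξ, mu_bc]
    rfl
  have h3 : mu Y ((SymTen.tpowLaw A B d).law.toFun' _ (rB B ψ z)) =
      ∏ i, ∑ k ∈ s, MvPolynomial.X k * MvPolynomial.C (H i (b k)) := by
    rw [SymTen.tpowLaw, MulLaw.prodMap_toFun', map_prod]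
    refine Finset.prod_congr rfl fun i _ => ?_
    simp only [z, map_sum, map_mul]
    refine Finset.sum_congr rfl fun k _ => ?_
    congr 1
    · rw [rB_tmul]
      show mu Y (bc _ _ ((ψ (MvPolynomial.X k)) ⊗ₜ[A] (1 : B))) = _
      simp [ψ, ← PiTensorProduct.one_def]
    · rw [rB_rB]
      show mu Y (bc _ _ _) = _
      generalize b k = e
      induction e using TensorProduct.induction_on with
      | zero => simp
      | add a a' ha ha' => simp only [map_add, ha, ha']
      | tmul r e => simp [H, h, Y, ψ, j, jK, MvPolynomial.C_mul, bc_tmul]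
  have h4 : MvPolynomial.coeff (qexpo q)
      (∏ i : Fin d, ∑ k ∈ s, MvPolynomial.X k * MvPolynomial.C (H i (b k))) =
      Pr ((SymTen.TS K (K ⊗[A] B) d).val (orb b q)) := by
    rw [Finset.prod_univ_sum, MvPolynomial.coeff_sum, val_orb, map_sum]
    have e : ∀ c : Fin d → κ, (∏ i, MvPolynomial.X (c i) * MvPolynomial.C (H i (b (c i)))) =
        MvPolynomial.monomial (expo c) (∏ i, H i (b (c i))) := fun c => by
      rw [Finset.prod_mul_distrib, ← map_prod, mul_comm, MvPolynomial.C_apply, expo]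
      have : (∏ i, (MvPolynomial.X (c i) : MvPolynomial κ Ω)) =
          MvPolynomial.monomial (∑ i, Finsupp.single (c i) 1) 1 := by
        rw [MvPolynomial.monomial_sum_one]; rfl
      rw [this, MvPolynomial.monomial_mul, zero_add, mul_one]
    simp only [e, MvPolynomial.coeff_monomial]
    rw [← Finset.sum_filter]
    refine Finset.sum_congr (Finset.ext fun c => ?_) fun c _ => ?_
    · rw [Finset.mem_filter, Fintype.mem_piFinset, mem_fib, ← qexpo_cls c]
      refine ⟨fun hc => qexpo_injective hc.2, fun hc => ⟨fun i => ?_, by rw [hc]⟩⟩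
      show c i ∈ (qexpo q).support
      rw [← hc, qexpo_cls, expo_support]
      exact Finset.mem_image_of_mem _ (Finset.mem_univ i)
    · simp only [beta_apply, Pr, PiTensorProduct.lift.tprod, MultilinearMap.compLinearMap_apply,
        MultilinearMap.mkPiAlgebra_apply, AlgHom.toLinearMap_apply]
  rw [← h4, ← h3, ← h2]
  exact ⟨_, (MvPolynomial.coeff_map _ _ _).symm⟩

end Value

section Cor

theorem exists_point_of_prime {T : Type u} [CommRing T] (P : Ideal T) [P.IsPrime] :
    ∃ (Ω : Type u) (_ : Field Ω) (_ : IsAlgClosed Ω) (f : T →+* Ω), ∀ u, f u = 0 ↔ u ∈ P := by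
  refine ⟨AlgebraicClosure (FractionRing (T ⧸ P)), inferInstance, inferInstance,
    ((algebraMap (FractionRing (T ⧸ P)) _).comp (algebraMap (T ⧸ P) _)).comp (Ideal.Quotient.mk P),
    fun u => ?_⟩
  simp only [RingHom.comp_apply]
  rw [map_eq_zero_iff _ (RingHom.injective _), map_eq_zero_iff _ (IsFractionRing.injective _ _),
    Ideal.Quotient.eq_zero_iff_mem]

variable (γ : MulLaw A B C d) (hγ : IsGammaD γ) (φ : C →ₐ[A] SymTen.TS A B d)
  (hφ : ∀ (S : Type u) [CommSemiring S] [Algebra A S] (n : ℕ) (s : Fin n → S) (b : Fin n → B),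
    ((SymTen.TS A B d).val.comp φ).toLinearMap.lTensor S (γ.law.toFun' S (∑ j, s j ⊗ₜ[A] b j)) =
      ∑ c : Fin d → Fin n, (∏ i, s (c i)) ⊗ₜ[A] PiTensorProduct.tprod A (fun i => b (c i)))

include hφ in
theorem exists_fraction {Ω : Type u} [Field Ω] [IsAlgClosed Ω] (f : SymTen.TS A B d →+* Ω)
    (t : SymTen.TS A B d) :
    ∃ a s : C, f (φ s) ≠ 0 ∧ f (φ s) * f t = f (φ a) := by
  let _ : Algebra A Ω := (f.comp (algebraMap A (SymTen.TS A B d))).toAlgebra
  have := isIntegral_over_TS A B d
  obtain ⟨y, hy⟩ := exists_ringHom_ext_of_isIntegral (T := ⨂[A] _ : Fin d, B) f (fun u hu => by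
    have : u = 0 := Subtype.ext (RingHom.mem_ker.mp hu)
    simp [this])
  have hy' : ∀ u, y ((SymTen.TS A B d).val u) = f u := fun u => RingHom.congr_fun hy u
  let y' : (⨂[A] _ : Fin d, B) →ₐ[A] Ω :=
    { y with
      commutes' := fun a => by
        show y (algebraMap A _ a) = f (algebraMap A _ a)
        rw [← hy']
        rfl }
  let r : C →+* Ω := f.comp φ.toRingHom
  let K : Subfield Ω := Subfield.closure (r.range : Set Ω)
  have hr : ∀ c, r c ∈ K := fun c => Subfield.subset_closure ⟨c, rfl⟩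
  let _ : Algebra A K := ((r.comp (algebraMap A C)).codRestrict K fun a => hr _).toAlgebra
  have : IsScalarTower A K Ω := IsScalarTower.of_algebraMap_eq fun a => by
    show f (algebraMap A _ a) = f (φ (algebraMap A C a))
    rw [AlgHom.commutes]
  let g : C →ₐ[A] K := { r.codRestrict K hr with commutes' := fun a => rfl }
  obtain ⟨⟨k, hk⟩, hkt⟩ := value_mem_range γ ((SymTen.TS A B d).val.comp φ)
    (fun S _ _ x => tpowLaw_eq_of_sum (f := (SymTen.TS A B d).val.comp φ) hφ S x) y' g
    (fun c => (hy' (φ c)).symm) t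
  obtain ⟨a, ha, s, hs, hk'⟩ := Subfield.mem_closure_iff.mp hk
  rw [Subring.closure_eq] at ha hs
  obtain ⟨a, rfl⟩ := ha
  obtain ⟨s, rfl⟩ := hs
  have hft : k = f t := hkt.trans (hy' t)
  by_cases h0 : f (φ s) = 0
  · refine ⟨0, 1, by simp, ?_⟩
    have hk0 : k = 0 := by rw [← hk', show r s = 0 from h0, div_zero]
    simp [← hft, hk0]
  · exact ⟨a, s, h0, by rw [← hft, ← hk']; exact mul_div_cancel₀ _ h0⟩

include hφ in
theorem exists_fraction' (P : Ideal (SymTen.TS A B d)) [P.IsPrime] (t : SymTen.TS A B d) :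
    ∃ a s : C, φ s ∉ P ∧ φ s * t - φ a ∈ P := by
  obtain ⟨Ω, _, _, f, hf⟩ := exists_point_of_prime P
  obtain ⟨a, s, h0, h⟩ := exists_fraction γ φ hφ f t
  exact ⟨a, s, fun hs => h0 ((hf _).mpr hs), (hf _).mp (by rw [map_sub, map_mul, h, sub_self])⟩

include hγ hφ in
theorem pow_factorial_spec :
    (∀ x : C, φ x = 0 → x ^ d.factorial = 0) ∧
      (∀ y : SymTen.TS A B d, ∃ c, φ c = y ^ d.factorial) := by
  obtain ⟨F, h1, h2⟩ := exists_induced_TS hγ φ hφ
  constructor
  · intro x hx
    have e := congrArg (fun G : MulLaw A C C d.factorial => ev G A (1 ⊗ₜ[A] x)) h2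
    simp only [ev_precomp, bc_tmul, hx, TensorProduct.tmul_zero] at e
    have z0 := ev_smul F (0 : A) (0 : A ⊗[A] SymTen.TS A B d)
    simp only [zero_smul, zero_pow d.factorial_ne_zero] at z0
    have e' : (0 : A ⊗[A] C) = (1 ⊗ₜ[A] x) ^ d.factorial := z0.symm.trans e
    rw [Algebra.TensorProduct.tmul_pow, one_pow] at e'
    simpa using (congrArg (TensorProduct.lid A C) e').symm
  · intro y
    refine ⟨F.law.ground y, ?_⟩
    have e := congrArg (fun G : MulLaw A (SymTen.TS A B d) (SymTen.TS A B d) d.factorial =>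
      ev G A (1 ⊗ₜ[A] y)) h1
    simp only [ev_postcomp] at e
    rw [show ev F A ((1 : A) ⊗ₜ[A] y) = (1 : A) ⊗ₜ[A] F.law.ground y from
      (PolynomialLaw.one_tmul_ground_apply' (f := F.law) y).symm, bc_tmul] at e
    have e' : (1 : A) ⊗ₜ[A] φ (F.law.ground y) = (1 ⊗ₜ[A] y) ^ d.factorial := e
    rw [Algebra.TensorProduct.tmul_pow, one_pow] at e'
    simpa using congrArg (TensorProduct.lid A (SymTen.TS A B d)) e'

end Cor

end Groth.Agent.PolLib
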